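import Cfsg.Agent.DS.Gen.Split
import Cfsg.Agent.H316.U6Norm_m3
import Mathlib
import Cfsg.Agent.H234.HT.Diag
import Cfsg.Agent.H795.SetTor_m3
import Cfsg.Agent.H129.TorusChar
import Cfsg.Agent.H522.FldSixLib
import Cfsg.Agent.Lib.FastPerm
import Cfsg.Agent.FastGrp
import Cfsg.Agent.Prune
set_option linter.all false

section
prune_inst 0x7fbdfdfebfe8f3ffffff7e3ff6decfff95aabfffa6fffd43ffe0e1bf0bdf0b008de5fb8d8de01afe1ff6623c11ba7b13ffffffffe86bfc7ffffd5ff41ffbee5ff7ff350d71d4ac3e1ff64fff93f07f8e7f3fffffffffffffffffffffffffffbeffbfffffffff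

-- part: DS/Ex/Defs
section
prune_inst 0x40020140100c00000001c00821100068514000590002b8001d1640b400646f72120032721fc401a0009182a64000e800000000079403000002a008e00411800800caa20c2b1081000820006c0f807100000000000000000000000000000041004000000000
set_option linter.all false
open scoped Cfsg.Agent.FastGrp

/-!
# S5881: the exceptional groups `F₄, E₆, E₇, E₈, ²E₆` inside the algebraic group (interface, helper60)

`Y = YY D p = D.group (KK p)` (adjoint group over the algebraic closure of the prime field), `T = TT D (KK p)`,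
`X a = XX D l (KK p) a`.

* `WFr β` : `β` normalizes `T` and permutes the root groups; `SFr β` : it does so through a lattice automorphism
  (`BpExc.Fr.Fr`), which is trivial for `E₈`;
* `Ext m A` : every automorphism of the finite group `K` (with `m : MData hp p q K`) is induced by `conj y * β`, `β` in the
  commutative group `A` of frame automorphisms;
* `Lift hp p S` : for `S` normal in `G`, a group `Γ` of automorphisms of `Y` with a surjection `π : Γ → G` inducing the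
  action of `G` on `S`; all fields are invariant under conjugation in `Y`;
* `Ext.exists_lift`;
* the boxes `BoxExt*` (existence of `Ext`), `BoxTor` (an invariant toral subgroup), `BoxPar` (an invariant `p`-subgroup),
  `BoxNonTor` (neither), and the assembly `row_of`.
-/

set_option autoImplicit false
set_option linter.unusedSectionVars false

namespace Cfsg.Agent.DS.Ex

open CoxeterSystem Cfsg Cfsg.Lie Cfsg.Lie.ChevalleyDatum
open Cfsg.Agent.ChevalleyStructure Cfsg.Agent.ChevalleyStructure.Elts Cfsg.Agent.ChevalleyStructure.CoxeterGeom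
  Cfsg.Agent.ChevalleyStructure.CoxeterGeomTypes
open Cfsg.Agent.Tits.Roots Cfsg.Agent.Tits.Core Cfsg.Agent.Nodes Cfsg.Agent.Nodes.Reps Cfsg.Agent.Nodes.BNOf
  Cfsg.Agent.Nodes.RGDChev Cfsg.Agent.Nodes.Bruhat
open Cfsg.Agent.KFacts.RgdField Cfsg.Agent.KFacts.RgdChevCoord
open Cfsg.Agent.BpExc Cfsg.Agent.BpExc.TorCent Cfsg.Agent.BpExc.TorChev Cfsg.Agent.BpExc.Tow
  Cfsg.Agent.BpExc.TowChev Cfsg.Agent.BpExc.Fr Cfsg.Agent.BpExc.LangFr
open Cfsg.Agent.H469.Exc Cfsg.Agent.H316.U6 Cfsg.Agent.H936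

/-- the algebraic group -/
abbrev YY (D : ChevalleyDatum) (p : ℕ) [Fact p.Prime] : Type := ↥(D.group (KK p))

/-- the types treated here -/
def Typ (D : ChevalleyDatum) : Prop := D = chevF4 ∨ D = chevE6 ∨ D = chevE7 ∨ D = chevE8

section Frames

variable {D : ChevalleyDatum} {l : ℕ} {M : CoxeterMatrix (Fin l)} (hp : IsType D l M) (p : ℕ) [Fact p.Prime]

/-- weak frame automorphism: `β` normalizes `T` and permutes the root groups -/
def WFr (β : MulAut (YY D p)) : Prop :=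
  (∀ t, β t ∈ TT D (KK p) ↔ t ∈ TT D (KK p)) ∧
    ∀ a, IsRoot M.toCoxeterSystem hp.isCartan a → ∃ b, IsRoot M.toCoxeterSystem hp.isCartan b ∧
      ∀ y, β y ∈ XX D l (KK p) b ↔ y ∈ XX D l (KK p) a

/-- frame automorphism, acting trivially on the roots for `E₈` -/
def SFr (β : MulAut (YY D p)) : Prop :=
  ∃ g : (Fin l → ℤ) ≃+ (Fin l → ℤ), Fr M.toCoxeterSystem hp.isCartan (TT D (KK p)) (XX D l (KK p)) β g ∧
    (l = 8 → g = AddEquiv.refl _)

/-- a subgroup of `Y` that lies in a conjugate of `T` -/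
def Toral (A : Subgroup (YY D p)) : Prop := ∃ z : YY D p, ∀ a ∈ A, z * a * z⁻¹ ∈ TT D (KK p)

variable {hp p}

/-- **Extension of the automorphisms** of the finite group `K` to `Y`. -/
structure Ext {q : ℕ} {K : Type} [Group K] (m : MData hp p q K) (A : Subgroup (MulAut (YY D p))) : Prop where
  mem : m.σ ∈ A
  comm : ∀ β ∈ A, ∀ β' ∈ A, β * β' = β' * β
  wfr : ∀ β ∈ A, WFr hp p β
  sfr : (D = chevF4 → p ≠ 2) → ∀ β ∈ A, SFr hp p β
  ext : ∀ α : MulAut K, ∃ y : YY D p, ∃ β ∈ A, ∀ x, m.ι (α x) = y * β (m.ι x) * y⁻¹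
  cent : ∀ y : YY D p, (∀ x, y * m.ι x = m.ι x * y) → y = 1
  dd : m.dd = 1 ∨ (D = chevE6 ∧ m.dd = 3) ∨ (D = chevE7 ∧ m.dd = 2)

variable (hp p)

/-- **The action of `G` on `S` lifted to `Y`.** -/
structure Lift {G : Type} [Group G] (S : Subgroup G) where
  /-- the Frobenius automorphism -/
  σ : MulAut (YY D p)
  /-- its exponent -/
  e : ℕ
  /-- the embedding -/
  ι : S →* YY D p
  /-- the lifts -/
  Γ : Subgroup (MulAut (YY D p))
  /-- the element of `G` induced by a lift -/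
  π : Γ →* G
  /-- the exponent of the fixed points over `ι S` -/
  dd : ℕ
  he : 0 < e
  frob : IsFrob p e σ
  fr : ∃ (y : YY D p) (g : (Fin l → ℤ) ≃+ (Fin l → ℤ)),
    Fr M.toCoxeterSystem hp.isCartan (TT D (KK p)) (XX D l (KK p)) (MulAut.conj y * σ) g
  fin : Finite ↥(fixedSubgroup σ)
  inj : Function.Injective ι
  fix : ∀ x, σ (ι x) = ι x
  pel : ∀ u, σ u = u → (∃ j : ℕ, u ^ p ^ j = 1) → u ∈ ι.range
  norm : ∀ y, σ y = y → ∀ x, ∃ x', ι x' = y * ι x * y⁻¹
  pow_dd : ∀ y, σ y = y → y ^ dd ∈ ι.range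
  hdd : dd = 1 ∨ (D = chevE6 ∧ dd = 3) ∨ (D = chevE7 ∧ dd = 2)
  cent : ∀ y : YY D p, (∀ x, y * ι x = ι x * y) → y = 1
  surj : Function.Surjective π
  act : ∀ (φ : Γ) (x x' : S), (x' : G) = π φ * x * (π φ)⁻¹ → (φ : MulAut (YY D p)) (ι x) = ι x'
  mem_σ : σ ∈ Γ
  comm_σ : ∀ φ ∈ Γ, φ * σ = σ * φ
  full : ∀ (y : YY D p) (g : G), (∀ x x' : S, (x' : G) = g * x * g⁻¹ → y * ι x * y⁻¹ = ι x') → MulAut.conj y ∈ Γ
  der : ∀ φ ∈ Γ, ∀ ψ ∈ Γ, ∃ y : YY D p, φ * ψ * φ⁻¹ * ψ⁻¹ = MulAut.conj y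
  wfr : ∀ φ ∈ Γ, ∃ y : YY D p, WFr hp p (MulAut.conj y * φ)
  sfr : (D = chevF4 → p ≠ 2) → ∀ φ ∈ Γ, ∃ y : YY D p, SFr hp p (MulAut.conj y * φ)

variable {hp p}

/-- the subgroup `A₀ ≤ Y` is invariant under the lifts of the elements of `H` -/
def Lift.Inv {G : Type} [Group G] {S : Subgroup G} (L : Lift hp p S) (H : Subgroup G) (A₀ : Subgroup (YY D p)) : Prop :=
  ∀ φ : L.Γ, L.π φ ∈ H → ∀ a ∈ A₀, (φ : MulAut (YY D p)) a ∈ A₀

/-- transfer along isomorphisms -/
theorem Ext.congr {q : ℕ} {K K' : Type} [Group K] [Group K'] {m : MData hp p q K} {A : Subgroup (MulAut (YY D p))}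
    (h : Ext m A) (f : K' ≃* K) : Ext (m.congr f) A where
  mem := h.mem
  comm := h.comm
  wfr := h.wfr
  sfr := h.sfr
  ext α := by
    obtain ⟨y, β, hβ, h1⟩ := h.ext ((f.symm.trans α).trans f)
    refine ⟨y, β, hβ, fun x => ?_⟩
    have h2 := h1 (f x)
    simp only [MulEquiv.trans_apply, MulEquiv.symm_apply_apply] at h2
    exact h2
  cent y hy := h.cent y fun x => by
    have h1 := hy (f.symm x)
    change y * m.ι (f (f.symm x)) = m.ι (f (f.symm x)) * y at h1
    rwa [f.apply_symm_apply] at h1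
  dd := h.dd

theorem conj_mul_apply (y : YY D p) (β : MulAut (YY D p)) (x : YY D p) :
    (MulAut.conj y * β) x = y * β x * y⁻¹ := rfl

theorem mul_conj_eq (y : YY D p) (β : MulAut (YY D p)) : β * MulAut.conj y = MulAut.conj (β y) * β := by
  apply MulEquiv.ext
  intro x
  show β (y * x * y⁻¹) = β y * β x * (β y)⁻¹
  rw [map_mul, map_mul, map_inv]

/-- the lifts of the elements of `G` -/
def Gam {q : ℕ} {G : Type} [Group G] {S : Subgroup G} (hS : S.Normal) (m : MData hp p q S)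
    (A : Subgroup (MulAut (YY D p))) : Subgroup (MulAut (YY D p)) where
  carrier := {φ | (∃ y : YY D p, ∃ β ∈ A, φ = MulAut.conj y * β) ∧
    ∃ g : G, ∀ x x' : S, (x' : G) = g * x * g⁻¹ → φ (m.ι x) = m.ι x'}
  one_mem' := ⟨⟨1, 1, one_mem _, by rw [map_one, one_mul]⟩, 1, fun x x' h => by
    rw [one_mul, inv_one, mul_one] at h
    rw [Subtype.ext h]; rfl⟩
  mul_mem' := by
    rintro φ ψ ⟨⟨y, β, hβ, rfl⟩, g, hg⟩ ⟨⟨y', β', hβ', rfl⟩, g', hg'⟩
    refine ⟨⟨y * β y', β * β', mul_mem hβ hβ', ?_⟩, g * g', fun x x' h => ?_⟩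
    · rw [map_mul, mul_assoc, ← mul_assoc β, mul_conj_eq]
      simp only [mul_assoc]
    · rw [MulAut.mul_apply, hg' x ⟨g' * x * g'⁻¹, hS.conj_mem _ x.2 g'⟩ rfl]
      refine hg _ x' ?_
      rw [h]
      show _ = g * (g' * x * g'⁻¹) * g⁻¹
      group
  inv_mem' := by
    rintro φ ⟨⟨y, β, hβ, rfl⟩, g, hg⟩
    refine ⟨⟨β⁻¹ y⁻¹, β⁻¹, inv_mem hβ, ?_⟩, g⁻¹, fun x x' h => ?_⟩
    · rw [mul_inv_rev, ← map_inv, mul_conj_eq]
    · have h1 := hg x' x (by rw [h]; group)
      rw [← h1, MulAut.inv_apply_self]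

theorem eq_of_act {G : Type} [Group G] {S : Subgroup G} (hS : S.Normal)
    (hC : Subgroup.centralizer (S : Set G) = ⊥) {Y : Type} [Group Y] {ι : S →* Y} (hι : Function.Injective ι)
    {φ : Y → Y} {g g' : G} (h : ∀ x x' : S, (x' : G) = g * x * g⁻¹ → φ (ι x) = ι x')
    (h' : ∀ x x' : S, (x' : G) = g' * x * g'⁻¹ → φ (ι x) = ι x') : g = g' := by
  have h1 : g'⁻¹ * g ∈ Subgroup.centralizer (S : Set G) := by
    rw [Subgroup.mem_centralizer_iff]
    intro x hx
    have h2 := h ⟨x, hx⟩ ⟨g * x * g⁻¹, hS.conj_mem _ hx g⟩ rfl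
    have h3 := h' ⟨x, hx⟩ ⟨g' * x * g'⁻¹, hS.conj_mem _ hx g'⟩ rfl
    have h4 : g * x * g⁻¹ = g' * x * g'⁻¹ := congrArg Subtype.val (hι (h2.symm.trans h3))
    calc x * (g'⁻¹ * g) = g'⁻¹ * (g' * x * g'⁻¹) * g := by group
      _ = g'⁻¹ * (g * x * g⁻¹) * g := by rw [h4]
      _ = _ := by group
  rw [hC, Subgroup.mem_bot] at h1
  exact (inv_mul_eq_one.1 h1).symm

/-- **The lift of an extension.** -/
theorem Ext.exists_lift {q : ℕ} {G : Type} [Group G] {S : Subgroup G} (hS : S.Normal)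
    (hC : Subgroup.centralizer (S : Set G) = ⊥) {m : MData hp p q S} {A : Subgroup (MulAut (YY D p))}
    (h : Ext m A) : ∃ L : Lift hp p S, L.σ = m.σ ∧ L.ι = m.ι ∧ L.Γ = Gam hS m A := by
  classical
  have hex : ∀ φ : Gam hS m A, ∃ g : G, ∀ x x' : S, (x' : G) = g * x * g⁻¹ →
      (φ : MulAut (YY D p)) (m.ι x) = m.ι x' := fun φ => φ.2.2
  choose f hf using hex
  have huniq : ∀ (φ : Gam hS m A) (g : G), (∀ x x' : S, (x' : G) = g * x * g⁻¹ →
      (φ : MulAut (YY D p)) (m.ι x) = m.ι x') → f φ = g := fun φ g hg => eq_of_act hS hC m.inj (hf φ) hg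
  let π : Gam hS m A →* G := MonoidHom.mk' f (by
    intro φ ψ
    refine huniq _ _ fun x x' hx => ?_
    rw [Subgroup.coe_mul, MulAut.mul_apply, hf ψ x ⟨f ψ * x * (f ψ)⁻¹, hS.conj_mem _ x.2 _⟩ rfl]
    refine hf φ _ x' ?_
    rw [hx]
    show _ = f φ * (f ψ * x * (f ψ)⁻¹) * (f φ)⁻¹
    group)
  have hσy : ∀ (y : YY D p) (β : MulAut (YY D p)), β ∈ A → MulAut.conj y * β ∈ Gam hS m A → m.σ y = y := by
    rintro y β hβ ⟨-, g, hg⟩
    have h1 : ∀ x : S, (y⁻¹ * m.σ y) * β (m.ι x) = β (m.ι x) * (y⁻¹ * m.σ y) := by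
      intro x
      have h2 := hg x ⟨g * x * g⁻¹, hS.conj_mem _ x.2 g⟩ rfl
      have h3 := congrArg m.σ h2
      rw [m.fix, ← h2, conj_mul_apply, map_mul, map_mul, map_inv] at h3
      have h4 : m.σ (β (m.ι x)) = β (m.ι x) := by
        rw [← MulAut.mul_apply, h.comm _ h.mem _ hβ, MulAut.mul_apply, m.fix]
      rw [h4] at h3
      calc y⁻¹ * m.σ y * β (m.ι x) = y⁻¹ * (m.σ y * β (m.ι x) * (m.σ y)⁻¹) * m.σ y := by group
        _ = y⁻¹ * (y * β (m.ι x) * y⁻¹) * m.σ y := by rw [h3]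
        _ = _ := by group
    have h5 : β⁻¹ (y⁻¹ * m.σ y) = 1 := h.cent _ fun x => by
      apply β.injective
      rw [map_mul β, map_mul β, MulAut.apply_inv_self]
      exact h1 x
    have h6 : y⁻¹ * m.σ y = 1 := by
      have := congrArg β h5
      rwa [MulAut.apply_inv_self, map_one] at this
    exact (inv_mul_eq_one.1 h6).symm
  refine ⟨{
    σ := m.σ
    e := m.e
    ι := m.ι
    Γ := Gam hS m A
    π := π
    dd := m.dd
    he := m.he
    frob := m.frob
    fr := ⟨1, m.g, by rw [map_one, one_mul]; exact m.fr⟩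
    fin := m.fin
    inj := m.inj
    fix := m.fix
    pel := fun u hu hj => m.exists_eq hu hj
    norm := m.norm
    pow_dd := m.pow_dd
    hdd := h.dd
    cent := h.cent
    surj := ?_
    act := fun φ x x' hx => hf φ x x' hx
    mem_σ := ⟨⟨1, m.σ, h.mem, by rw [map_one, one_mul]⟩, 1, fun x x' hx => by
      rw [one_mul, inv_one, mul_one] at hx
      rw [Subtype.ext hx]; exact m.fix x⟩
    comm_σ := ?_
    full := fun y g hg => ⟨⟨y, 1, one_mem _, by rw [mul_one]⟩, g, hg⟩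
    der := ?_
    wfr := ?_
    sfr := ?_ }, rfl, rfl, rfl⟩
  · intro g
    obtain ⟨y, β, hβ, h1⟩ := h.ext (MulAut.conjNormal (H := S) g)
    have h2 : ∀ x x' : S, (x' : G) = g * x * g⁻¹ → (MulAut.conj y * β) (m.ι x) = m.ι x' := by
      intro x x' hx
      rw [conj_mul_apply, ← h1]
      congr 1
      apply Subtype.ext
      rw [hx, MulAut.conjNormal_apply]
    exact ⟨⟨MulAut.conj y * β, ⟨y, β, hβ, rfl⟩, g, h2⟩, huniq _ _ h2⟩
  · intro φ hφ
    obtain ⟨y, β, hβ, rfl⟩ := hφ.1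
    rw [mul_assoc, h.comm _ hβ _ h.mem, ← mul_assoc m.σ, mul_conj_eq, hσy y β hβ hφ, mul_assoc]
  · intro φ hφ ψ hψ
    obtain ⟨y, β, hβ, rfl⟩ := hφ.1
    obtain ⟨y', β', hβ', rfl⟩ := hψ.1
    refine ⟨(y * β y') * (y' * β' y)⁻¹, ?_⟩
    have h1 : MulAut.conj y * β * (MulAut.conj y' * β') = MulAut.conj (y * β y') * (β * β') := by
      rw [map_mul, mul_assoc, ← mul_assoc β, mul_conj_eq]
      simp only [mul_assoc]
    have h2 : MulAut.conj y' * β' * (MulAut.conj y * β) = MulAut.conj (y' * β' y) * (β * β') := by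
      rw [map_mul, mul_assoc, ← mul_assoc β', mul_conj_eq, h.comm _ hβ _ hβ']
      simp only [mul_assoc]
    rw [mul_assoc _ _ (MulAut.conj y' * β')⁻¹, ← mul_inv_rev, h1, h2, map_mul _ (y * β y') (y' * β' y)⁻¹, map_inv]
    group
  · intro φ hφ
    obtain ⟨y, β, hβ, rfl⟩ := hφ.1
    exact ⟨y⁻¹, by rw [← mul_assoc, ← map_mul, inv_mul_cancel, map_one, one_mul]; exact h.wfr β hβ⟩
  · intro hs φ hφ
    obtain ⟨y, β, hβ, rfl⟩ := hφ.1
    exact ⟨y⁻¹, by rw [← mul_assoc, ← map_mul, inv_mul_cancel, map_one, one_mul]; exact h.sfr hs β hβ⟩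

end Frames

/-! ### The boxes -/

theorem hpF4 : IsType chevF4 4 CoxeterMatrix.F₄ := by simp [IsType, typeList]
theorem hpE6 : IsType chevE6 6 CoxeterMatrix.E₆ := by simp [IsType, typeList]
theorem hpE7 : IsType chevE7 7 CoxeterMatrix.E₇ := by simp [IsType, typeList]
theorem hpE8 : IsType chevE8 8 CoxeterMatrix.E₈ := by simp [IsType, typeList]

/-- `K` has a model in the algebraic group of the datum `D` in which the automorphisms extend -/
def HasExt {D : ChevalleyDatum} {l : ℕ} {M : CoxeterMatrix (Fin l)} (hp : IsType D l M) (K : Type) [Group K] : Prop :=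
  ∃ (p : ℕ) (_ : Fact p.Prime) (q : ℕ) (m : MData hp p q K) (A : Subgroup (MulAut (YY D p))), Ext m A

/-- [X2] a non-trivial toral subgroup of `Y` (finite or not) is invariant under the lifts of `H` -/
def BoxTor : Prop := Big → ∀ (D : ChevalleyDatum) (l : ℕ) (M : CoxeterMatrix (Fin l)) (hp : IsType D l M), Typ D →
  ∀ (p : ℕ) [Fact p.Prime] (G : Type) [Group G] [Finite G] (S H : Subgroup G), Setup S H →
    ∀ (L : Lift hp p S) (A₀ : Subgroup (YY D p)), A₀ ≠ ⊥ → Toral p A₀ → L.Inv H A₀ → PS 9 H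

/-- [X3] `H` normalizes a non-trivial `p`-subgroup of `S` -/
def BoxPar : Prop := Big → ∀ (D : ChevalleyDatum) (l : ℕ) (M : CoxeterMatrix (Fin l)) (hp : IsType D l M), Typ D →
  ∀ (p : ℕ) [Fact p.Prime] (G : Type) [Group G] [Finite G] (S H : Subgroup G), Setup S H →
    ∀ (q : ℕ) (m : MData hp p q S) (A : Subgroup (MulAut (YY D p))), Ext m A →
      ∀ Q : Subgroup G, Q ≠ ⊥ → Q ≤ S → IsPGroup p Q → H ≤ Subgroup.normalizer (Q : Set G) → PS 9 H

/-- [X4] neither -/
def BoxNonTor : Prop := Big → ∀ (D : ChevalleyDatum) (l : ℕ) (M : CoxeterMatrix (Fin l)) (hp : IsType D l M), Typ D →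
  ∀ (p : ℕ) [Fact p.Prime] (G : Type) [Group G] [Finite G] (S H E : Subgroup G) (r : ℕ), Loc S H E r →
    ∀ (q : ℕ) (m : MData hp p q S) (A : Subgroup (MulAut (YY D p))), Ext m A →
      ∀ L : Lift hp p S, L.σ = m.σ → L.ι = m.ι →
        (∀ Q : Subgroup G, Q ≤ S → IsPGroup p Q → H ≤ Subgroup.normalizer (Q : Set G) → Q = ⊥) →
        (∀ A₀ : Subgroup (YY D p), Toral p A₀ → L.Inv H A₀ → A₀ = ⊥) → PS 9 H

theorem HasExt.congr {D : ChevalleyDatum} {l : ℕ} {M : CoxeterMatrix (Fin l)} {hp : IsType D l M} {K K' : Type}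
    [Group K] [Group K'] (h : HasExt hp K) (f : K' ≃* K) : HasExt hp K' := by
  obtain ⟨p, _, q, m, A, hE⟩ := h
  exact ⟨p, inferInstance, q, m.congr f, A, hE.congr f⟩

end Cfsg.Agent.DS.Ex
end

-- part: DS/Nt/Defs
section
prune_inst 0x20000000600000000018000200000020000000000000000040a00800080920202001200102000000080000c010000000000000000000000000000000000000000000000001000000000000000000000000000000000000000000000000000000000000000
set_option linter.all false
open scoped Cfsg.Agent.FastGrp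

-- part: DS/NT/Dim
section
/-!
# Non-toral local subgroups: eigenspace counts (helper98)

`E` is a finite commutative group of prime exponent `r` acting on a vector space `V` in characteristic `≠ r`;
`ev ρ e c` is the dimension of the `c`-eigenspace of `e`.  `dim_one`, `dim_two`: the counting formulas for `V` and
`V ⊗ V*`; `blichfeldt`: `|E|` divides the product of the differences of the Brauer traces.
-/

set_option autoImplicit false

namespace Cfsg.Agent.DS.NT

open Module Finset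

/-- the dimension of an eigenspace -/
noncomputable def ev {K V E : Type*} [Field K] [AddCommGroup V] [Module K V] [Group E] (ρ : E →* Module.End K V)
    (e : E) (c : K) : ℕ := finrank K (Module.End.eigenspace (ρ e) c)

section count

variable {K E κ : Type*} [Field K] [Group E] [Fintype E] [Fintype κ] {r : ℕ}

theorem card_ker_char (hr : r.Prime) (hx : ∀ x : E, x ^ r = 1) (χ : E →* Kˣ) (h : χ ≠ 1) :
    r * Nat.card χ.ker = Fintype.card E := by
  have : Finite χ.range := Finite.of_surjective _ χ.rangeRestrict_surjective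
  have h1 : Nat.card χ.range ∣ r := by
    rw [← IsCyclic.exponent_eq_card]
    refine Monoid.exponent_dvd_of_forall_pow_eq_one ?_
    rintro ⟨_, x, rfl⟩
    exact Subtype.ext (by simp [← map_pow, hx])
  rcases (Nat.dvd_prime hr).1 h1 with h2 | h2
  · refine absurd (MonoidHom.ext fun x => ?_) h
    have h3 : χ x ∈ χ.range := ⟨x, rfl⟩
    rwa [Subgroup.card_eq_one.1 h2, Subgroup.mem_bot] at h3
  · rw [← h2, ← Subgroup.index_ker, mul_comm, Subgroup.card_mul_index, Nat.card_eq_fintype_card]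

open Classical in
theorem count_chars (hr : r.Prime) (hx : ∀ x : E, x ^ r = 1) (χ : κ → E →* Kˣ) :
    (r : ℤ) * ∑ e : E, (#{j | χ j e = 1} : ℤ) =
      Fintype.card E * (Fintype.card κ + (r - 1) * (#{j | χ j = 1} : ℤ)) := by
  have h1 : ∑ e : E, (#{j | χ j e = 1} : ℤ) = ∑ j, (#{e | χ j e = 1} : ℤ) := by
    simp only [card_filter, Nat.cast_sum]
    exact sum_comm
  have h2 : ∀ j, (r : ℤ) * (#{e | χ j e = 1} : ℤ) =
      Fintype.card E * (1 + (r - 1) * ((if χ j = 1 then 1 else 0 : ℕ) : ℤ)) := by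
    intro j
    by_cases h : χ j = 1
    · simp [h, mul_comm]
    · have h3 : Nat.card (χ j).ker = #{e | χ j e = 1} := by
        rw [Nat.card_eq_fintype_card, Fintype.card_subtype]
        simp only [MonoidHom.mem_ker]
      rw [← h3, if_neg h, ← card_ker_char hr hx _ h]
      simp
  rw [h1, mul_sum, sum_congr rfl fun j _ => h2 j, ← mul_sum, sum_add_distrib, ← mul_sum, card_filter, Nat.cast_sum]
  simp

end count

theorem finrank_eq_card_of_basis {K V κ : Type*} [Field K] [AddCommGroup V] [Module K V] [Fintype κ] (b : Basis κ K V)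
    (p : κ → Prop) [DecidablePred p] (W : Submodule K V) (hW : ∀ v, v ∈ W ↔ ∀ j, ¬ p j → b.repr v j = 0) :
    finrank K W = #{j | p j} := by
  have h1 : W = Submodule.span K (Set.range fun j : {j // p j} => b j) := by
    ext v
    rw [hW, show (Set.range fun j : {j // p j} => b j) = b '' {j | p j} from (Set.image_eq_range _ _).symm,
      b.mem_span_image]
    refine forall_congr' fun j => ?_
    rw [Finset.mem_coe, Finsupp.mem_support_iff, not_imp_comm]
    rfl
  rw [h1, ← Fintype.card_subtype]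
  exact finrank_span_eq_card (b.linearIndependent.comp _ Subtype.val_injective)

variable {K V E : Type*} [Field K] [IsAlgClosed K] [AddCommGroup V] [Module K V] [FiniteDimensional K V]
  [Group E] (ρ : E →* Module.End K V) {r : ℕ} (hr : r.Prime) (hK : (r : K) ≠ 0)
  (hc : ∀ x y : E, x * y = y * x) (hx : ∀ x : E, x ^ r = 1)
include hK hc hx

open Classical in
theorem exists_chars : ∃ (κ : Type) (_ : Fintype κ) (χ : κ → E →* Kˣ), Fintype.card κ = finrank K V ∧
    (∀ e c, ev ρ e c = #{j | (χ j e : K) = c}) ∧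
    ∀ F : Submodule K V, (∀ v, v ∈ F ↔ ∀ e, ρ e v = v) → finrank K F = #{j | χ j = 1} := by
  obtain ⟨κ, _, b, χ, hχ⟩ := H234.HT.exists_basis ρ (fun x y => by rw [← map_mul, hc, map_mul]) hK hx
  let χ' : κ → E →* K := fun j =>
    { toFun := χ j
      map_one' := smul_left_injective K (b.ne_zero j) (by
        change χ j 1 • b j = (1 : K) • b j
        rw [← hχ, map_one, one_smul, Module.End.one_apply])
      map_mul' := fun x y => smul_left_injective K (b.ne_zero j) (by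
        change χ j (x * y) • b j = (χ j x * χ j y) • b j
        rw [← hχ, map_mul, Module.End.mul_apply, hχ, map_smul, hχ, smul_smul, mul_comm]) }
  have hrep : ∀ e v j, b.repr (ρ e v) j = χ j e * b.repr v j := by
    intro e v j
    conv_lhs => rw [← b.sum_repr v]
    simp only [map_sum, map_smul, hχ, Basis.repr_self, Finsupp.smul_single, smul_eq_mul, mul_one, Finsupp.finsetSum_apply,
      Finsupp.single_apply]
    rw [sum_ite_eq', if_pos (mem_univ j), mul_comm]
  have heig : ∀ e c v, ρ e v = c • v ↔ ∀ j, ¬ χ j e = c → b.repr v j = 0 := by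
    intro e c v
    rw [← b.repr.injective.eq_iff, Finsupp.ext_iff]
    refine forall_congr' fun j => ?_
    rw [hrep, map_smul, Finsupp.smul_apply, smul_eq_mul, mul_eq_mul_right_iff, or_iff_not_imp_left]
  refine ⟨κ, inferInstance, fun j => (χ' j).toHomUnits, (finrank_eq_card_basis b).symm, fun e c => ?_, fun F hF => ?_⟩
  · exact finrank_eq_card_of_basis b _ _ fun v => Module.End.mem_eigenspace_iff.trans (heig e c v)
  · refine finrank_eq_card_of_basis b _ _ fun v => ?_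
    rw [hF]
    constructor
    · intro h j hj
      obtain ⟨e, he⟩ : ∃ e, ¬ χ j e = 1 := by
        by_contra hcon
        push Not at hcon
        exact hj (MonoidHom.ext fun e => Units.ext (hcon e))
      exact (heig e 1 v).1 (by rw [one_smul, h]) j he
    · intro h e
      refine ((heig e 1 v).2 fun j hj => h j fun h1 => hj ?_).trans (one_smul K v)
      exact congrArg (fun f : E →* Kˣ => (f e : K)) h1

variable [Fintype E]
include hr

/-- **(D1)**, the sum over all the elements. -/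
theorem dim_one' (F : Submodule K V) (hF : ∀ v, v ∈ F ↔ ∀ e, ρ e v = v) :
    (r : ℤ) * ∑ e : E, (ev ρ e 1 : ℤ) = Fintype.card E * (finrank K V + (r - 1) * (finrank K F : ℤ)) := by
  classical
  obtain ⟨κ, _, χ, h1, h2, h3⟩ := exists_chars ρ hK hc hx
  rw [← h1, h3 F hF]
  simp only [h2, Units.val_eq_one]
  convert count_chars hr hx χ

omit [IsAlgClosed K] [FiniteDimensional K V] [Fintype E] hK hc hx hr in
theorem ev_one_one : ev ρ 1 1 = finrank K V := by
  have : Module.End.eigenspace (ρ 1) 1 = ⊤ := by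
    rw [eq_top_iff]
    intro v _
    rw [Module.End.mem_eigenspace_iff, map_one, one_smul, Module.End.one_apply]
  rw [ev, this, finrank_top]

/-- **(D1)** -/
theorem dim_one [DecidableEq E] (F : Submodule K V) (hF : ∀ v, v ∈ F ↔ ∀ e, ρ e v = v) :
    ((r : ℤ) - 1) * Fintype.card E * finrank K F + (Fintype.card E - 1) * finrank K V =
      (r - 1) * finrank K V + r * ∑ e ∈ univ.erase (1 : E), (ev ρ e 1 : ℤ) := by
  have h := dim_one' ρ hr hK hc hx F hF
  rw [← add_sum_erase _ _ (mem_univ (1 : E)), ev_one_one] at h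
  linear_combination -h

/-- **(D1)**, pure case. -/
theorem dim_pure (F : Submodule K V) (hF : ∀ v, v ∈ F ↔ ∀ e, ρ e v = v) {d : ℕ} (hd : ∀ e, e ≠ 1 → ev ρ e 1 = d) :
    ((r : ℤ) - 1) * Fintype.card E * finrank K F =
      Fintype.card E * (r * d - finrank K V) + r * (finrank K V - d) := by
  classical
  have h := dim_one ρ hr hK hc hx F hF
  rw [sum_congr rfl fun e he => by rw [hd e (ne_of_mem_erase he)], sum_const, card_erase_of_mem (mem_univ _),
    card_univ, nsmul_eq_mul, Nat.cast_pred Fintype.card_pos] at h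
  linear_combination h

/-- The sums of the powers of the Brauer traces, when the elements are rational. -/
theorem dvd_sum_pow (τ : E → ℤ) (hτ : ∀ e, ((r : ℤ) - 1) * τ e = r * ev ρ e 1 - finrank K V)
    (hrat : ∀ e (c c' : K), c ^ r = 1 → c ≠ 1 → c' ^ r = 1 → c' ≠ 1 → ev ρ e c = ev ρ e c') (n : ℕ) :
    (Fintype.card E : ℤ) ∣ ∑ e, τ e ^ n := by
  classical
  obtain ⟨κ, _, χ, h1, h2, -⟩ := exists_chars ρ hK hc hx
  have : NeZero r := ⟨hr.ne_zero⟩
  have : NeZero (r : K) := ⟨hK⟩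
  obtain ⟨ζ, hζ⟩ := HasEnoughRootsOfUnity.exists_primitiveRoot K r
  obtain ⟨ω, hω⟩ : ∃ ω : ℂ, IsPrimitiveRoot ω r := ⟨_, Complex.isPrimitiveRoot_exp r hr.ne_zero⟩
  have h3 : ∀ j e, ∃ i < r, ζ ^ i = χ j e := fun j e => hζ.eq_pow_of_pow_eq_one (by
    rw [← Units.val_pow_eq_pow_val, ← map_pow, hx, map_one, Units.val_one])
  choose a ha ha' using h3
  have h4 : ∀ i i', ζ ^ i = ζ ^ i' → ω ^ i = ω ^ i' := by
    intro i i' h
    rw [(hζ.isOfFinOrder hr.ne_zero).pow_eq_pow_iff_modEq, ← hζ.eq_orderOf] at h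
    rwa [(hω.isOfFinOrder hr.ne_zero).pow_eq_pow_iff_modEq, ← hω.eq_orderOf]
  let l : κ → E →* ℂ := fun j =>
    { toFun := fun e => ω ^ a j e
      map_one' := by
        rw [h4 _ 0 (by rw [ha', map_one, pow_zero, Units.val_one]), pow_zero]
      map_mul' := fun x y => by
        rw [← pow_add]
        exact h4 _ _ (by rw [pow_add, ha', ha', ha', map_mul, Units.val_mul]) }
  have h5 : ∀ e, ∑ j, l j e = τ e := by
    intro e
    have e1 : ∀ i ∈ range r, #{j | a j e = i} = ev ρ e (ζ ^ i) := by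
      intro i hi
      rw [h2]
      congr 1
      ext j
      simp only [mem_filter, mem_univ, true_and]
      rw [← ha']
      exact ⟨fun h => by rw [h], hζ.pow_inj (ha j e) (mem_range.1 hi)⟩
    have e2 : ∀ i ∈ (range r).erase 0, ev ρ e (ζ ^ i) = ev ρ e ζ := fun i hi =>
      hrat e _ _ (by rw [← pow_mul, mul_comm, pow_mul, hζ.pow_eq_one, one_pow])
        (hζ.pow_ne_one_of_pos_of_lt (ne_of_mem_erase hi) (mem_range.1 (mem_of_mem_erase hi))) hζ.pow_eq_one
        (hζ.ne_one hr.one_lt)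
    have h0 : 0 ∈ range r := mem_range.2 hr.pos
    have e3 : finrank K V = ev ρ e 1 + (r - 1) * ev ρ e ζ := by
      rw [← h1, ← card_univ, card_eq_sum_card_fiberwise (f := fun j => a j e) (t := range r)
        (fun j _ => mem_coe.2 (mem_range.2 (ha j e))), sum_congr rfl e1, ← add_sum_erase _ _ h0, sum_congr rfl e2,
        sum_const, card_erase_of_mem h0, card_range, pow_zero, smul_eq_mul]
    have e4 : τ e = ev ρ e 1 - ev ρ e ζ := by
      have e5 := hτ e
      rw [e3, Nat.cast_add, Nat.cast_mul, Nat.cast_pred hr.pos] at e5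
      have e6 : (r : ℤ) - 1 ≠ 0 := by have := hr.one_lt; omega
      exact mul_left_cancel₀ e6 (by linear_combination e5)
    have e7 := hω.geom_sum_eq_zero hr.one_lt
    rw [← add_sum_erase _ _ h0, pow_zero] at e7
    rw [← sum_fiberwise_of_maps_to (g := fun j => a j e) (t := range r) (fun j _ => mem_range.2 (ha j e)),
      sum_congr rfl (g := fun i => (ev ρ e (ζ ^ i) : ℂ) * ω ^ i) fun i hi => by
        rw [sum_congr rfl (g := fun _ => ω ^ i) fun j hj => by
          change ω ^ a j e = _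
          rw [(mem_filter.1 hj).2], sum_const, e1 i hi, nsmul_eq_mul],
      ← add_sum_erase _ _ h0, sum_congr rfl fun i hi => by rw [e2 i hi], ← mul_sum, e4, pow_zero, pow_zero]
    push_cast
    linear_combination (ev ρ e ζ : ℂ) * e7
  refine ⟨#{f : Fin n → κ | ∏ i, l (f i) = 1}, ?_⟩
  apply Int.cast_injective (α := ℂ)
  push_cast
  simp only [← h5, Fintype.sum_pow]
  rw [sum_comm, card_filter, Nat.cast_sum, mul_sum]
  refine sum_congr rfl fun f _ => ?_
  have h6 := sum_hom_units (∏ i, l (f i))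
  simp only [MonoidHom.finsetProd_apply] at h6
  rw [h6]
  split_ifs <;> simp

/-- **Blichfeldt's theorem** for Brauer characters. -/
theorem blichfeldt (T : Finset ℤ)
    (hT : ∀ e, e ≠ 1 → ∃ t ∈ T, ((r : ℤ) - 1) * t = r * ev ρ e 1 - finrank K V)
    (hrat : ∀ e, e ≠ 1 → ∀ c c' : K, c ^ r = 1 → c ≠ 1 → c' ^ r = 1 → c' ≠ 1 → ev ρ e c = ev ρ e c') :
    (Fintype.card E : ℤ) ∣ ∏ t ∈ T, ((finrank K V : ℤ) - t) := by
  classical
  have h1 : ∀ e, ∃ t : ℤ, ((r : ℤ) - 1) * t = r * ev ρ e 1 - finrank K V ∧ (e ≠ 1 → t ∈ T) ∧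
      (e = 1 → t = finrank K V) := by
    intro e
    by_cases he : e = 1
    · refine ⟨finrank K V, ?_, fun h => absurd he h, fun _ => rfl⟩
      rw [he, ev_one_one]
      ring
    · obtain ⟨t, ht, ht'⟩ := hT e he
      exact ⟨t, ht', fun _ => ht, fun h => absurd h he⟩
  choose τ hτ hτT hτ1 using h1
  have h2 := dvd_sum_pow ρ hr hK hc hx τ hτ fun e c c' h1 h2 h3 h4 => by
    by_cases he : e = 1
    · have key : ∀ c : K, c ≠ 1 → ev ρ 1 c = 0 := by
        intro c hc1
        rw [ev, Submodule.finrank_eq_zero, eq_bot_iff]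
        intro v hv
        rw [Module.End.mem_eigenspace_iff, map_one, Module.End.one_apply] at hv
        rw [Submodule.mem_bot, ← smul_eq_zero_iff_right (sub_ne_zero.2 hc1), sub_smul, ← hv, one_smul, sub_self]
      rw [he, key c h2, key c' h4]
    · exact hrat e he c c' h1 h2 h3 h4
  have h3 : ∀ P : Polynomial ℤ, (Fintype.card E : ℤ) ∣ ∑ e, P.eval (τ e) := by
    intro P
    induction P using Polynomial.induction_on' with
    | add p q hp hq =>
      simp only [Polynomial.eval_add, sum_add_distrib]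
      exact dvd_add hp hq
    | monomial n a =>
      simp only [Polynomial.eval_monomial, ← mul_sum]
      exact Dvd.dvd.mul_left (h2 n) a
  have h4 := h3 (∏ t ∈ T, (Polynomial.X - Polynomial.C t))
  simp only [Polynomial.eval_prod, Polynomial.eval_sub, Polynomial.eval_X, Polynomial.eval_C] at h4
  rwa [sum_eq_single (1 : E) (fun e _ he => prod_eq_zero (hτT e he) (sub_self _)) (by simp), hτ1 1 rfl] at h4

omit hr in
/-- **Blichfeldt's theorem**, `r = 2`. -/
theorem blichfeldt_two (h2 : r = 2) (T : Finset ℤ) (hT : ∀ e, e ≠ 1 → 2 * (ev ρ e 1 : ℤ) - finrank K V ∈ T) :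
    (Fintype.card E : ℤ) ∣ ∏ t ∈ T, ((finrank K V : ℤ) - t) := by
  subst h2
  refine blichfeldt ρ Nat.prime_two hK hc hx T (fun e he => ⟨_, hT e he, by push_cast; ring⟩)
    fun e _ c c' h1 h2 h3 h4 => ?_
  rw [(sq_eq_one_iff.1 h1).resolve_left h2, (sq_eq_one_iff.1 h3).resolve_left h4]

omit hr in
/-- **Blichfeldt's theorem**, `r = 3`. -/
theorem blichfeldt_three (h3 : r = 3) (T : Finset ℤ)
    (hT : ∀ e, e ≠ 1 → ∃ t ∈ T, 2 * t = 3 * (ev ρ e 1 : ℤ) - finrank K V)
    (hrat : ∀ e, e ≠ 1 → ∀ w : K, w ^ 3 = 1 → w ≠ 1 → ev ρ e w = ev ρ e (w ^ 2)) :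
    (Fintype.card E : ℤ) ∣ ∏ t ∈ T, ((finrank K V : ℤ) - t) := by
  subst h3
  refine blichfeldt ρ Nat.prime_three hK hc hx T (fun e he => (hT e he).imp fun t ht => ⟨ht.1, ?_⟩)
    fun e he c c' h1 h2 h3 h4 => ?_
  · push_cast
    linear_combination ht.2
  · have h5 : c ^ 2 + c + 1 = 0 := mul_left_cancel₀ (sub_ne_zero.2 h2) (by linear_combination h1)
    have h6 : c' ^ 2 + c' + 1 = 0 := mul_left_cancel₀ (sub_ne_zero.2 h4) (by linear_combination h3)
    have h7 : (c' - c) * (c' - c ^ 2) = 0 := by linear_combination h6 - c' * h5 + h1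
    rcases mul_eq_zero.1 h7 with h8 | h8
    · rw [sub_eq_zero.1 h8]
    · rw [sub_eq_zero.1 h8, hrat e he c h1 h2]

end Cfsg.Agent.DS.NT
end

-- part: DS/Nt/Defs
section
/-!
# S5881, exceptional groups, the non-toral local case: interface (helper86)

`Y = YY D p`, `T = TT D (KK p)`.  Everything here is about subgroups of `Y`.

* `Tp p x y` : `x`, `y` are simultaneously conjugate into `T`;
* `ad D p` : the adjoint module, `dd p y` : the dimension of the fixed space of `y`;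
* `DZ hp p Z` : the group generated by `T` and the root groups centralised by `Z ⊆ T`;
* `Std hp p ζ i t` : `t ∈ T` has the character `ζ ^ x i`; `Om hp p r i` : the conjugates of these elements, `ζ` of order `r`;
* `EA p r E` : finite elementary abelian `r`-group all of whose pairs are toral;
* `NoL p E s` : no element of order `s` of `C(E)` commutes with all elements of order `s` of `C(E)`;
* `JS` : the normal subgroups `J z ≅ SL_r` of `C(z)`;
* the boxes `BoxJ2`, `BoxJ3`, `BoxP4`, `BoxP8`.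
-/

set_option autoImplicit false
set_option linter.unusedSectionVars false

namespace Cfsg.Agent.DS.Nt

open CoxeterSystem Cfsg Cfsg.Lie Cfsg.Lie.ChevalleyDatum
open Cfsg.Agent.ChevalleyStructure Cfsg.Agent.ChevalleyStructure.Elts Cfsg.Agent.ChevalleyStructure.CoxeterGeom
  Cfsg.Agent.ChevalleyStructure.CoxeterGeomTypes
open Cfsg.Agent.Tits.Roots Cfsg.Agent.Tits.Core Cfsg.Agent.Nodes Cfsg.Agent.Nodes.Reps Cfsg.Agent.Nodes.BNOf
  Cfsg.Agent.Nodes.RGDChev Cfsg.Agent.Nodes.Bruhat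
open Cfsg.Agent.KFacts.RgdField Cfsg.Agent.KFacts.RgdChevCoord
open Cfsg.Agent.BpExc Cfsg.Agent.BpExc.TorCent Cfsg.Agent.BpExc.TorChev Cfsg.Agent.BpExc.Tow
  Cfsg.Agent.BpExc.TowChev Cfsg.Agent.BpExc.Fr Cfsg.Agent.BpExc.LangFr
open Cfsg.Agent.H469.Exc Cfsg.Agent.H795.SetCent Cfsg.Agent.H129.TorusChar Cfsg.Agent.DS.Ex

section Defs

variable {D : ChevalleyDatum} {l : ℕ} {M : CoxeterMatrix (Fin l)} (hp : IsType D l M) (p : ℕ) [Fact p.Prime]

/-- `x` and `y` are simultaneously conjugate into the torus -/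
def Tp (x y : YY D p) : Prop := ∃ g : YY D p, g * x * g⁻¹ ∈ TT D (KK p) ∧ g * y * g⁻¹ ∈ TT D (KK p)

/-- the adjoint module -/
noncomputable def ad (D : ChevalleyDatum) (p : ℕ) [Fact p.Prime] : YY D p →* Module.End (KK p) (D.Idx → KK p) where
  toFun y := Matrix.toLin' ((y : GL D.Idx (KK p)) : Matrix D.Idx D.Idx (KK p))
  map_one' := by
    show Matrix.toLin' (1 : Matrix D.Idx D.Idx (KK p)) = 1
    rw [Matrix.toLin'_one]
    rfl
  map_mul' a b := by
    show Matrix.toLin' (((a : GL D.Idx (KK p)) : Matrix D.Idx D.Idx (KK p)) *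
      ((b : GL D.Idx (KK p)) : Matrix D.Idx D.Idx (KK p))) = _
    rw [Matrix.toLin'_mul]
    rfl

theorem ad_apply (y : YY D p) (v : D.Idx → KK p) :
    ad D p y v = ((y : GL D.Idx (KK p)) : Matrix D.Idx D.Idx (KK p)).mulVec v := rfl

/-- the dimension of the fixed space of `y` on the adjoint module -/
noncomputable def dd (y : YY D p) : ℕ := NT.ev (ad D p) y 1

/-- the fixed space of a set on the adjoint module -/
noncomputable def Fx (Z : Set (YY D p)) : Submodule (KK p) (D.Idx → KK p) where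
  carrier := {v | ∀ y ∈ Z, ad D p y v = v}
  zero_mem' := fun y _ => map_zero _
  add_mem' := fun {v w} hv hw y hy => by rw [map_add, hv y hy, hw y hy]
  smul_mem' := fun c v hv y hy => by rw [map_smul, hv y hy]

theorem mem_Fx {Z : Set (YY D p)} {v : D.Idx → KK p} : v ∈ Fx p Z ↔ ∀ y ∈ Z, ad D p y v = v := Iff.rfl

/-- the roots trivial on `Z` -/
abbrev Ps (Z : Set (YY D p)) : Set (Fin l → ℤ) := SxZ M.toCoxeterSystem hp.isCartan (ch hp) Z

/-- the group generated by the root groups centralised by `Z` -/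
noncomputable abbrev Mz (Z : Set (YY D p)) : Subgroup (YY D p) := MMZ M.toCoxeterSystem hp.isCartan (XX D l (KK p)) (ch hp) Z

/-- the connected centraliser of `Z ⊆ T` -/
noncomputable def DZ (Z : Set (YY D p)) : Subgroup (YY D p) := Mz hp p Z ⊔ TT D (KK p)

/-- the element of the torus with the character `ζ ^ x i` -/
def Std (ζ : KK p) (i : Fin l) (t : YY D p) : Prop := t ∈ TT D (KK p) ∧ ∀ x, cX hp t x = ζ ^ x i

/-- the conjugates of the standard elements of order `r` of the node `i` -/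
def Om (r : ℕ) (i : Fin l) : Set (YY D p) :=
  {z | ∃ (g : YY D p) (ζ : KK p), IsPrimitiveRoot ζ r ∧ Std hp p ζ i (g * z * g⁻¹)}

/-- finite elementary abelian `r`-group, all pairs toral -/
structure EA (r : ℕ) (E : Subgroup (YY D p)) : Prop where
  prime : r.Prime
  ne : r ≠ p
  fin : Finite E
  comm : ∀ x ∈ E, ∀ y ∈ E, x * y = y * x
  pow : ∀ x ∈ E, x ^ r = 1
  tp : ∀ x ∈ E, ∀ y ∈ E, Tp p x y

/-- no element of order `s` of `C(E)` commutes with all the elements of order `s` of `C(E)` -/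
def NoL (E : Subgroup (YY D p)) (s : ℕ) : Prop :=
  ∀ b : YY D p, b ^ s = 1 → (∀ e ∈ E, b * e = e * b) →
    (∀ c : YY D p, c ^ s = 1 → (∀ e ∈ E, c * e = e * c) → b * c = c * b) → b = 1

/-- a big prime -/
def Lp (p s : ℕ) : Prop := s.Prime ∧ 7 < s ∧ s ≠ p

/-- **The subgroups `J z ≅ SL_r(k)`**, `z` in the class `Om hp p r i`. -/
structure JS (r : ℕ) (i : Fin l) (J : YY D p → Subgroup (YY D p)) : Prop where
  mem : ∀ z ∈ Om hp p r i, z ∈ J z
  cen : ∀ z ∈ Om hp p r i, ∀ j ∈ J z, j * z = z * j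
  /-- `J z` is generated by `p`-elements -/
  gen : ∀ z ∈ Om hp p r i, ∀ K : Subgroup (YY D p), (∀ u ∈ J z, (∃ n : ℕ, u ^ p ^ n = 1) → u ∈ K) → J z ≤ K
  /-- `J` is canonical -/
  inv : ∀ φ : MulAut (YY D p), (∃ y : YY D p, SFr hp p (MulAut.conj y * φ)) → ∀ z ∈ Om hp p r i,
    φ z ∈ Om hp p r i → ∀ j ∈ J z, φ j ∈ J (φ z)
  /-- the image of `E` in `PGL_r(k)` is trivial or the self-centralising group of order `r ^ 2` -/
  dich : ∀ s, Lp p s → ∀ E : Subgroup (YY D p), EA p r E → NoL p E s → ∀ z ∈ E, z ∈ Om hp p r i →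
    ¬ E ≤ Subgroup.centralizer (J z : Set (YY D p)) →
      (∀ c : YY D p, (∀ e ∈ E, c * e = e * c) → ∃ e ∈ E, c * e ∈ Subgroup.centralizer (J z : Set (YY D p))) ∧
      (∀ e ∈ E, e ∈ J z → e ∈ Subgroup.centralizer (J z : Set (YY D p))) ∧
      (Subgroup.centralizer (J z : Set (YY D p))).relIndex E = r ^ 2
  /-- a fixed `p`-element -/
  fix : ∀ (σ : MulAut (YY D p)) (e : ℕ) (g : (Fin l → ℤ) ≃+ (Fin l → ℤ)), 0 < e → IsFrob p e σ →
    Fr M.toCoxeterSystem hp.isCartan (TT D (KK p)) (XX D l (KK p)) σ g → ∀ z ∈ Om hp p r i, σ z = z →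
      ∃ u ∈ J z, σ u = u ∧ (∃ n : ℕ, u ^ p ^ n = 1) ∧ u ∉ Subgroup.centralizer (J z : Set (YY D p))
  /-- the classes of involutions of `E₈` -/
  q8 : D = chevE8 → r = 2 → ∀ z ∈ Om hp p r i, ∀ x : YY D p, x ^ 2 = 1 → Tp p z x →
    (x ∈ Subgroup.centralizer (J z : Set (YY D p)) → (dd p (x * z) = 136 ↔ dd p x ≠ 136)) ∧
    (x ∉ Subgroup.centralizer (J z : Set (YY D p)) → (dd p (x * z) = 136 ↔ dd p x = 136))

end Defs

/-- [J2] `r = 2`: `J z = ⟨X θ, X (-θ)⟩` for the standard element `z = h_θ(-1)`, `θ = hr D l` the highest root -/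
def BoxJ2 : Prop := ∀ (D : ChevalleyDatum) (l : ℕ) (M : CoxeterMatrix (Fin l)) (hp : IsType D l M) (p : ℕ)
  [Fact p.Prime], p ≠ 2 → ∀ i : Fin l, (D = chevF4 ∧ i.val = 3 ∨ D = chevE6 ∧ i.val = 1 ∨ D = chevE7 ∧ i.val = 0 ∨
    D = chevE8 ∧ i.val = 7) → ∃ J, JS hp p 2 i J

/-- [J3] `r = 3`: `J z` is generated by the root groups of the `A₂` with the base `-θ`, `sr j` (`j = 0` for `E₇`, `j = 7`
for `E₈`) -/
def BoxJ3 : Prop := ∀ (D : ChevalleyDatum) (l : ℕ) (M : CoxeterMatrix (Fin l)) (hp : IsType D l M) (p : ℕ)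
  [Fact p.Prime], p ≠ 3 → ∀ i : Fin l, (D = chevE7 ∧ i.val = 2 ∨ D = chevE8 ∧ i.val = 6) → ∃ J, JS hp p 3 i J

/-- [P4] `F₄`: a group of involutions of type `B₄` is toral -/
def BoxP4 : Prop := ∀ (p : ℕ) [Fact p.Prime] (E : Subgroup (YY chevF4 p)), EA p 2 E →
  (∀ e ∈ E, e ≠ 1 → dd p e = 36) → Toral p E

/-- [P8] `E₈`: the groups of order at most `16` of involutions of type `D₈` are toral -/
def BoxP8 : Prop := ∀ (p : ℕ) [Fact p.Prime] (E : Subgroup (YY chevE8 p)), EA p 2 E →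
  (∀ e ∈ E, e ≠ 1 → dd p e = 120) → Toral p E ∨ ∃ A ≤ E, Toral p A ∧ Nat.card A = 16

end Cfsg.Agent.DS.Nt
end

private theorem dce_b20fbba7d515 : _root_.True := by
  try have : _root_.True := by simp only [_root_.Cfsg.Agent.DS.NT.ev.eq_1]
  exact _root_.True.intro
end

-- part: DS/Ex/ExtE6
section
prune_inst 0x42020140140c0000000040080110006a514000590002b800191440340060ed7010002072054001a0001082224000c000000000070401000002a000e004118008008aa0002b008000082000680a806000000000000000000000000000000041004000000000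
set_option linter.all false
open scoped Cfsg.Agent.FastGrp

/-!
# S5881: the automorphisms of `E₆(q)` and `²E₆(q)` extend to the algebraic group (helper12)

`AA r` is generated by the graph automorphism and the Frobenius automorphism of `E₆(KK r)`.

* `boxExtE6 : BoxExtE6`, `boxExt2E6 : BoxExt2E6`.
-/

set_option autoImplicit false
set_option linter.unusedSectionVars false

namespace Cfsg.Agent.DS.Ex.Six

open CoxeterSystem Cfsg Cfsg.Lie Cfsg.Lie.ChevalleyDatum
open Cfsg.Agent.ChevalleyStructure Cfsg.Agent.ChevalleyStructure.Elts Cfsg.Agent.ChevalleyStructure.CoxeterGeom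
  Cfsg.Agent.ChevalleyStructure.CoxeterGeomTypes Cfsg.Agent.ChevalleyStructure.NPerm
open Cfsg.Agent.Tits.Roots Cfsg.Agent.Tits.Core Cfsg.Agent.Nodes Cfsg.Agent.Nodes.Reps Cfsg.Agent.Nodes.BNOf
  Cfsg.Agent.Nodes.OppDec
  Cfsg.Agent.Nodes.RGDChev Cfsg.Agent.Nodes.Bruhat Cfsg.Agent.Nodes.NormalForm
open Cfsg.Agent.KFacts.RgdField Cfsg.Agent.KFacts.RgdChevCoord Cfsg.Agent.KFacts.RgdDiag Cfsg.Agent.KFacts.RgdTau
open Cfsg.Agent.BpExc Cfsg.Agent.BpExc.FamField Cfsg.Agent.BpExc.TorCent Cfsg.Agent.BpExc.TorChev Cfsg.Agent.BpExc.Tow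
  Cfsg.Agent.BpExc.TowChev Cfsg.Agent.BpExc.Fr Cfsg.Agent.BpExc.Pair Cfsg.Agent.BpExc.LangFr Cfsg.Agent.GpExc.Field
  Cfsg.Agent.BpExc.FamUntw Cfsg.Agent.BpExc.FamInst
open Cfsg.Agent.H469.Exc Cfsg.Agent.H469.Exc.SigFr
open Cfsg.Agent.ChevalleyStructure.SignedSymm Cfsg.Agent.ChevalleyStructure.GraphSymm
open Cfsg.Agent.H316.U6
open Cfsg.Agent.ChevalleyStructure.TwE6Basic (hE6 sg)
open Cfsg.Agent.CpAut.RgdUntw (fld)
open Cfsg.Agent.BpExc.FamTw.Gr
open Cfsg.Agent.BpExc.FamTw.Six (em coe_em em_injective)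

variable (r : ℕ) [hr : Fact r.Prime]

/-! ### the group of frame automorphisms -/

/-- the graph automorphism and the Frobenius automorphism -/
noncomputable def AA : Subgroup (MulAut (YY chevE6 r)) :=
  Subgroup.closure {gr hE6 symmE6, phi chevE6 (KK r) r 1}

theorem gr_mem : gr hE6 symmE6 ∈ AA r := Subgroup.subset_closure (Or.inl rfl)

theorem phi_mem (m : ℕ) : phi chevE6 (KK r) r m ∈ AA r := by
  have h1 : phi chevE6 (KK r) r 1 ∈ AA r := Subgroup.subset_closure (Or.inr rfl)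
  have h2 := pow_mem h1 m
  rwa [phi_pow, one_mul] at h2

theorem AA_comm : ∀ β ∈ AA r, ∀ β' ∈ AA r, β * β' = β' * β := by
  have h0 : gr (L := KK r) hE6 symmE6 * phi chevE6 (KK r) r 1 = phi chevE6 (KK r) r 1 * gr hE6 symmE6 :=
    gr_mul_fld hE6 symmE6 _
  have h1 : ∀ β ∈ ({gr hE6 symmE6, phi chevE6 (KK r) r 1} : Set (MulAut (YY chevE6 r))),
      ∀ β' ∈ ({gr hE6 symmE6, phi chevE6 (KK r) r 1} : Set (MulAut (YY chevE6 r))), β * β' = β' * β := by
    rintro β (rfl | rfl) β' (rfl | rfl)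
    · rfl
    · exact h0
    · exact h0.symm
    · rfl
  have h2 : AA r ≤ Subgroup.centralizer
      ({gr hE6 symmE6, phi chevE6 (KK r) r 1} : Set (MulAut (YY chevE6 r))) := by
    refine (Subgroup.closure_le _).2 fun β hβ => ?_
    rw [SetLike.mem_coe, Subgroup.mem_centralizer_iff]
    exact fun β' hβ' => h1 β' hβ' β hβ
  have h3 : AA r ≤ Subgroup.centralizer (AA r : Set (MulAut (YY chevE6 r))) := by
    refine (Subgroup.closure_le _).2 fun β hβ => ?_
    rw [SetLike.mem_coe, Subgroup.mem_centralizer_iff]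
    exact fun β' hβ' => (Subgroup.mem_centralizer_iff.1 (h2 hβ') β hβ).symm
  exact fun β hβ β' hβ' => Subgroup.mem_centralizer_iff.1 (h3 hβ') β hβ

theorem AA_fr {β : MulAut (YY chevE6 r)} (hβ : β ∈ AA r) : ∃ g : (Fin 6 → ℤ) ≃+ (Fin 6 → ℤ),
    Fr CoxeterMatrix.E₆.toCoxeterSystem hpE6.isCartan (TT chevE6 (KK r)) (XX chevE6 6 (KK r)) β g := by
  induction hβ using Subgroup.closure_induction with
  | mem β hβ =>
    rcases hβ with rfl | rfl
    · exact ⟨_, H522.FamTw.Frame.fr_six hpE6 CoxeterMatrix.E₆.toCoxeterSystem⟩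
    · exact ⟨_, phi_fr hpE6 CoxeterMatrix.E₆.toCoxeterSystem r (locFin r) 1⟩
  | one => exact ⟨_, Fr.one⟩
  | mul β β' _ _ h h' =>
    obtain ⟨g, h⟩ := h
    obtain ⟨g', h'⟩ := h'
    exact ⟨_, h.mul h'⟩
  | inv β _ h =>
    obtain ⟨g, h⟩ := h
    exact ⟨_, h.inv⟩

theorem AA_sfr {β : MulAut (YY chevE6 r)} (hβ : β ∈ AA r) : SFr hpE6 r β := by
  obtain ⟨g, h⟩ := AA_fr r hβ
  exact ⟨g, h, fun h8 => absurd h8 (by norm_num)⟩

theorem AA_wfr {β : MulAut (YY chevE6 r)} (hβ : β ∈ AA r) : WFr hpE6 r β := by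
  obtain ⟨g, h⟩ := AA_fr r hβ
  exact ⟨h.tor, fun a ha => ⟨g a, (h.root a).2 ha, h.map a ha⟩⟩

theorem gcd_three (n : ℕ) : Nat.gcd 3 n = 1 ∨ Nat.gcd 3 n = 3 :=
  (Nat.dvd_prime Nat.prime_three).1 (Nat.gcd_dvd_left 3 n)

/-! ### `E₆(q)` -/

section Untw

theorem perm_six (σ : Equiv.Perm (Fin 6)) (h : ∀ i j, CoxeterMatrix.E₆ (σ i) (σ j) = CoxeterMatrix.E₆ i j) :
    σ = 1 ∨ σ = H522.FamTw.Frame.rho6 := by
  have tb : ∀ z : Fin 6 × Fin 6, CoxeterMatrix.E₆ z.1 z.2 = 3 →
      Nat.land (Nat.shiftRight 17856762372 (Nat.add (Nat.mul 6 z.1.1) z.2.1)) 1 = 1 := by decide +kernel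
  have key : ∀ σ : Equiv.Perm (Fin 6), Nat.land (Nat.shiftRight 17856762372 (Nat.add (Nat.mul 6 (σ 1).1) (σ 3).1)) 1 = 1 →
      Nat.land (Nat.shiftRight 17856762372 (Nat.add (Nat.mul 6 (σ 2).1) (σ 3).1)) 1 = 1 →
      Nat.land (Nat.shiftRight 17856762372 (Nat.add (Nat.mul 6 (σ 3).1) (σ 4).1)) 1 = 1 →
      Nat.land (Nat.shiftRight 17856762372 (Nat.add (Nat.mul 6 (σ 0).1) (σ 2).1)) 1 = 1 →
      Nat.land (Nat.shiftRight 17856762372 (Nat.add (Nat.mul 6 (σ 4).1) (σ 5).1)) 1 = 1 → σ = 1 ∨ σ = H522.FamTw.Frame.rho6 := by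
    (set_option synthInstance.maxSize 9000 in open scoped Cfsg.Agent.Lib.FastPerm in decide +kernel)
  exact key σ (tb (_, _) ((h 1 3).trans rfl)) (tb (_, _) ((h 2 3).trans rfl)) (tb (_, _) ((h 3 4).trans rfl)) (tb (_, _) ((h 0 2).trans rfl))
    (tb (_, _) ((h 4 5).trans rfl))

theorem rho_sq : H522.FamTw.Frame.rho6 * H522.FamTw.Frame.rho6 = 1 := by decide

theorem center_six (F : Type) [Field F] : Subgroup.center ↥(chevE6.group F) = ⊥ := by
  obtain ⟨h1, h2⟩ := S1054.result (F := F) chevE6 (by simp)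
  refine KFacts.RgdLieCharP.center_eq_bot ?_
  by_contra hcon
  push Not at hcon
  exact h2 ⟨⟨hcon⟩⟩

variable {F : Type} [Field F]

/-- the graph automorphism preserves the frame -/
theorem diag_gr : Diag (TT chevE6 F) (XX chevE6 6 F) (gr (L := F) hE6 symmE6) H522.FamTw.Frame.rho6 := by
  have hf := H522.FamTw.Frame.fr_six (k := F) hpE6 CoxeterMatrix.E₆.toCoxeterSystem
  have hsr : ∀ i : Fin 6, H522.FamTw.Frame.permE H522.FamTw.Frame.rho6 (sr i) =
      (sr (H522.FamTw.Frame.rho6 i) : Fin 6 → ℤ) := by decide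
  refine ⟨fun t => hf.tor t, fun i y => ?_, fun i y => ?_⟩
  · rw [← hsr]
    exact hf.map (sr i) (isRoot_sr _ _ i) y
  · rw [← hsr, ← map_neg]
    exact hf.map (-sr i) (isRoot_sr _ _ i).neg y

theorem emb_gr (f : F →+* KK r) (x : ↥(chevE6.group F)) :
    emb hpE6.inList f (gr hE6 symmE6 x) = gr hE6 symmE6 (emb hpE6.inList f x) := by
  apply Subtype.ext
  rw [coe_emb, coe_gr, coe_gr, coe_emb, map_mul, map_mul, map_inv, glMap_P]

variable [Fintype F] [CharP F r]

/-- frame automorphisms without graph part -/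
theorem ext_of_diag (f : F →+* KK r) {β : MulAut ↥(chevE6.group F)} (D : Diag (TT chevE6 F) (XX chevE6 6 F) β 1) :
    ∃ (t : YY chevE6 r) (j : ℕ), ∀ x, emb hpE6.inList f (β x) =
      t * phi chevE6 (KK r) r j (emb hpE6.inList f x) * t⁻¹ := by
  have hW := finite_W hpE6 CoxeterMatrix.E₆.toCoxeterSystem
  have R := rgd (K := F) hpE6 CoxeterMatrix.E₆.toCoxeterSystem r
  have C := coords (K := F) hpE6 CoxeterMatrix.E₆.toCoxeterSystem r
  have H := coroots (K := F) hpE6 CoxeterMatrix.E₆.toCoxeterSystem r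
  have hG1 : RGD.Sup (XX chevE6 6 F) {x | IsRoot CoxeterMatrix.E₆.toCoxeterSystem hpE6.isCartan x} = ⊤ :=
    G1_eq_top hpE6 CoxeterMatrix.E₆.toCoxeterSystem
  have hs := (S1054.result (F := F) chevE6 (by simp)).1
  have hconn := KFacts.RgdLieCharP.conn_of_simple R hG1 (center_six F)
  obtain ⟨τ, hτ⟩ := exists_tau R C H hconn D (fun _ _ => rfl)
  obtain ⟨j, hj⟩ := exists_pow_eq r τ
  obtain ⟨t, -, e⟩ := FamExt.exists_ext hpE6 f r hconn inv_E6 three_ne_zero
    (fun c _ => IsAlgClosed.exists_pow_nat_eq (f c) (by norm_num)) hτ (τ' := frb (KK r) r j) (fun a => by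
      rw [frb_apply, hj, map_pow])
  exact ⟨t, j, e⟩

/-- **Every automorphism of `E₆(q)` extends.** -/
theorem ext_untw (f : F →+* KK r) (α : MulAut ↥(chevE6.group F)) : ∃ y : YY chevE6 r, ∃ β ∈ AA r,
    ∀ x, emb hpE6.inList f (α x) = y * β (emb hpE6.inList f x) * y⁻¹ := by
  have hW := finite_W hpE6 CoxeterMatrix.E₆.toCoxeterSystem
  have R := rgd (K := F) hpE6 CoxeterMatrix.E₆.toCoxeterSystem r
  have hG := TorChev.GG_top (K := F) hpE6 CoxeterMatrix.E₆.toCoxeterSystem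
  obtain ⟨g, -, -, s, D⟩ := FamFrame.exists_frame_any R hG α
  have key : ∀ (t : YY chevE6 r) (β : MulAut (YY chevE6 r)),
      (∀ x, emb hpE6.inList f (g * α x * g⁻¹) = t * β (emb hpE6.inList f x) * t⁻¹) →
      ∀ x, emb hpE6.inList f (α x) = ((emb hpE6.inList f g)⁻¹ * t) * β (emb hpE6.inList f x) *
        ((emb hpE6.inList f g)⁻¹ * t)⁻¹ := by
    intro t β h x
    have h1 := h x
    rw [map_mul, map_mul, map_inv] at h1
    have h2 : emb hpE6.inList f (α x) = (emb hpE6.inList f g)⁻¹ * (emb hpE6.inList f g * emb hpE6.inList f (α x) *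
      (emb hpE6.inList f g)⁻¹) * emb hpE6.inList f g := by group
    rw [h2, h1]
    group
  rcases perm_six s (D.matrix R) with rfl | rfl
  · obtain ⟨t, j, e⟩ := ext_of_diag r f D
    exact ⟨_, _, phi_mem r j, key t _ e⟩
  · have D' := D.mul diag_gr
    rw [rho_sq] at D'
    obtain ⟨t, j, e⟩ := ext_of_diag r f D'
    refine ⟨_, _, mul_mem (phi_mem r j) (gr_mem r), key t _ fun x => ?_⟩
    have h1 := e (gr hE6 symmE6 x)
    have h2 : gr (L := F) hE6 symmE6 (gr hE6 symmE6 x) = x :=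
      congrArg (fun β : MulAut ↥(chevE6.group F) => β x) (H522.FamTw.Frame.gr_sq6 (k := F) hE6)
    rw [MulAut.mul_apply, h2, emb_gr] at h1
    exact h1

end Untw

/-! ### `²E₆(q)` -/

/-- the data with the given embedding (as `H316.U6.mdata_twE6'`) -/
theorem mdata_tw {K : Type} [Field K] [Fintype K] [CharP K r] {q : ℕ} (hq : IsPrimePow q)
    (hK : Fintype.card K = q ^ 2) (f : K →+* KK r) {m : ℕ} (hm0 : 0 < m) (hm : q = r ^ m) :
    ∃ M : MData hpE6 r q ↥(twistedE6 K q), M.ι = em q f ∧ M.σ = gr hE6 symmE6 * phi chevE6 (KK r) r m ∧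
      M.dd = Nat.gcd 3 (q + 1) := by
  have hk := locFin r
  obtain ⟨Φ, hΦe⟩ : ∃ Φ : KK r ≃+* KK r, Φ = frb (KK r) r m := ⟨_, rfl⟩
  have hΦ : ∀ a, Φ a = a ^ r ^ m := by
    intro a
    rw [hΦe]
    exact frb_apply _ r m a
  have hφ : ∀ a, (Φ : KK r →+* KK r) a = a ^ q := by
    intro a
    rw [hm]
    exact hΦ a
  have hγ := coe_gr (L := KK r) hE6 symmE6
  have hσ := SigFr.isFrob_symm_fld (p := r) symmE6 hγ hΦ
  have Fσ := (SigFr.fr_E6 hγ CoxeterMatrix.E₆.toCoxeterSystem).mul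
    (SigFr.fr_fld Nodes.RGDTwE6.hp CoxeterMatrix.E₆.toCoxeterSystem Φ)
  have hfin := Sig.finite_fixed hk hm0 hσ
  have hsg : ∀ y : ↥(chevE6.group (KK r)),
      (((gr hE6 symmE6 * fld chevE6 Φ : MulAut ↥(chevE6.group (KK r))) y :
        ↥(chevE6.group (KK r))) : GL chevE6.Idx (KK r)) =
      sg (Φ : KK r →+* KK r) (y : GL chevE6.Idx (KK r)) := by
    intro y
    rfl
  have hfix : ∀ a, (gr hE6 symmE6 * fld chevE6 Φ : MulAut ↥(chevE6.group (KK r))) (em q f a) = em q f a := by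
    intro a
    apply Subtype.ext
    rw [hsg, coe_em]
    exact (EmbInst.twE6_fix (f := f) hq hK hφ a.2).2
  have hnorm : ∀ y, (gr hE6 symmE6 * fld chevE6 Φ : MulAut ↥(chevE6.group (KK r))) y = y → ∀ x, ∃ x',
      em q f x' = y * em q f x * y⁻¹ := by
    intro y hy x
    have h1 : sg (Φ : KK r →+* KK r) (y : GL chevE6.Idx (KK r)) = y := by rw [← hsg, hy]
    have hn := EmbInst.twE6_normalizer (f := f) hq hK hφ y.2 h1
    obtain ⟨b, hb, hb'⟩ := (Subgroup.mem_normalizer_iff.1 hn (glMap chevE6 f x)).1 ⟨x, x.2, rfl⟩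
    exact ⟨⟨b, hb⟩, Subtype.ext hb'⟩
  have hpow : ∀ y, (gr hE6 symmE6 * fld chevE6 Φ : MulAut ↥(chevE6.group (KK r))) y = y →
      y ^ Nat.gcd 3 (q + 1) ∈ (em q f).range := by
    intro y hy
    have h1 : sg (Φ : KK r →+* KK r) (y : GL chevE6.Idx (KK r)) = y := by rw [← hsg, hy]
    have h2 : iterateFrobenius (KK r) r m = (Φ : KK r →+* KK r) := by
      ext t
      rw [iterateFrobenius_def, ← hm, hφ]
    have h3 := H720.TwFr.coe_sig6 (k := KK r) r m y
    rw [h2, h1] at h3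
    exact H720.TwFr.desc6 f r hk hm0 hm hK (Subtype.ext h3)
  refine ⟨{
    σ := _
    π := symmE6.σ₀.symm
    dd := Nat.gcd 3 (q + 1)
    norm := hnorm
    pow_dd := hpow
    g := _
    e := m
    ι := em q f
    he := hm0
    hq := hm.symm
    frob := hσ
    fr := Fσ
    fin := hfin
    inj := em_injective f
    fix := hfix
    idx := ?_
    act := ?_
    perm := fun v i => rfl
    top := topE6
    gen := gen_of_words Nodes.RGDTwE6.hp f (fun _ => rfl) (wordsE6 q) }, rfl, ?_, rfl⟩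
  · intro y hy
    have h1 : sg (Φ : KK r →+* KK r) (y : GL chevE6.Idx (KK r)) = y := by rw [← hsg, hy]
    obtain ⟨g, hg, t, ht, e⟩ := EmbInst.twE6_split (f := f) hq hK hφ y.2 h1
    have ht' : t ∈ chevE6.group (KK r) := diagonal_le_group hE6 _ ht
    have hn := EmbInst.twE6_normalizer (f := f) hq hK hφ y.2 h1
    refine pow_mem_range Nodes.RGDTwE6.hp (em q f) hfix hy (fun a => ?_) (a := ⟨g, hg⟩) (t := ⟨t, ht'⟩) ht
      (Subtype.ext e)
    obtain ⟨b, hb, hb'⟩ := (Subgroup.mem_normalizer_iff.1 hn (glMap chevE6 f a)).1 ⟨a, a.2, rfl⟩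
    exact ⟨⟨b, hb⟩, Subtype.ext hb'⟩
  · intro s hs
    refine ⟨symmE6.σ ⟨s, hs⟩, ?_, actF_symm_fld symmE6 _ hγ (fun a => (hφ a)) ⟨s, hs⟩⟩
    funext i
    exact piE6 ⟨s, hs⟩ i
  · show gr hE6 symmE6 * fld chevE6 Φ = _
    rw [hΦe]
    rfl

end Cfsg.Agent.DS.Ex.Six
end
end
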