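import Cfsg.Agent.S2540
import Cfsg.Agent.FastGrp
import Cfsg.Agent.Prune
set_option linter.all false
prune_inst 0x7f00000000000000000000000000000000000000000000000000000000000000000000000000000000000000000000000000000000000000000000000000000000000000000000000000000000000000003fffffffffffffffffffffffffffbeffbdffffffff
open scoped Cfsg.Agent.FastGrp

-- part: DS/Nt/JLin
section
/-!
# S5881, the non-toral local case: linear algebra in `SL_r(k)`, `r` prime (helper55)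

* `cen_pow`, `cen_cyc` : the centre;
* `sl_normal` : normal subgroups;
* `heis` : the centraliser of a pair `x y = ω y x`, `ω ≠ 1`, is the centre;
* `proj` : a non-central element with central `r`-th power gives a non-central element of order `s` commuting with its
  centraliser;
* `exists_diag` : diagonal automorphisms are inner.
-/

set_option autoImplicit false

namespace Cfsg.Agent.DS.Nt.JL

open Matrix Matrix.SpecialLinearGroup
open scoped commutatorElement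

variable {k : Type*} [Field k] {r : ℕ}

theorem cen_pow {u : SpecialLinearGroup (Fin r) k} (hu : u ∈ Subgroup.center (SpecialLinearGroup (Fin r) k)) :
    u ^ r = 1 := by
  obtain ⟨c, hc, e⟩ := Matrix.SpecialLinearGroup.mem_center_iff.1 hu
  rw [Fintype.card_fin] at hc
  apply Subtype.ext
  rw [Matrix.SpecialLinearGroup.coe_pow, ← e, ← map_pow, hc, map_one]
  rfl

theorem prim_of (hr : r.Prime) {c : k} (hc : c ^ r = 1) (h1 : c ≠ 1) : IsPrimitiveRoot c r := by
  have := Fact.mk hr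
  rw [← orderOf_eq_prime hc h1]
  exact IsPrimitiveRoot.orderOf c

theorem cen_cyc (hr : r.Prime) {u v : SpecialLinearGroup (Fin r) k}
    (hu : u ∈ Subgroup.center (SpecialLinearGroup (Fin r) k)) (h1 : u ≠ 1)
    (hv : v ∈ Subgroup.center (SpecialLinearGroup (Fin r) k)) : ∃ a : ℕ, v = u ^ a := by
  obtain ⟨c, hc, e⟩ := Matrix.SpecialLinearGroup.mem_center_iff.1 hu
  obtain ⟨d, hd, e'⟩ := Matrix.SpecialLinearGroup.mem_center_iff.1 hv
  rw [Fintype.card_fin] at hc hd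
  have hc1 : c ≠ 1 := by
    rintro rfl
    apply h1
    apply Subtype.ext
    rw [← e, map_one]
    rfl
  have := NeZero.mk hr.ne_zero
  obtain ⟨a, -, ha⟩ := (prim_of hr hc hc1).eq_pow_of_pow_eq_one hd
  refine ⟨a, Subtype.ext ?_⟩
  rw [Matrix.SpecialLinearGroup.coe_pow, ← e, ← e', ← map_pow, ha]

theorem exists_sq_ne [Infinite k] : ∃ a : k, a ≠ 0 ∧ a ^ 2 ≠ 1 := by
  classical
  obtain ⟨a, ha⟩ := Infinite.exists_notMem_finset ({0, 1, -1} : Finset k)
  simp only [Finset.mem_insert, Finset.mem_singleton, not_or] at ha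
  refine ⟨a, ha.1, fun h => ?_⟩
  rw [sq] at h
  rcases mul_self_eq_one_iff.1 h with h | h
  · exact ha.2.1 h
  · exact ha.2.2 h

theorem sl_perfect [Infinite k] (hr : 2 ≤ r) : commutator (SpecialLinearGroup (Fin r) k) = ⊤ := by
  rcases hr.eq_or_lt with rfl | h
  · obtain ⟨a, h0, h1⟩ := exists_sq_ne (k := k)
    exact Matrix.SL2.commutator_eq_top h0 h1
  · exact LieClassical.SLGen.commutator_eq_top (by rw [Fintype.card_fin]; omega)

theorem sl_normal [Infinite k] (hr : 2 ≤ r) (N : Subgroup (SpecialLinearGroup (Fin r) k)) [N.Normal] :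
    N ≤ Subgroup.center (SpecialLinearGroup (Fin r) k) ∨ N = ⊤ := by
  have : Nontrivial (Fin r) := Fin.nontrivial_iff_two_le.2 hr
  exact S2540.normal_dichotomy (sl_perfect hr) (LieClassical.SLGen.psl_isSimpleGroup_of_perfect (sl_perfect hr)) N

theorem mem_center_of_scalar {A : SpecialLinearGroup (Fin r) k} {c : k}
    (h : (A : Matrix (Fin r) (Fin r) k) = c • (1 : Matrix (Fin r) (Fin r) k)) :
    A ∈ Subgroup.center (SpecialLinearGroup (Fin r) k) := by
  rw [Subgroup.mem_center_iff]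
  intro g
  apply Subtype.ext
  rw [Matrix.SpecialLinearGroup.coe_mul, Matrix.SpecialLinearGroup.coe_mul, h, Matrix.mul_smul, Matrix.smul_mul,
    Matrix.mul_one, Matrix.one_mul]

theorem scalar_of_mem_center {A : SpecialLinearGroup (Fin r) k}
    (h : A ∈ Subgroup.center (SpecialLinearGroup (Fin r) k)) :
    ∃ c : k, c ^ r = 1 ∧ (A : Matrix (Fin r) (Fin r) k) = c • (1 : Matrix (Fin r) (Fin r) k) := by
  obtain ⟨c, hc, e⟩ := Matrix.SpecialLinearGroup.mem_center_iff.1 h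
  rw [Fintype.card_fin] at hc
  exact ⟨c, hc, by rw [← e, scalar_apply, smul_one_eq_diagonal]⟩

theorem mulVec_ne_zero (A : SpecialLinearGroup (Fin r) k) {v : Fin r → k} (hv : v ≠ 0) :
    (A : Matrix (Fin r) (Fin r) k) *ᵥ v ≠ 0 := by
  intro h
  apply hv
  have h1 : ((A⁻¹ : SpecialLinearGroup (Fin r) k) : Matrix (Fin r) (Fin r) k) *ᵥ
      ((A : Matrix (Fin r) (Fin r) k) *ᵥ v) = v := by
    rw [Matrix.mulVec_mulVec, ← Matrix.SpecialLinearGroup.coe_mul, inv_mul_cancel, Matrix.SpecialLinearGroup.coe_one,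
      Matrix.one_mulVec]
  rw [← h1, h, Matrix.mulVec_zero]

/-- a common eigenvector of two commuting matrices -/
theorem exists_eigen [IsAlgClosed k] (hr : 0 < r) {A X : Matrix (Fin r) (Fin r) k} (h : A * X = X * A) :
    ∃ (v : Fin r → k) (a μ : k), v ≠ 0 ∧ A *ᵥ v = a • v ∧ X *ᵥ v = μ • v := by
  have : Nonempty (Fin r) := ⟨⟨0, hr⟩⟩
  obtain ⟨a, ha⟩ := Module.End.exists_eigenvalue (Matrix.toLin' A)
  have hK : ∀ v ∈ Module.End.eigenspace (Matrix.toLin' A) a,
      Matrix.toLin' X v ∈ Module.End.eigenspace (Matrix.toLin' A) a := by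
    intro v hv
    rw [Module.End.mem_eigenspace_iff] at hv ⊢
    rw [Matrix.toLin'_apply] at hv
    rw [Matrix.toLin'_apply, Matrix.toLin'_apply, Matrix.mulVec_mulVec, h, ← Matrix.mulVec_mulVec, hv,
      Matrix.mulVec_smul]
  have : Nontrivial ↥(Module.End.eigenspace (Matrix.toLin' A) a) := Submodule.nontrivial_iff_ne_bot.2 ha
  obtain ⟨μ, hμ⟩ := Module.End.exists_eigenvalue ((Matrix.toLin' X).restrict hK)
  obtain ⟨v, hv⟩ := hμ.exists_hasEigenvector
  refine ⟨v, a, μ, fun h0 => hv.2 (Subtype.ext h0), ?_, ?_⟩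
  · have h1 := v.2
    rwa [Module.End.mem_eigenspace_iff, Matrix.toLin'_apply] at h1
  · have h1 := congrArg Subtype.val hv.apply_eq_smul
    rwa [LinearMap.coe_restrict_apply, Matrix.toLin'_apply] at h1

/-- **The centraliser of a Heisenberg pair.** -/
theorem heis [IsAlgClosed k] (hr : r.Prime) {x y a : SpecialLinearGroup (Fin r) k}
    (hc : ⁅x, y⁆ ∈ Subgroup.center (SpecialLinearGroup (Fin r) k)) (h1 : ⁅x, y⁆ ≠ 1) (hx : a * x = x * a)
    (hy : a * y = y * a) : a ∈ Subgroup.center (SpecialLinearGroup (Fin r) k) := by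
  obtain ⟨ω, hω, e⟩ := scalar_of_mem_center hc
  have hω1 : ω ≠ 1 := by
    rintro rfl
    apply h1
    apply Subtype.ext
    rw [e, one_smul]
    rfl
  have hprim := prim_of hr hω hω1
  have hxy : (x : Matrix (Fin r) (Fin r) k) * y = ω • ((y : Matrix (Fin r) (Fin r) k) * x) := by
    have h2 : x * y = ⁅x, y⁆ * (y * x) := by rw [commutatorElement_def]; group
    have h3 := congrArg Subtype.val h2
    rw [Matrix.SpecialLinearGroup.coe_mul, Matrix.SpecialLinearGroup.coe_mul, Matrix.SpecialLinearGroup.coe_mul, e,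
      Matrix.smul_mul, Matrix.one_mul] at h3
    exact h3
  obtain ⟨v, c, μ, hv, hav, hxv⟩ := exists_eigen hr.pos (A := (a : Matrix (Fin r) (Fin r) k))
    (X := (x : Matrix (Fin r) (Fin r) k)) (congrArg Subtype.val hx :)
  have hμ : μ ≠ 0 := by
    rintro rfl
    exact mulVec_ne_zero x hv (by rw [hxv, zero_smul])
  have hw : ∀ i : ℕ, (x : Matrix (Fin r) (Fin r) k) *ᵥ (((y ^ i : SpecialLinearGroup (Fin r) k) :
      Matrix (Fin r) (Fin r) k) *ᵥ v) = (ω ^ i * μ) • (((y ^ i : SpecialLinearGroup (Fin r) k) :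
      Matrix (Fin r) (Fin r) k) *ᵥ v) := by
    intro i
    induction i with
    | zero => rw [pow_zero, pow_zero, one_mul, Matrix.SpecialLinearGroup.coe_one, Matrix.one_mulVec, hxv]
    | succ i ih =>
      rw [pow_succ' y, Matrix.SpecialLinearGroup.coe_mul, ← Matrix.mulVec_mulVec, Matrix.mulVec_mulVec, hxy,
        Matrix.smul_mulVec, ← Matrix.mulVec_mulVec, ih, Matrix.mulVec_smul, smul_smul, pow_succ' ω, mul_assoc]
  have hind : LinearIndependent k fun i : Fin r =>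
      ((y ^ (i : ℕ) : SpecialLinearGroup (Fin r) k) : Matrix (Fin r) (Fin r) k) *ᵥ v := by
    refine Module.End.eigenvectors_linearIndependent' (Matrix.toLin' (x : Matrix (Fin r) (Fin r) k))
      (fun i : Fin r => ω ^ (i : ℕ) * μ) ?_ _ fun i => ⟨?_, mulVec_ne_zero _ hv⟩
    · intro i j hij
      exact Fin.ext (hprim.pow_inj i.2 j.2 (mul_right_cancel₀ hμ hij))
    · rw [Module.End.mem_eigenspace_iff, Matrix.toLin'_apply]
      exact hw i
  have : Nonempty (Fin r) := ⟨⟨0, hr.pos⟩⟩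
  have hspan := hind.span_eq_top_of_card_eq_finrank (by rw [Module.finrank_fintype_fun_eq_card])
  have hle : (⊤ : Submodule k (Fin r → k)) ≤ Module.End.eigenspace (Matrix.toLin' (a : Matrix (Fin r) (Fin r) k)) c := by
    rw [← hspan, Submodule.span_le]
    rintro _ ⟨i, rfl⟩
    rw [SetLike.mem_coe, Module.End.mem_eigenspace_iff, Matrix.toLin'_apply, Matrix.mulVec_mulVec,
      ← Matrix.SpecialLinearGroup.coe_mul, ((show Commute a y from hy).pow_right i).eq,
      Matrix.SpecialLinearGroup.coe_mul, ← Matrix.mulVec_mulVec, hav, Matrix.mulVec_smul]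
  refine mem_center_of_scalar (c := c) ?_
  apply Matrix.toLin'.injective
  apply LinearMap.ext
  intro w
  have h2 := hle (Submodule.mem_top (x := w))
  rw [Module.End.mem_eigenspace_iff] at h2
  rw [h2, Matrix.toLin'_apply, Matrix.smul_mulVec, Matrix.one_mulVec]

theorem idem_mul {P : Matrix (Fin r) (Fin r) k} (hP : P * P = P) (a b : k) :
    (1 + (a - 1) • P) * (1 + (b - 1) • P) = 1 + (a * b - 1) • P := by
  rw [Matrix.add_mul, Matrix.mul_add, Matrix.mul_add, Matrix.one_mul, Matrix.one_mul, Matrix.mul_one, Matrix.smul_mul,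
    Matrix.mul_smul, hP, smul_smul, add_assoc, ← add_smul, ← add_smul]
  congr 2
  ring

theorem idem_pow {P : Matrix (Fin r) (Fin r) k} (hP : P * P = P) (a : k) (n : ℕ) :
    (1 + (a - 1) • P) ^ n = 1 + (a ^ n - 1) • P := by
  induction n with
  | zero => rw [pow_zero, pow_zero, sub_self, zero_smul, add_zero]
  | succ n ih => rw [pow_succ, ih, idem_mul hP, pow_succ]

/-- **A non-central element with central `r`-th power.** -/
theorem proj [IsAlgClosed k] (hr : 0 < r) (hrk : (r : k) ≠ 0) {s : ℕ} (hs : 1 < s) (hsr : r.Coprime s) {ν : k}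
    (hν : ν ^ s = 1) (hν1 : ν ≠ 1) {x : SpecialLinearGroup (Fin r) k}
    (hx : x ∉ Subgroup.center (SpecialLinearGroup (Fin r) k))
    (hxr : x ^ r ∈ Subgroup.center (SpecialLinearGroup (Fin r) k)) :
    ∃ b : SpecialLinearGroup (Fin r) k, b ^ s = 1 ∧ b ∉ Subgroup.center (SpecialLinearGroup (Fin r) k) ∧
      ∀ j, j * x = x * j → j * b = b * j := by
  obtain ⟨ω, -, e⟩ := scalar_of_mem_center hxr
  rw [Matrix.SpecialLinearGroup.coe_pow] at e
  obtain ⟨v, μ, -, hv, hxv, -⟩ := exists_eigen hr (A := (x : Matrix (Fin r) (Fin r) k)) (X := x) rfl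
  have hμ : μ ≠ 0 := by
    rintro rfl
    exact mulVec_ne_zero x hv (by rw [hxv, zero_smul])
  obtain ⟨B, hB⟩ : ∃ B : Matrix (Fin r) (Fin r) k, B = μ⁻¹ • (x : Matrix (Fin r) (Fin r) k) := ⟨_, rfl⟩
  have hBv : B *ᵥ v = v := by rw [hB, Matrix.smul_mulVec, hxv, smul_smul, inv_mul_cancel₀ hμ, one_smul]
  have hBi : ∀ i : ℕ, B ^ i *ᵥ v = v := by
    intro i
    induction i with
    | zero => rw [pow_zero, Matrix.one_mulVec]
    | succ i ih => rw [pow_succ, ← Matrix.mulVec_mulVec, hBv, ih]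
  have hBr : B ^ r = 1 := by
    have h1 : B ^ r = (μ⁻¹ ^ r * ω) • (1 : Matrix (Fin r) (Fin r) k) := by rw [hB, smul_pow, e, smul_smul]
    have h2 := hBi r
    rw [h1, Matrix.smul_mulVec, Matrix.one_mulVec] at h2
    have h3 : (μ⁻¹ ^ r * ω - 1) • v = 0 := by rw [sub_smul, h2, one_smul, sub_self]
    rw [h1, sub_eq_zero.1 ((smul_eq_zero.1 h3).resolve_right hv), one_smul]
  obtain ⟨P, hP⟩ : ∃ P : Matrix (Fin r) (Fin r) k, P = (r : k)⁻¹ • ∑ i ∈ Finset.range r, B ^ i := ⟨_, rfl⟩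
  have hBP : B * P = P := by
    have h1 : B * ∑ i ∈ Finset.range r, B ^ i = ∑ i ∈ Finset.range r, B ^ i := by
      have h2 := mul_geom_sum B r
      rw [hBr, sub_self, sub_mul, one_mul, sub_eq_zero] at h2
      exact h2
    rw [hP, Matrix.mul_smul, h1]
  have hBiP : ∀ i : ℕ, B ^ i * P = P := by
    intro i
    induction i with
    | zero => rw [pow_zero, Matrix.one_mul]
    | succ i ih => rw [pow_succ, Matrix.mul_assoc, hBP, ih]
  have hPP : P * P = P := by
    conv_lhs => rw [show P * P = ((r : k)⁻¹ • ∑ i ∈ Finset.range r, B ^ i) * P by rw [← hP]]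
    rw [Matrix.smul_mul, Finset.sum_mul, Finset.sum_congr rfl fun i _ => hBiP i, Finset.sum_const, Finset.card_range,
      ← Nat.cast_smul_eq_nsmul k, smul_smul, inv_mul_cancel₀ hrk, one_smul]
  have hPv : P *ᵥ v = v := by
    rw [hP, Matrix.smul_mulVec, Matrix.sum_mulVec, Finset.sum_congr rfl fun i _ => hBi i, Finset.sum_const,
      Finset.card_range, ← Nat.cast_smul_eq_nsmul k, smul_smul, inv_mul_cancel₀ hrk, one_smul]
  have hP1 : P ≠ 1 := by
    intro h
    rw [h, Matrix.mul_one] at hBP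
    refine hx (mem_center_of_scalar (c := μ) ?_)
    rw [← hBP, hB, smul_smul, mul_inv_cancel₀ hμ, one_smul]
  obtain ⟨b0, hb0⟩ : ∃ b0 : Matrix (Fin r) (Fin r) k, b0 = 1 + (ν - 1) • P := ⟨_, rfl⟩
  have hb0s : b0 ^ s = 1 := by rw [hb0, idem_pow hPP, hν, sub_self, zero_smul, add_zero]
  have hδ : b0.det ^ s = 1 := by rw [← Matrix.det_pow, hb0s, Matrix.det_one]
  have hδ0 : b0.det ≠ 0 := by
    intro h
    rw [h, zero_pow (by omega)] at hδ
    exact zero_ne_one hδ
  obtain ⟨m, -, hm⟩ := Nat.exists_mul_mod_eq_one_of_coprime hsr hs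
  obtain ⟨lam, hlam⟩ : ∃ lam : k, lam = b0.det⁻¹ ^ m := ⟨_, rfl⟩
  have hls : lam ^ s = 1 := by rw [hlam, ← pow_mul, mul_comm, pow_mul, inv_pow, hδ, inv_one, one_pow]
  have hlr : lam ^ r * b0.det = 1 := by
    have h1 : b0.det⁻¹ ^ s = 1 := by rw [inv_pow, hδ, inv_one]
    rw [hlam, ← pow_mul, mul_comm m r, ← Nat.div_add_mod (r * m) s, hm, pow_add, pow_mul, h1, one_pow, one_mul, pow_one,
      inv_mul_cancel₀ hδ0]
  have hl0 : lam ≠ 0 := by
    rintro rfl
    rw [zero_pow (by omega)] at hls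
    exact zero_ne_one hls
  obtain ⟨b, hb⟩ : ∃ b : SpecialLinearGroup (Fin r) k, (b : Matrix (Fin r) (Fin r) k) = lam • b0 :=
    ⟨⟨lam • b0, by rw [Matrix.det_smul, Fintype.card_fin, hlr]⟩, rfl⟩
  refine ⟨b, ?_, ?_, ?_⟩
  · apply Subtype.ext
    rw [Matrix.SpecialLinearGroup.coe_pow, hb, smul_pow, hls, hb0s, one_smul]
    rfl
  · intro h
    obtain ⟨c, -, hc⟩ := scalar_of_mem_center h
    have h1 : lam • b0 = c • (1 : Matrix (Fin r) (Fin r) k) := hb.symm.trans hc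
    have h2 : b0 = (lam⁻¹ * c) • (1 : Matrix (Fin r) (Fin r) k) := by
      rw [← smul_smul, ← h1, smul_smul, inv_mul_cancel₀ hl0, one_smul]
    have h3 : b0 *ᵥ v = ν • v := by
      rw [hb0, Matrix.add_mulVec, Matrix.one_mulVec, Matrix.smul_mulVec, hPv, sub_smul, one_smul, add_sub_cancel]
    rw [h2, Matrix.smul_mulVec, Matrix.one_mulVec] at h3
    have h4 : (lam⁻¹ * c - ν) • v = 0 := by rw [sub_smul, h3, sub_self]
    rw [sub_eq_zero.1 ((smul_eq_zero.1 h4).resolve_right hv), hb0] at h2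
    apply hP1
    have h5 : (ν - 1) • (P - 1) = 0 := by
      rw [smul_sub, sub_smul ν 1 (1 : Matrix (Fin r) (Fin r) k), ← h2, one_smul]
      abel
    exact sub_eq_zero.1 ((smul_eq_zero.1 h5).resolve_left (sub_ne_zero.2 hν1))
  · intro j hj
    have h1 : Commute (j : Matrix (Fin r) (Fin r) k) x := congrArg Subtype.val hj
    have h2 : Commute (j : Matrix (Fin r) (Fin r) k) B := by rw [hB]; exact h1.smul_right _
    have h3 : Commute (j : Matrix (Fin r) (Fin r) k) P := by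
      rw [hP]
      exact (Commute.sum_right _ _ _ fun i _ => h2.pow_right i).smul_right _
    have h4 : Commute (j : Matrix (Fin r) (Fin r) k) (lam • b0) := by
      rw [hb0]
      exact ((Commute.one_right _).add_right (h3.smul_right _)).smul_right _
    rw [← hb] at h4
    exact Subtype.ext h4

/-- **Diagonal automorphisms are inner.** -/
theorem exists_diag [IsAlgClosed k] (hr : 0 < r) (lam : Fin r → k) (h0 : ∀ a, lam a ≠ 0) :
    ∃ d : SpecialLinearGroup (Fin r) k, ∀ a b (hab : a ≠ b) (c : k),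
      d * transvection hab c = transvection hab (lam a * (lam b)⁻¹ * c) * d := by
  obtain ⟨μ, hμ⟩ := IsAlgClosed.exists_pow_nat_eq (∏ a, lam a)⁻¹ hr
  have hp0 : ∏ a, lam a ≠ 0 := Finset.prod_ne_zero_iff.2 fun a _ => h0 a
  refine ⟨⟨μ • Matrix.diagonal lam, by
    rw [Matrix.det_smul, Fintype.card_fin, hμ, Matrix.det_diagonal, inv_mul_cancel₀ hp0]⟩, fun a b hab c => ?_⟩
  apply Subtype.ext
  show μ • Matrix.diagonal lam * (1 + Matrix.single a b c) =
    (1 + Matrix.single a b (lam a * (lam b)⁻¹ * c)) * μ • Matrix.diagonal lam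
  rw [Matrix.smul_mul, Matrix.mul_smul, Matrix.mul_add, Matrix.add_mul, Matrix.mul_one, Matrix.one_mul]
  congr 2
  ext i j
  rw [Matrix.diagonal_mul, Matrix.mul_diagonal, Matrix.single_apply, Matrix.single_apply]
  by_cases h : a = i ∧ b = j
  · obtain ⟨rfl, rfl⟩ := h
    rw [if_pos ⟨rfl, rfl⟩, if_pos ⟨rfl, rfl⟩]
    have := h0 b
    field_simp
  · rw [if_neg h, if_neg h, mul_zero, zero_mul]

end Cfsg.Agent.DS.Nt.JL
end

-- part: DS/Nt/JAbs
section
/-!
# S5881, the non-toral local case: the dichotomy for an embedded `SL_r(k)`, `r` prime (helper55)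

`ψ : SL_r(k) →* Y` injective, every element commuting with `z` acts on the image as an inner automorphism.

* `Inn ψ c j` : `c` acts as `j`;
* `SD ψ z`, `SD.conj`;
* `SD.dich` : the image of an elementary abelian `r`-group `E ∋ z` in `PSL_r(k)` is trivial or self-centralising of
  order `r ^ 2`, if no element of order `s` of `C(E)` commutes with all the elements of order `s` of `C(E)`.
-/

set_option autoImplicit false

namespace Cfsg.Agent.DS.Nt.JL

open Matrix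
open scoped commutatorElement

section Grp

variable {G : Type*} [Group G]

theorem cmt_mul {j j' x : G} (h : ⁅j', x⁆ ∈ Subgroup.center G) : ⁅j * j', x⁆ = ⁅j, x⁆ * ⁅j', x⁆ := by
  have h1 := Subgroup.mem_center_iff.1 h
  calc ⁅j * j', x⁆ = j * ⁅j', x⁆ * (x * j⁻¹ * x⁻¹) := by simp only [commutatorElement_def]; group
    _ = j * ((x * j⁻¹ * x⁻¹) * ⁅j', x⁆) := by rw [mul_assoc, ← h1]
    _ = _ := by rw [commutatorElement_def j x]; group

theorem cmt_pow {j x : G} (h : ⁅j, x⁆ ∈ Subgroup.center G) (n : ℕ) : ⁅j ^ n, x⁆ = ⁅j, x⁆ ^ n := by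
  induction n with
  | zero => rw [pow_zero, pow_zero, commutatorElement_one_left]
  | succ n ih => rw [pow_succ, cmt_mul h, ih, pow_succ]

variable {Y : Type*} [Group Y] {ψ : G →* Y}

/-- `c` acts on the image of `ψ` as `j` -/
def Inn (ψ : G →* Y) (c : Y) (j : G) : Prop := ∀ g, c * ψ g * c⁻¹ = ψ (j * g * j⁻¹)

theorem mem_cen {c : Y} : c ∈ Subgroup.centralizer (ψ.range : Set Y) ↔ ∀ g, ψ g * c = c * ψ g := by
  rw [Subgroup.mem_centralizer_iff]
  constructor
  · intro h g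
    exact h _ ⟨g, rfl⟩
  · rintro h _ ⟨g, rfl⟩
    exact h g

theorem Inn.self (j : G) : Inn ψ (ψ j) j := fun g => by rw [map_mul, map_mul, map_inv]

theorem Inn.of_cen {c : Y} (h : c ∈ Subgroup.centralizer (ψ.range : Set Y)) : Inn ψ c 1 := fun g => by
  rw [← mem_cen.1 h g, one_mul, inv_one, mul_one, mul_inv_cancel_right]

theorem Inn.mul {c d : Y} {j j' : G} (h : Inn ψ c j) (h' : Inn ψ d j') : Inn ψ (c * d) (j * j') := fun g => by
  calc c * d * ψ g * (c * d)⁻¹ = c * (d * ψ g * d⁻¹) * c⁻¹ := by group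
    _ = ψ (j * (j' * g * j'⁻¹) * j⁻¹) := by rw [h' g, h]
    _ = _ := by congr 1; group

theorem Inn.inv {c : Y} {j : G} (h : Inn ψ c j) : Inn ψ c⁻¹ j⁻¹ := fun g => by
  have h1 := h (j⁻¹ * g * j⁻¹⁻¹)
  have e : j * (j⁻¹ * g * j⁻¹⁻¹) * j⁻¹ = g := by group
  rw [e] at h1
  rw [← h1]
  group

theorem Inn.pow {c : Y} {j : G} (h : Inn ψ c j) (n : ℕ) : Inn ψ (c ^ n) (j ^ n) := by
  induction n with
  | zero => rw [pow_zero, pow_zero]; exact Inn.of_cen (one_mem _)
  | succ n ih => rw [pow_succ, pow_succ]; exact ih.mul h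

theorem Inn.cen_iff (hi : Function.Injective ψ) {c : Y} {j : G} (h : Inn ψ c j) :
    c ∈ Subgroup.centralizer (ψ.range : Set Y) ↔ j ∈ Subgroup.center G := by
  rw [mem_cen, Subgroup.mem_center_iff]
  refine forall_congr' fun g => ?_
  rw [eq_comm, ← mul_inv_eq_iff_eq_mul, h, hi.eq_iff, mul_inv_eq_iff_eq_mul, eq_comm]

theorem Inn.cmt_eq (hi : Function.Injective ψ) {c : Y} {j j' : G} (h : Inn ψ c j) (h' : Inn ψ c j') (x : G) :
    ⁅j, x⁆ = ⁅j', x⁆ := by
  rw [commutatorElement_def, commutatorElement_def, hi ((h x).symm.trans (h' x))]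

theorem Inn.cmt_cen (hi : Function.Injective ψ) {c d : Y} {j j' : G} (h : Inn ψ c j) (h' : Inn ψ d j')
    (hc : c * d = d * c) : ⁅j, j'⁆ ∈ Subgroup.center G := by
  have h1 := ((h.mul h').mul h.inv).mul h'.inv
  have e : c * d * c⁻¹ * d⁻¹ = 1 := by rw [hc]; group
  rw [e] at h1
  exact (h1.cen_iff hi).1 (one_mem _)

theorem Inn.comm {c : Y} {j b : G} (h : Inn ψ c j) (hb : j * b = b * j) : ψ b * c = c * ψ b := by
  have h1 := h b
  rw [hb, mul_inv_cancel_right, mul_inv_eq_iff_eq_mul] at h1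
  exact h1.symm

/-- the embedded group and its central element -/
structure SD (ψ : G →* Y) (z : Y) : Prop where
  inj : Function.Injective ψ
  mem : z ∈ ψ.range
  cen : z ∈ Subgroup.centralizer (ψ.range : Set Y)
  fac : ∀ c, c * z = z * c → ∃ j, Inn ψ c j

theorem SD.conj {z : Y} (h : SD ψ z) (φ : MulAut Y) : SD (φ.toMonoidHom.comp ψ) (φ z) where
  inj := φ.injective.comp h.inj
  mem := by
    obtain ⟨g, rfl⟩ := h.mem
    exact ⟨g, rfl⟩
  cen := mem_cen.2 fun g => by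
    show φ (ψ g) * φ z = φ z * φ (ψ g)
    rw [← map_mul, ← map_mul, mem_cen.1 h.cen]
  fac c hc := by
    obtain ⟨c, rfl⟩ := φ.surjective c
    rw [← map_mul, ← map_mul, φ.injective.eq_iff] at hc
    obtain ⟨j, hj⟩ := h.fac c hc
    refine ⟨j, fun g => ?_⟩
    show φ c * φ (ψ g) * (φ c)⁻¹ = φ (ψ _)
    rw [← hj, map_mul, map_mul, map_inv]

end Grp

variable {k : Type*} [Field k] [IsAlgClosed k] {r : ℕ} {Y : Type*} [Group Y]
  {ψ : SpecialLinearGroup (Fin r) k →* Y} {z : Y}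

/-- the image of `E` is not abelian -/
theorem SD.exists_pair (h : SD ψ z) (hr : r.Prime) (hrk : (r : k) ≠ 0) {s : ℕ} (hs : 1 < s) (hsr : r.Coprime s) {ν : k}
    (hν : ν ^ s = 1) (hν1 : ν ≠ 1) {E : Subgroup Y} (hcomm : ∀ x ∈ E, ∀ y ∈ E, x * y = y * x)
    (hpow : ∀ x ∈ E, x ^ r = 1)
    (hL : ∀ b : Y, b ^ s = 1 → (∀ e ∈ E, b * e = e * b) →
      (∀ c : Y, c ^ s = 1 → (∀ e ∈ E, c * e = e * c) → b * c = c * b) → b = 1)
    (hz : z ∈ E) (hE : ¬ E ≤ Subgroup.centralizer (ψ.range : Set Y)) :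
    ∃ x₀ ∈ E, ∃ y₀ ∈ E, ∃ x y, Inn ψ x₀ x ∧ Inn ψ y₀ y ∧ ⁅x, y⁆ ≠ 1 := by
  by_contra hcon
  push Not at hcon
  obtain ⟨x₀, hx₀, hxC⟩ := SetLike.not_le_iff_exists.1 hE
  obtain ⟨x, hx⟩ := h.fac x₀ (hcomm _ hx₀ _ hz)
  have hxc : x ∉ Subgroup.center _ := fun h1 => hxC ((hx.cen_iff h.inj).2 h1)
  have hxr : x ^ r ∈ Subgroup.center _ := by
    refine ((hx.pow r).cen_iff h.inj).1 ?_
    rw [hpow _ hx₀]
    exact one_mem _
  obtain ⟨b, hbs, hbc, hb⟩ := proj hr.pos hrk hs hsr hν hν1 hxc hxr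
  have h1 : ψ b = 1 := by
    refine hL _ (by rw [← map_pow, hbs, map_one]) (fun e he => ?_) fun c hcs hc => ?_
    · obtain ⟨j, hj⟩ := h.fac e (hcomm _ he _ hz)
      exact hj.comm (hb j (commutatorElement_eq_one_iff_mul_comm.1 (hcon e he x₀ hx₀ j x hj hx)))
    · obtain ⟨j, hj⟩ := h.fac c (hc z hz)
      refine hj.comm (hb j (commutatorElement_eq_one_iff_mul_comm.1 ?_))
      have h2 := hj.cmt_cen h.inj hx (hc x₀ hx₀)
      have h3 : j ^ s ∈ Subgroup.center _ := by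
        refine ((hj.pow s).cen_iff h.inj).1 ?_
        rw [hcs]
        exact one_mem _
      have h4 : ⁅j, x⁆ ^ s = 1 := by
        rw [← cmt_pow h2, commutatorElement_eq_one_iff_mul_comm]
        exact (Subgroup.mem_center_iff.1 h3 x).symm
      have h5 := Nat.dvd_gcd (orderOf_dvd_of_pow_eq_one (cen_pow h2)) (orderOf_dvd_of_pow_eq_one h4)
      rw [hsr, Nat.dvd_one] at h5
      exact orderOf_eq_one_iff.1 h5
  apply hbc
  rw [h.inj (h1.trans (map_one ψ).symm)]
  exact one_mem _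

/-- **The dichotomy.** -/
theorem SD.dich (h : SD ψ z) (hr : r.Prime) (hrk : (r : k) ≠ 0) {s : ℕ} (hs : 1 < s) (hsr : r.Coprime s) {ν : k}
    (hν : ν ^ s = 1) (hν1 : ν ≠ 1) {E : Subgroup Y} (hcomm : ∀ x ∈ E, ∀ y ∈ E, x * y = y * x)
    (hpow : ∀ x ∈ E, x ^ r = 1)
    (hL : ∀ b : Y, b ^ s = 1 → (∀ e ∈ E, b * e = e * b) →
      (∀ c : Y, c ^ s = 1 → (∀ e ∈ E, c * e = e * c) → b * c = c * b) → b = 1)
    (hz : z ∈ E) (hE : ¬ E ≤ Subgroup.centralizer (ψ.range : Set Y)) :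
    (∀ c : Y, (∀ e ∈ E, c * e = e * c) → ∃ e ∈ E, c * e ∈ Subgroup.centralizer (ψ.range : Set Y)) ∧
      (∀ e ∈ E, e ∈ ψ.range → e ∈ Subgroup.centralizer (ψ.range : Set Y)) ∧
      (Subgroup.centralizer (ψ.range : Set Y)).relIndex E = r ^ 2 := by
  obtain ⟨x₀, hx₀, y₀, hy₀, x, y, hx, hy, hxy⟩ := h.exists_pair hr hrk hs hsr hν hν1 hcomm hpow hL hz hE
  have hu := hx.cmt_cen h.inj hy (hcomm _ hx₀ _ hy₀)
  have key : ∀ {a : SpecialLinearGroup (Fin r) k}, ⁅a, x⁆ = 1 → ⁅a, y⁆ = 1 → a ∈ Subgroup.center _ := fun h1 h2 =>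
    heis hr hu hxy (commutatorElement_eq_one_iff_mul_comm.1 h1) (commutatorElement_eq_one_iff_mul_comm.1 h2)
  choose jj hjj using fun e : E => h.fac e (hcomm _ e.2 _ hz)
  have hjx : ∀ e : E, ⁅jj e, x⁆ ∈ Subgroup.center _ := fun e => (hjj e).cmt_cen h.inj hx (hcomm _ e.2 _ hx₀)
  have hjy : ∀ e : E, ⁅jj e, y⁆ ∈ Subgroup.center _ := fun e => (hjj e).cmt_cen h.inj hy (hcomm _ e.2 _ hy₀)
  let f : E →* Subgroup.center (SpecialLinearGroup (Fin r) k) × Subgroup.center (SpecialLinearGroup (Fin r) k) :=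
    MonoidHom.mk' (fun e => (⟨⁅jj e, x⁆, hjx e⟩, ⟨⁅jj e, y⁆, hjy e⟩)) fun a b => by
      refine Prod.ext (Subtype.ext ?_) (Subtype.ext ?_)
      · show ⁅jj (a * b), x⁆ = ⁅jj a, x⁆ * ⁅jj b, x⁆
        rw [← cmt_mul (hjx b)]
        exact (hjj (a * b)).cmt_eq h.inj ((hjj a).mul (hjj b)) x
      · show ⁅jj (a * b), y⁆ = ⁅jj a, y⁆ * ⁅jj b, y⁆
        rw [← cmt_mul (hjy b)]
        exact (hjj (a * b)).cmt_eq h.inj ((hjj a).mul (hjj b)) y
  have hf1 : ∀ e, ((f e).1 : SpecialLinearGroup (Fin r) k) = ⁅jj e, x⁆ := fun _ => rfl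
  have hf2 : ∀ e, ((f e).2 : SpecialLinearGroup (Fin r) k) = ⁅jj e, y⁆ := fun _ => rfl
  have hfx : f ⟨x₀, hx₀⟩ = (1, ⟨⁅x, y⁆, hu⟩) := by
    refine Prod.ext (Subtype.ext ?_) (Subtype.ext ?_)
    · rw [hf1, (hjj ⟨x₀, hx₀⟩).cmt_eq h.inj hx, commutatorElement_self]
      rfl
    · rw [hf2, (hjj ⟨x₀, hx₀⟩).cmt_eq h.inj hx]
  have hfy : f ⟨y₀, hy₀⟩⁻¹ = (⟨⁅x, y⁆, hu⟩, 1) := by
    rw [map_inv, inv_eq_iff_eq_inv]
    refine Prod.ext (Subtype.ext ?_) (Subtype.ext ?_)
    · rw [hf1, (hjj ⟨y₀, hy₀⟩).cmt_eq h.inj hy]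
      exact (commutatorElement_inv x y).symm
    · rw [hf2, (hjj ⟨y₀, hy₀⟩).cmt_eq h.inj hy, commutatorElement_self]
      exact inv_one.symm
  have hsurj : Function.Surjective f := by
    rintro ⟨v, w⟩
    obtain ⟨a, ha⟩ := cen_cyc hr hu hxy v.2
    obtain ⟨b, hb⟩ := cen_cyc hr hu hxy w.2
    refine ⟨⟨y₀, hy₀⟩⁻¹ ^ a * ⟨x₀, hx₀⟩ ^ b, ?_⟩
    rw [map_mul, map_pow, map_pow, hfx, hfy]
    refine Prod.ext (Subtype.ext ?_) (Subtype.ext ?_)
    · rw [ha]
      simp
    · rw [hb]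
      simp
  refine ⟨fun c hc => ?_, ?_, ?_⟩
  · obtain ⟨j, hj⟩ := h.fac c (hc z hz)
    obtain ⟨e, he⟩ := hsurj (⟨⁅j, x⁆, hj.cmt_cen h.inj hx (hc _ hx₀)⟩⁻¹, ⟨⁅j, y⁆, hj.cmt_cen h.inj hy (hc _ hy₀)⟩⁻¹)
    refine ⟨e, e.2, ((hj.mul (hjj e)).cen_iff h.inj).2 (key ?_ ?_)⟩
    · rw [cmt_mul (hjx e), ← hf1, he]
      exact mul_inv_cancel _
    · rw [cmt_mul (hjy e), ← hf2, he]
      exact mul_inv_cancel _
  · rintro _ he ⟨j, rfl⟩
    have h1 : ∀ {w₀ : Y} {w : SpecialLinearGroup (Fin r) k}, w₀ ∈ E → Inn ψ w₀ w → ⁅j, w⁆ = 1 := by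
      intro w₀ w hw₀ hw
      have h2 := hw j
      rw [← hcomm _ he _ hw₀, mul_inv_cancel_right] at h2
      rw [commutatorElement_eq_one_iff_mul_comm, eq_comm, ← mul_inv_eq_iff_eq_mul]
      exact (h.inj h2).symm
    exact ((Inn.self j).cen_iff h.inj).2 (key (h1 hx₀ hx) (h1 hy₀ hy))
  · have hker : (Subgroup.centralizer (ψ.range : Set Y)).subgroupOf E = f.ker := by
      ext e
      rw [Subgroup.mem_subgroupOf, (hjj e).cen_iff h.inj, MonoidHom.mem_ker]
      constructor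
      · intro h1
        refine Prod.ext (Subtype.ext ?_) (Subtype.ext ?_)
        · rw [hf1]
          exact commutatorElement_eq_one_iff_mul_comm.2 (Subgroup.mem_center_iff.1 h1 x).symm
        · rw [hf2]
          exact commutatorElement_eq_one_iff_mul_comm.2 (Subgroup.mem_center_iff.1 h1 y).symm
      · intro h1
        exact key (by rw [← hf1, h1]; rfl) (by rw [← hf2, h1]; rfl)
    have hZ : Subgroup.center (SpecialLinearGroup (Fin r) k) = Subgroup.zpowers ⁅x, y⁆ := by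
      refine le_antisymm (fun v hv => ?_) ((Subgroup.zpowers_le).2 hu)
      obtain ⟨a, ha⟩ := cen_cyc hr hu hxy hv
      rw [ha]
      exact pow_mem (Subgroup.mem_zpowers _) a
    have hcard : Nat.card (Subgroup.center (SpecialLinearGroup (Fin r) k)) = r := by
      have := Fact.mk hr
      rw [hZ, Nat.card_zpowers, orderOf_eq_prime (cen_pow hu) hxy]
    rw [Subgroup.relIndex, hker, Subgroup.index_ker, MonoidHom.range_eq_top.2 hsurj, Subgroup.card_top, Nat.card_prod,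
      hcard, sq]

end Cfsg.Agent.DS.Nt.JL
end
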