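import Cfsg.Agent.DS.Nt.Base
import Cfsg.Agent.ChevalleyStructure.RootCombGood
import Cfsg.Agent.DS.Nt.JAbs
import Cfsg.Agent.H605.MX.Orb
import Cfsg.Agent.H460.OT.BruConc
import Cfsg.Agent.KFacts.Mult.Chev
import Cfsg.Agent.KFacts.ChevTwoInst
import Cfsg.Agent.TitsThree.KExcRT
import Cfsg.Agent.CTFrame.Hom
import Cfsg.Agent.ChevFast.E7
import Cfsg.Agent.ChevFast.E8
import Cfsg.Agent.FastGrp
import Cfsg.Agent.Prune
set_option linter.all false
prune_inst 0x7ffdfffbffb8ffffffff7e7ffeffdffdb9fbdfffefdffffbfff8e3ff3fdf6b08ffe5fbafffe152ff3ef6e2be30b87bd3ffffffffef6ffc7ffffdfffc5fffee4ff5f7fd8971fe9cbe0f380fffebf97fce7f3fffffffffffffffffffffffffffbeffffffffffff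
open scoped Cfsg.Agent.FastGrp

-- part: DS/Nt/JTab
section
/-!
# S5881, exceptional groups, the non-toral local case: the tables for the subgroups `J z ≅ SL_r` (helper55)

`ρ a b` (`a ≠ b` in `Fin r`) are the indices of the roots of a subsystem `S₀` of type `A_{r-1}` of
`Ψ = {a | r ∣ a i}`.

* `Tab D l r i ρ cf` : the decidable conditions;
* `Q8` : the classes of the involutions of the torus of `E₈`;
* `rho2`, `rho3` : the tables of roots for `r = 2`, `r = 3`.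
-/

set_option autoImplicit false

namespace Cfsg.Agent.DS.Nt

open Cfsg Cfsg.Lie Cfsg.Lie.ChevalleyDatum
open Cfsg.Agent.ChevalleyStructure Cfsg.Agent.ChevalleyStructure.RootVec Cfsg.Agent.Nodes.RGDChev
open Cfsg.Agent.KFacts.RgdField Cfsg.Agent.KFacts.RgdChevCoord
open Cfsg.Agent.H469.Exc Cfsg.Agent.H129.TorusChar Cfsg.Agent.DS.Ex

/-- pairs `(s, u)`, `u = q + s`, `s ∈ Ψ`, read off the chain table -/
def wit (D : ChevalleyDatum) (r i q : ℕ) : List (ℕ × ℕ) :=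
  (((D.chain.getD q #[]).toList.map fun e => (e.1, (e.2.getD 0 (0, 0)).1)).filter
    fun e => decide ((r : ℤ) ∣ rt D e.1 i)).take (r * r - r + 1)

/-- `q` is one of the roots of the block -/
def InS {r : ℕ} (ρ : Fin r → Fin r → ℕ) (q : ℕ) : Prop := ∃ a b, a ≠ b ∧ q = ρ a b

instance instDecInS {r : ℕ} (ρ : Fin r → Fin r → ℕ) (q : ℕ) : Decidable (InS ρ q) := by
  unfold InS; infer_instance

/-- the roots of the block lie in `Ψ` -/
def TabA (D : ChevalleyDatum) (r i : ℕ) (ρ : Fin r → Fin r → ℕ) : Prop :=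
  ∀ a b, a ≠ b → ρ a b < D.nroots ∧ ρ b a = D.neg (ρ a b) ∧ (r : ℤ) ∣ rt D (ρ a b) i

/-- the other roots of `Ψ` are strongly orthogonal to the block -/
def TabB (D : ChevalleyDatum) (r i : ℕ) (ρ : Fin r → Fin r → ℕ) : Prop :=
  ∀ q < D.nroots, (r : ℤ) ∣ rt D q i → InS ρ q ∨ ∀ a b, a ≠ b → D.commTerms (ρ a b) q = []

/-- the other roots of `Ψ` have many neighbours in `Ψ` -/
def TabC (D : ChevalleyDatum) (r i : ℕ) (ρ : Fin r → Fin r → ℕ) : Prop :=
  ∀ q < D.nroots, (r : ℤ) ∣ rt D q i → InS ρ q ∨ (((wit D r i q).map Prod.fst).Nodup ∧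
    (wit D r i q).length = r * r - r + 1 ∧ ∀ e ∈ wit D r i q, e.1 < D.nroots ∧ e.2 < D.nroots ∧ (r : ℤ) ∣ rt D e.1 i ∧
      ∀ j < D.rank, rt D e.2 j = rt D q j + rt D e.1 j)

/-- the standard element is `∏ h_{e.1}(ζ ^ e.2)`, `e ∈ cf` -/
def TabD (D : ChevalleyDatum) (r i : ℕ) (ρ : Fin r → Fin r → ℕ) (cf : List (ℕ × ℤ)) : Prop :=
  (∀ e ∈ cf, InS ρ e.1) ∧ ∀ j < D.rank,
    (r : ℤ) ∣ (cf.map fun e => e.2 * RootCombGood.car D e.1 (D.simple j)).sum - if j = i then 1 else 0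

instance instDecTabA (D : ChevalleyDatum) (r i : ℕ) (ρ : Fin r → Fin r → ℕ) : Decidable (TabA D r i ρ) := by
  unfold TabA; infer_instance

instance instDecTabB (D : ChevalleyDatum) (r i : ℕ) (ρ : Fin r → Fin r → ℕ) : Decidable (TabB D r i ρ) := by
  unfold TabB; infer_instance

instance instDecTabC (D : ChevalleyDatum) (r i : ℕ) (ρ : Fin r → Fin r → ℕ) : Decidable (TabC D r i ρ) := by
  unfold TabC; infer_instance

instance instDecTabD (D : ChevalleyDatum) (r i : ℕ) (ρ : Fin r → Fin r → ℕ) (cf : List (ℕ × ℤ)) :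
    Decidable (TabD D r i ρ cf) := by
  unfold TabD; infer_instance

/-- all the tables -/
structure Tab (D : ChevalleyDatum) (r i : ℕ) (ρ : Fin r → Fin r → ℕ) (cf : List (ℕ × ℤ)) : Prop where
  a : TabA D r i ρ
  b : TabB D r i ρ
  c : TabC D r i ρ
  d : TabD D r i ρ cf

/-- `r = 2` : the highest root and its negative -/
def rho2 (D : ChevalleyDatum) : Fin 2 → Fin 2 → ℕ := ![![0, D.nroots - 1], ![0, 0]]

/-- `r = 3` : the roots `a`, `b`, `a + b` the highest root -/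
def rho3 (D : ChevalleyDatum) (a b : ℕ) : Fin 3 → Fin 3 → ℕ :=
  ![![0, a, D.nroots - 1], ![D.neg a, 0, b], ![0, D.neg b, 0]]

/-- the classes of the involutions of the torus (for `E₈`, `i = 7`); `vec D l (D.nroots - 1)` is the highest root -/
def Q8 {D : ChevalleyDatum} {l : ℕ} {M : CoxeterMatrix (Fin l)} (hp : IsType D l M) (p : ℕ) [Fact p.Prime]
    (i : Fin l) : Prop :=
  ∀ (ζ : KK p) (t : YY D p), IsPrimitiveRoot ζ 2 → Std hp p ζ i t → ∀ x ∈ TT D (KK p), x ^ 2 = 1 →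
    (cX hp x (vec D l (D.nroots - 1)) = 1 → (dd p (x * t) = 136 ↔ dd p x ≠ 136)) ∧
    (cX hp x (vec D l (D.nroots - 1)) ≠ 1 → (dd p (x * t) = 136 ↔ dd p x = 136))

end Cfsg.Agent.DS.Nt
end

-- part: DS/Nt/JRoot
section
/-!
# S5881, the non-toral local case: the standard subgroup `J₀ = ψ(SL_r(k))` (helper55)

* `SR D l ρ` : the roots of the block; `Tab.can` : the block is canonical in `Ψ = {a | r ∣ a i}`;
* `JD` : the data; `JD.range_eq`, `JD.comm_out`, `JD.std_mem`, `JD.inj`;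
* `JD.frame`, `JD.key` : automorphisms mapping a standard element to a standard element preserve `J₀`.
-/

set_option autoImplicit false
set_option linter.unusedSectionVars false

namespace Cfsg.Agent.DS.Nt

open CoxeterSystem Cfsg Cfsg.Lie Cfsg.Lie.ChevalleyDatum
open Cfsg.Agent.ChevalleyStructure Cfsg.Agent.ChevalleyStructure.Elts Cfsg.Agent.ChevalleyStructure.CoxeterGeom
  Cfsg.Agent.ChevalleyStructure.CoxeterGeomTypes Cfsg.Agent.ChevalleyStructure.RootVec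
open Cfsg.Agent.Tits.Roots Cfsg.Agent.Tits.Core Cfsg.Agent.Nodes Cfsg.Agent.Nodes.Reps Cfsg.Agent.Nodes.BNOf
  Cfsg.Agent.Nodes.RGDChev Cfsg.Agent.Nodes.Bruhat Cfsg.Agent.Nodes.Coroot
open Cfsg.Agent.KFacts.RgdField Cfsg.Agent.KFacts.RgdChevCoord
open Cfsg.Agent.BpExc Cfsg.Agent.BpExc.TorCent Cfsg.Agent.BpExc.TorChev Cfsg.Agent.BpExc.Tow
  Cfsg.Agent.BpExc.TowChev Cfsg.Agent.BpExc.Fr Cfsg.Agent.BpExc.LangFr
open Cfsg.Agent.H469.Exc Cfsg.Agent.H469.Exc.SigFr Cfsg.Agent.H795.SetCent Cfsg.Agent.H129.TorusChar Cfsg.Agent.DS.Ex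
open Cfsg.Agent.H185.EE Cfsg.Agent.H81.TorOrth Cfsg.Agent.H605.MX Cfsg.Agent.DS.Nt.JL
open Cfsg.Agent.Nodes.RGDFold Cfsg.Agent.Nodes.RGDFoldSL
open Matrix.SpecialLinearGroup (transvection)

/-- the roots of the block -/
def SR (D : ChevalleyDatum) (l : ℕ) {r : ℕ} (ρ : Fin r → Fin r → ℕ) : Set (Fin l → ℤ) :=
  {a | ∃ x y, x ≠ y ∧ a = vec D l (ρ x y)}

section Comb

variable {D : ChevalleyDatum} {l : ℕ} {M : CoxeterMatrix (Fin l)} (hp : IsType D l M) {r : ℕ} {i : Fin l}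
  {ρ : Fin r → Fin r → ℕ} {cf : List (ℕ × ℤ)} (T : Tab D r i ρ cf)

include T

theorem Tab.lt {a b : Fin r} (h : a ≠ b) : ρ a b < D.nroots := (T.a a b h).1

theorem Tab.neg {a b : Fin r} (h : a ≠ b) : ρ b a = D.neg (ρ a b) := (T.a a b h).2.1

theorem Tab.root {a : Fin l → ℤ} (ha : a ∈ SR D l ρ) : IsRoot M.toCoxeterSystem hp.isCartan a := by
  obtain ⟨x, y, h, rfl⟩ := ha
  exact isRoot_vec hp _ (T.lt h)

theorem Tab.dvd {a : Fin l → ℤ} (ha : a ∈ SR D l ρ) : (r : ℤ) ∣ a i := by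
  obtain ⟨x, y, h, rfl⟩ := ha
  exact (T.a x y h).2.2

theorem Tab.out {q : ℕ} (hq : q < D.nroots) (hd : (r : ℤ) ∣ vec D l q i) (hn : vec D l q ∉ SR D l ρ) {x y : Fin r}
    (h : x ≠ y) : q ≠ ρ x y ∧ q ≠ D.neg (ρ x y) ∧ D.commTerms (ρ x y) q = [] := by
  refine ⟨fun e => hn ⟨x, y, h, by rw [e]⟩, fun e => hn ⟨y, x, h.symm, by rw [e, T.neg h]⟩, ?_⟩
  rcases T.b q hq hd with ⟨a, b, hab, e⟩ | h1
  · exact absurd ⟨a, b, hab, by rw [e]⟩ hn
  · exact h1 x y h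

/-- the neighbours in `Ψ` of a root of the block lie in the block -/
theorem Tab.nb {a b : Fin l → ℤ} (ha : a ∈ SR D l ρ) (hb : IsRoot M.toCoxeterSystem hp.isCartan b)
    (hd : (r : ℤ) ∣ b i) (hab : IsRoot M.toCoxeterSystem hp.isCartan (a + b)) : b ∈ SR D l ρ := by
  by_contra hn
  obtain ⟨x, y, h, rfl⟩ := ha
  obtain ⟨q, hq, rfl⟩ := (isRoot_iff hp _ _).1 hb
  obtain ⟨u, hu, e⟩ := (isRoot_iff hp _ _).1 hab
  have h1 := H460.OT.chainRoot_of_vec hp hp.inList (T.lt h) hq hu e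
  have h2 := (T.out hq hd hn h).2.2
  unfold ChevalleyDatum.commTerms at h2
  simp only [h1, List.filterMap_cons, Option.map_some] at h2
  exact List.cons_ne_nil _ _ h2

/-- **The block is canonical.** -/
theorem Tab.can (g : (Fin l → ℤ) ≃+ (Fin l → ℤ))
    (hr : ∀ a, IsRoot M.toCoxeterSystem hp.isCartan (g a) ↔ IsRoot M.toCoxeterSystem hp.isCartan a)
    (hd : ∀ a, IsRoot M.toCoxeterSystem hp.isCartan a → ((r : ℤ) ∣ g a i ↔ (r : ℤ) ∣ a i)) {a : Fin l → ℤ}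
    (ha : a ∈ SR D l ρ) : g a ∈ SR D l ρ := by
  classical
  have h1 := T.root hp ha
  obtain ⟨q, hq, e⟩ := (isRoot_iff hp _ _).1 ((hr a).2 h1)
  have h2 : (r : ℤ) ∣ rt D q i := by
    have h3 := (hd a h1).2 (T.dvd ha)
    rwa [← e] at h3
  rcases T.c q hq h2 with ⟨x, y, h, e'⟩ | ⟨hnd, hlen, hw⟩
  · exact ⟨x, y, h, by rw [← e, e']⟩
  exfalso
  have h3 : ∀ s ∈ (wit D r i q).map Prod.fst, s < D.nroots ∧ g.symm (vec D l s) ∈ SR D l ρ := by
    intro s hs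
    obtain ⟨w, hw', rfl⟩ := List.mem_map.1 hs
    obtain ⟨b1, b2, b3, b4⟩ := hw w hw'
    have b5 : IsRoot M.toCoxeterSystem hp.isCartan (g.symm (vec D l w.1)) := by
      rw [← hr, AddEquiv.apply_symm_apply]
      exact isRoot_vec hp _ b1
    refine ⟨b1, T.nb hp ha b5 ?_ ?_⟩
    · rw [← hd _ b5, AddEquiv.apply_symm_apply]
      exact b3
    · rw [← hr, map_add, AddEquiv.apply_symm_apply, ← e]
      have b6 : vec D l q + vec D l w.1 = vec D l w.2 := funext fun j => (b4 j (lt_rank hp j)).symm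
      rw [b6]
      exact isRoot_vec hp _ b2
  have h4 : (((wit D r i q).map Prod.fst).map fun s => g.symm (vec D l s)).Nodup := by
    refine List.Nodup.map_on (fun s hs t ht hst => ?_) hnd
    exact vec_inj hp (h3 s hs).1 (h3 t ht).1 (g.symm.injective hst)
  have h5 : (((wit D r i q).map Prod.fst).map fun s => g.symm (vec D l s)).toFinset ⊆
      (Finset.univ : Finset (Fin r)).offDiag.image fun xy => vec D l (ρ xy.1 xy.2) := by
    intro b hb
    obtain ⟨s, hs, rfl⟩ := List.mem_map.1 (List.mem_toFinset.1 hb)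
    obtain ⟨x, y, h, e'⟩ := (h3 s hs).2
    exact Finset.mem_image.2 ⟨(x, y), Finset.mem_offDiag.2 ⟨Finset.mem_univ _, Finset.mem_univ _, h⟩, e'.symm⟩
  have h6 := (Finset.card_le_card h5).trans Finset.card_image_le
  rw [List.toFinset_card_of_nodup h4, List.length_map, List.length_map, hlen, Finset.offDiag_card, Finset.card_univ,
    Fintype.card_fin] at h6
  omega

end Comb

variable {D : ChevalleyDatum} {l : ℕ} {M : CoxeterMatrix (Fin l)} (hp : IsType D l M) (p : ℕ) [Fact p.Prime]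

/-- **The data** -/
structure JD (r : ℕ) (i : Fin l) (ρ : Fin r → Fin r → ℕ) (cf : List (ℕ × ℤ))
    (ψ : Matrix.SpecialLinearGroup (Fin r) (KK p) →* YY D p) : Prop where
  prime : r.Prime
  ne : r ≠ p
  le : r ≤ 7
  tab : Tab D r i ρ cf
  tv : ∀ a b (hab : a ≠ b) c, ψ (transvection hab c) = xs hp.inList (ρ a b) c
  pos : ∃ a b, a ≠ b ∧ ∃ m : ℕ, m.Coprime r ∧ ∀ g : (Fin l → ℤ) ≃+ (Fin l → ℤ), (∀ x ∈ SR D l ρ, g x ∈ SR D l ρ) →
    (∀ x ∈ SR D l ρ, 0 ≤ x → 0 ≤ g x) → g (vec D l (ρ a b)) = vec D l (ρ a b) ∧ ∀ x ∈ SR D l ρ, g^[m] x = x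

variable {hp p}

theorem Std.mem_Ps {r : ℕ} {ζ : KK p} (hζ : IsPrimitiveRoot ζ r) {i : Fin l} {t : YY D p} (ht : Std hp p ζ i t)
    {a : Fin l → ℤ} : a ∈ Ps hp p {t} ↔ IsRoot M.toCoxeterSystem hp.isCartan a ∧ (r : ℤ) ∣ a i := by
  rw [Nt.mem_Ps (Set.singleton_subset_iff.2 ht.1)]
  refine and_congr_right fun _ => ?_
  rw [← hζ.zpow_eq_one_iff_dvd, ← ht.2]
  exact ⟨fun h => h t rfl, fun h s hs => by rw [hs, h]⟩

theorem Std.ne_one {r : ℕ} (hr : r.Prime) {ζ : KK p} (hζ : IsPrimitiveRoot ζ r) {i : Fin l} {t : YY D p}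
    (ht : Std hp p ζ i t) : t ≠ 1 := by
  rintro rfl
  have h := ht.2 (sr i)
  rw [cX_one, sr_self, zpow_one] at h
  exact hζ.ne_one hr.one_lt h.symm

theorem Std.pow_eq {r : ℕ} {ζ : KK p} (hζ : IsPrimitiveRoot ζ r) {i : Fin l} {t : YY D p}
    (ht : Std hp p ζ i t) : t ^ r = 1 :=
  pow_eq_one_of_cX (hp := hp) ht.1 fun x => by rw [ht.2, ← zpow_natCast, ← zpow_mul, mul_comm, zpow_mul, zpow_natCast,
    hζ.pow_eq_one, one_zpow]

/-- a frame automorphism mapping `t` to `t'` maps the roots trivial on `t` to the roots trivial on `t'` -/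
theorem fr_cX_one {α : MulAut (YY D p)} {g : (Fin l → ℤ) ≃+ (Fin l → ℤ)}
    (F : Fr M.toCoxeterSystem hp.isCartan (TT D (KK p)) (XX D l (KK p)) α g) {t : YY D p} (ht : t ∈ TT D (KK p))
    {a : Fin l → ℤ} (ha : IsRoot M.toCoxeterSystem hp.isCartan a) (h : cX hp t a = 1) : cX hp (α t) (g a) = 1 := by
  have h1 := (F.root a).2 ha
  have h2 := xc_mem (hp := hp) ha (1 : KK p)
  obtain ⟨c, hc⟩ := (mem_X (hp := hp) h1).1 ((F.map a ha _).2 h2)
  have h3 := congrArg α (comm_X ht ha h h2)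
  rw [map_mul, map_mul, ← hc] at h3
  refine cX_eq_one_of_comm ((F.tor t).2 ht) h1 (c := c) ?_ h3
  rintro rfl
  obtain ⟨s, hs, e⟩ := (isRoot_iff hp _ _).1 ha
  obtain ⟨s', hs', e'⟩ := (isRoot_iff hp _ _).1 h1
  rw [← e', ← e, ← xs_eq_xc hp hs, ← xs_eq_xc hp hs', xs_zero hp, eq_comm, MulEquiv.map_eq_one_iff, ← xs_zero hp s] at hc
  exact one_ne_zero (xs_inj hp hs hc)

namespace JD

variable {r : ℕ} {i : Fin l} {ρ : Fin r → Fin r → ℕ} {cf : List (ℕ × ℤ)}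
  {ψ : Matrix.SpecialLinearGroup (Fin r) (KK p) →* YY D p} (J : JD hp p r i ρ cf ψ)

include J

theorem nontriv : Nontrivial (Fin r) := Fin.nontrivial_iff_two_le.2 J.prime.two_le

theorem range_le {K : Subgroup (YY D p)} (h : ∀ a b (hab : a ≠ b) c, ψ (transvection hab c) ∈ K) : ψ.range ≤ K := by
  rintro _ ⟨g, rfl⟩
  have := J.nontriv
  exact LieClassical.SLGen.transvection_induction (fun g => ψ g ∈ K) h
    (fun a b ha hb => by rw [map_mul]; exact mul_mem ha hb) g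

theorem X_le {a : Fin l → ℤ} (ha : a ∈ SR D l ρ) : XX D l (KK p) a ≤ ψ.range := by
  intro y hy
  obtain ⟨c, rfl⟩ := (mem_X (hp := hp) (J.tab.root hp ha)).1 hy
  obtain ⟨u, v, h, rfl⟩ := ha
  exact ⟨transvection h c, by rw [J.tv, xs_eq_xc hp (J.tab.lt h)]⟩

theorem range_eq : ψ.range = RGD.Sup (XX D l (KK p)) (SR D l ρ) := by
  refine le_antisymm (J.range_le fun a b hab c => ?_) (RGD.Sup_le fun a ha => J.X_le ha)
  rw [J.tv]
  exact RGD.le_Sup (S := SR D l ρ) ⟨a, b, hab, rfl⟩ (xs_mem hp (J.tab.lt hab) c)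

theorem mem_cen_of {y : YY D p} (h : ∀ a b, a ≠ b → ∀ c, xs hp.inList (ρ a b) c * y = y * xs hp.inList (ρ a b) c) :
    y ∈ Subgroup.centralizer (ψ.range : Set (YY D p)) := by
  have h1 : ψ.range ≤ Subgroup.centralizer {y} := J.range_le fun a b hab c => by
    rw [Subgroup.mem_centralizer_singleton_iff, J.tv]
    exact h a b hab c
  exact Subgroup.mem_centralizer_iff.2 fun u hu => Subgroup.mem_centralizer_singleton_iff.1 (h1 hu)

/-- the other root groups of `Ψ` centralise `J₀` -/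
theorem comm_out {b : Fin l → ℤ} (hb : IsRoot M.toCoxeterSystem hp.isCartan b) (hd : (r : ℤ) ∣ b i)
    (hn : b ∉ SR D l ρ) : XX D l (KK p) b ≤ Subgroup.centralizer (ψ.range : Set (YY D p)) := by
  intro y hy
  obtain ⟨c, rfl⟩ := (mem_X (hp := hp) hb).1 hy
  obtain ⟨q, hq, rfl⟩ := (isRoot_iff hp _ _).1 hb
  refine J.mem_cen_of fun u v h d => ?_
  obtain ⟨h1, h2, h3⟩ := J.tab.out hq hd hn h
  rw [← xs_eq_xc hp hq]
  exact Subtype.ext (KFacts.Mult.Chev.commute_of_empty hp (J.tab.lt h) hq h1 h2 (by rw [h3]; rfl) d c).symm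

/-- the elements of the torus centralising `J₀` -/
theorem T_cen_iff {x : YY D p} (hx : x ∈ TT D (KK p)) :
    x ∈ Subgroup.centralizer (ψ.range : Set (YY D p)) ↔ ∀ a ∈ SR D l ρ, cX hp x a = 1 := by
  constructor
  · intro h a ha
    have h1 := J.tab.root hp ha
    exact cX_eq_one_of_comm hx h1 one_ne_zero
      (Subgroup.mem_centralizer_iff.1 h _ (J.X_le ha (xc_mem (hp := hp) h1 1))).symm
  · intro h
    refine J.mem_cen_of fun u v huv c => ?_
    exact (comm_X hx (isRoot_vec hp _ (J.tab.lt huv)) (h _ ⟨u, v, huv, rfl⟩) (xs_mem hp (J.tab.lt huv) c)).symm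

theorem std_cen {ζ : KK p} (hζ : IsPrimitiveRoot ζ r) {t : YY D p} (ht : Std hp p ζ i t) :
    t ∈ Subgroup.centralizer (ψ.range : Set (YY D p)) :=
  (J.T_cen_iff ht.1).2 fun a ha => by rw [ht.2, hζ.zpow_eq_one_iff_dvd]; exact J.tab.dvd ha

theorem ps_mem {a b : Fin r} (h : a ≠ b) (g : Matrix.SpecialLinearGroup (Fin 2) (KK p)) :
    ps hp (J.tab.lt h) g ∈ ψ.range := by
  have h1 : Subgroup.closure (Set.range (SL2Hom.up (F := KK p)) ∪ Set.range (SL2Hom.lo (F := KK p))) ≤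
      ψ.range.comap (ps hp (J.tab.lt h)) := by
    rw [Subgroup.closure_le]
    rintro _ (⟨c, rfl⟩ | ⟨c, rfl⟩)
    · show ps hp (J.tab.lt h) (SL2Hom.up c) ∈ ψ.range
      rw [ps_up, ← J.tv a b h]
      exact ⟨_, rfl⟩
    · show ps hp (J.tab.lt h) (SL2Hom.lo c) ∈ ψ.range
      rw [ps_lo, ← J.tab.neg h, ← J.tv b a h.symm]
      exact ⟨_, rfl⟩
  exact h1 (SL2Hom.mem_closure_SL2 g)

theorem exists_h {ζ : KK p} (h0 : ζ ≠ 0) (L : List (ℕ × ℤ)) (hL : ∀ e ∈ L, InS ρ e.1) :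
    ∃ t ∈ TT D (KK p), t ∈ ψ.range ∧ ∀ j : Fin l, cX hp t (sr j) =
      ζ ^ (L.map fun e => e.2 * RootCombGood.car D e.1 (D.simple j)).sum := by
  induction L with
  | nil => exact ⟨1, one_mem _, one_mem _, fun j => by rw [cX_one, List.map_nil, List.sum_nil, zpow_zero]⟩
  | cons e L ih =>
    obtain ⟨t, ht, ht', h⟩ := ih fun e' he' => hL e' (List.mem_cons_of_mem _ he')
    obtain ⟨a, b, hab, e1⟩ := hL e List.mem_cons_self
    have h1 : ζ ^ e.2 ≠ 0 := zpow_ne_zero _ h0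
    have h2 := ps_hS_mem (k := KK p) hp (J.tab.lt hab) h1
    refine ⟨ps hp (J.tab.lt hab) (hS (ζ ^ e.2)) * t, mul_mem h2 ht, mul_mem (J.ps_mem hab _) ht', fun j => ?_⟩
    rw [cX_mul hp h2 ht, h, cX_hS hp M.toCoxeterSystem (locFin p) p (J.tab.lt hab) h1, ← vec_simple hp j,
      KFacts.ChevTwoInst.cpr_vec hp _ (J.tab.lt hab) _ (NPerm.simple_lt hp.inList (lt_rank hp j)), List.map_cons,
      List.sum_cons, zpow_add₀ h0, zpow_mul, e1]

/-- the standard elements lie in `J₀` -/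
theorem std_mem {ζ : KK p} (hζ : IsPrimitiveRoot ζ r) {t : YY D p} (ht : Std hp p ζ i t) : t ∈ ψ.range := by
  have h0 := hζ.ne_zero J.prime.ne_zero
  obtain ⟨s, hs, hs', h⟩ := J.exists_h h0 cf J.tab.d.1
  have h1 : t = s := by
    refine cX_inj hp ht.1 hs fun j => ?_
    have h2 := (hζ.zpow_eq_one_iff_dvd _).2 (J.tab.d.2 j (lt_rank hp j))
    rw [zpow_sub₀ h0, div_eq_one_iff_eq (zpow_ne_zero _ h0)] at h2
    rw [h, h2, ht.2]
    congr 1
    by_cases hj : j = i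
    · rw [hj, sr_self, if_pos rfl]
    · rw [sr_ne (Ne.symm hj), if_neg fun e => hj (Fin.ext e)]
  rw [h1]
  exact hs'

theorem tv_inj {a b : Fin r} (h : a ≠ b) {c d : KK p} (e : ψ (transvection h c) = ψ (transvection h d)) : c = d := by
  rw [J.tv, J.tv] at e
  exact xs_inj hp (J.tab.lt h) e

theorem cen_of {g : Matrix.SpecialLinearGroup (Fin r) (KK p)}
    (h : ψ g ∈ Subgroup.centralizer (ψ.range : Set (YY D p))) : g ∈ Subgroup.center _ := by
  have hN : ((Subgroup.centralizer (ψ.range : Set (YY D p))).comap ψ).Normal := ⟨fun n hn g => by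
    rw [Subgroup.mem_comap] at hn ⊢
    rw [map_mul, map_mul, map_inv, mem_cen.1 hn g, mul_inv_cancel_right]
    exact hn⟩
  rcases sl_normal J.prime.two_le ((Subgroup.centralizer (ψ.range : Set (YY D p))).comap ψ) with h1 | h1
  · exact h1 h
  · exfalso
    have h2 : commutator (Matrix.SpecialLinearGroup (Fin r) (KK p)) ≤ ψ.ker := by
      rw [commutator_def, Subgroup.commutator_le]
      intro a _ b _
      have h3 : b ∈ (Subgroup.centralizer (ψ.range : Set (YY D p))).comap ψ := by rw [h1]; exact Subgroup.mem_top _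
      rw [MonoidHom.mem_ker, map_commutatorElement, commutatorElement_eq_one_iff_mul_comm]
      exact mem_cen.1 h3 a
    rw [sl_perfect J.prime.two_le] at h2
    have := J.nontriv
    obtain ⟨a, b, hab⟩ := exists_pair_ne (Fin r)
    have h4 : ψ (transvection hab 1) = 1 := h2 (Subgroup.mem_top _)
    rw [← map_one ψ, ← Matrix.SpecialLinearGroup.transvection_coeff_zero hab] at h4
    exact one_ne_zero (J.tv_inj hab h4)

theorem inj {ζ : KK p} (hζ : IsPrimitiveRoot ζ r) {t : YY D p} (ht : Std hp p ζ i t) : Function.Injective ψ := by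
  rw [injective_iff_map_eq_one]
  intro v hv
  by_contra h1
  obtain ⟨u, hu⟩ := J.std_mem hζ ht
  obtain ⟨a, ha⟩ := cen_cyc J.prime (J.cen_of (by rw [hv]; exact one_mem _)) h1
    (J.cen_of (g := u) (by rw [hu]; exact J.std_cen hζ ht))
  apply ht.ne_one J.prime hζ
  rw [← hu, ha, map_pow, hv, one_pow]

theorem frame_S {α : MulAut (YY D p)} {g : (Fin l → ℤ) ≃+ (Fin l → ℤ)}
    (F : Fr M.toCoxeterSystem hp.isCartan (TT D (KK p)) (XX D l (KK p)) α g) {ζ ζ' : KK p} (hζ : IsPrimitiveRoot ζ r)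
    (hζ' : IsPrimitiveRoot ζ' r) {t : YY D p} (ht : Std hp p ζ i t) (ht' : Std hp p ζ' i (α t)) {a : Fin l → ℤ}
    (ha : a ∈ SR D l ρ) : g a ∈ SR D l ρ := by
  refine J.tab.can hp g F.root (fun b hb => ?_) ha
  have e1 : cX hp t b = 1 ↔ (r : ℤ) ∣ b i := by rw [ht.2, hζ.zpow_eq_one_iff_dvd]
  have e2 : cX hp (α t) (g b) = 1 ↔ (r : ℤ) ∣ g b i := by rw [ht'.2, hζ'.zpow_eq_one_iff_dvd]
  refine ⟨fun h => e1.1 ?_, fun h => e2.1 (fr_cX_one F ht.1 hb (e1.2 h))⟩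
  have h1 := fr_cX_one F.inv ht'.1 ((F.root b).2 hb) (e2.2 h)
  rwa [MulAut.inv_apply_self, AddEquiv.symm_apply_apply] at h1

theorem frame {α : MulAut (YY D p)} {g : (Fin l → ℤ) ≃+ (Fin l → ℤ)}
    (F : Fr M.toCoxeterSystem hp.isCartan (TT D (KK p)) (XX D l (KK p)) α g) {ζ ζ' : KK p} (hζ : IsPrimitiveRoot ζ r)
    (hζ' : IsPrimitiveRoot ζ' r) {t : YY D p} (ht : Std hp p ζ i t) (ht' : Std hp p ζ' i (α t)) {y : YY D p}
    (hy : y ∈ ψ.range) : α y ∈ ψ.range := by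
  rw [J.range_eq] at hy
  have h1 : RGD.Sup (XX D l (KK p)) (SR D l ρ) ≤ ψ.range.comap α.toMonoidHom := RGD.Sup_le fun a ha u hu =>
    J.X_le (J.frame_S F hζ hζ' ht ht' ha) ((F.map a (J.tab.root hp ha) u).2 hu)
  exact h1 hy

/-- the group generated by the root groups of `Ψ` acts by inner automorphisms -/
theorem Mz_inn {ζ : KK p} (hζ : IsPrimitiveRoot ζ r) {t : YY D p} (ht : Std hp p ζ i t) {m : YY D p}
    (hm : m ∈ Mz hp p {t}) : ∃ j, Inn ψ m j := by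
  let K : Subgroup (YY D p) :=
    { carrier := {m | ∃ j, Inn ψ m j}
      one_mem' := ⟨1, Inn.of_cen (one_mem _)⟩
      mul_mem' := by
        rintro _ _ ⟨j, hj⟩ ⟨j', hj'⟩
        exact ⟨_, hj.mul hj'⟩
      inv_mem' := by
        rintro _ ⟨j, hj⟩
        exact ⟨_, hj.inv⟩ }
  refine (Mz_le (K := K) fun a ha y hy => ?_) hm
  obtain ⟨h1, h2⟩ := (ht.mem_Ps hζ).1 ha
  by_cases h3 : a ∈ SR D l ρ
  · obtain ⟨j, rfl⟩ := J.X_le h3 hy
    exact ⟨j, Inn.self j⟩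
  · exact ⟨1, Inn.of_cen (J.comm_out h1 h2 h3 hy)⟩

/-- **The key lemma.** -/
theorem key {β : MulAut (YY D p)} {g : (Fin l → ℤ) ≃+ (Fin l → ℤ)}
    (F : Fr M.toCoxeterSystem hp.isCartan (TT D (KK p)) (XX D l (KK p)) β g) {ζ ζ' : KK p} (hζ : IsPrimitiveRoot ζ r)
    (hζ' : IsPrimitiveRoot ζ' r) {t y : YY D p} (ht : Std hp p ζ i t) (ht' : Std hp p ζ' i (y * β t * y⁻¹))
    {u : YY D p} (hu : u ∈ ψ.range) : y * β u * y⁻¹ ∈ ψ.range := by
  obtain ⟨m, hm, w, k, hk, hks, e⟩ := form₂ hp (ι := Unit) (s := fun _ => β t) (t := fun _ => y * β t * y⁻¹)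
    (fun _ => (F.tor t).2 ht.1) (fun _ => ht'.1) (c := y) (fun _ => by group)
  rw [Set.range_const] at hm
  obtain ⟨j, hj⟩ := J.Mz_inn hζ' ht' hm
  have h1 : (MulAut.conj k * β) t = y * β t * y⁻¹ := by
    show k * β t * k⁻¹ = _
    rw [hks (), mul_inv_cancel_right]
  obtain ⟨v, hv⟩ := J.frame (hk.fr.mul F) hζ hζ' ht (by rw [h1]; exact ht') hu
  have h2 : ψ v = k * β u * k⁻¹ := hv
  refine ⟨j * v * j⁻¹, ?_⟩
  rw [← hj v, h2, e]
  group

end JD

end Cfsg.Agent.DS.Nt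
end

-- part: DS/Nt/JGen
section
/-!
# S5881, the non-toral local case: the subgroups `J z ≅ SL_r(k)` from the data `JD` (helper55)

* `JD.diag_inn`, `JD.sd` : the centraliser of the standard element acts on `J₀` by inner automorphisms;
* `JJ` : the subgroups `J z`; `JD.mem_JJ`, `JD.JJ_eq`;
* `JD.js` : the structure `JS`.
-/

set_option autoImplicit false
set_option linter.unusedSectionVars false

namespace Cfsg.Agent.DS.Nt

open CoxeterSystem Cfsg Cfsg.Lie Cfsg.Lie.ChevalleyDatum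
open Cfsg.Agent.ChevalleyStructure Cfsg.Agent.ChevalleyStructure.Elts Cfsg.Agent.ChevalleyStructure.CoxeterGeom
  Cfsg.Agent.ChevalleyStructure.CoxeterGeomTypes Cfsg.Agent.ChevalleyStructure.RootVec
open Cfsg.Agent.Tits.Roots Cfsg.Agent.Tits.Core Cfsg.Agent.Nodes Cfsg.Agent.Nodes.Reps Cfsg.Agent.Nodes.BNOf
  Cfsg.Agent.Nodes.RGDChev Cfsg.Agent.Nodes.Bruhat Cfsg.Agent.Nodes.Coroot
open Cfsg.Agent.KFacts.RgdField Cfsg.Agent.KFacts.RgdChevCoord
open Cfsg.Agent.BpExc Cfsg.Agent.BpExc.TorCent Cfsg.Agent.BpExc.TorChev Cfsg.Agent.BpExc.Tow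
  Cfsg.Agent.BpExc.TowChev Cfsg.Agent.BpExc.Fr Cfsg.Agent.BpExc.LangFr
open Cfsg.Agent.H469.Exc Cfsg.Agent.H469.Exc.SigFr Cfsg.Agent.H795.SetCent Cfsg.Agent.H129.TorusChar Cfsg.Agent.DS.Ex
open Cfsg.Agent.H185.EE Cfsg.Agent.H81.TorOrth Cfsg.Agent.H605.MX Cfsg.Agent.DS.Nt.JL
open Matrix.SpecialLinearGroup (transvection)
open scoped commutatorElement

variable {D : ChevalleyDatum} {l : ℕ} {M : CoxeterMatrix (Fin l)} (hp : IsType D l M) (p : ℕ) [Fact p.Prime]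

/-- the subgroup `J z` -/
def JJ {r : ℕ} (i : Fin l) (ψ : Matrix.SpecialLinearGroup (Fin r) (KK p) →* YY D p) (z : YY D p) :
    Subgroup (YY D p) where
  carrier := {y | ∀ (g : YY D p) (ζ : KK p), IsPrimitiveRoot ζ r → Std hp p ζ i (g * z * g⁻¹) → g * y * g⁻¹ ∈ ψ.range}
  one_mem' := fun g _ _ _ => by
    rw [mul_one, mul_inv_cancel]
    exact one_mem _
  mul_mem' := fun {a b} ha hb g ζ h1 h2 => by
    have e : g * (a * b) * g⁻¹ = g * a * g⁻¹ * (g * b * g⁻¹) := by group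
    rw [e]
    exact mul_mem (ha g ζ h1 h2) (hb g ζ h1 h2)
  inv_mem' := fun {a} ha g ζ h1 h2 => by
    have e : g * a⁻¹ * g⁻¹ = (g * a * g⁻¹)⁻¹ := by group
    rw [e]
    exact inv_mem (ha g ζ h1 h2)

variable {hp p}

theorem iter_repAut (w : M.Group) (n : ℕ) (a : Fin l → ℤ) :
    (repAut M.toCoxeterSystem hp.isCartan w)^[n] a = rep M.toCoxeterSystem hp.isCartan (w ^ n) a := by
  induction n with
  | zero => rw [pow_zero, map_one, Module.End.one_apply, Function.iterate_zero_apply]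
  | succ n ih => rw [Function.iterate_succ_apply', ih, pow_succ', rep_mul_apply, repAut_apply]

namespace JD

variable {r : ℕ} {i : Fin l} {ρ : Fin r → Fin r → ℕ} {cf : List (ℕ × ℤ)}
  {ψ : Matrix.SpecialLinearGroup (Fin r) (KK p) →* YY D p} (J : JD hp p r i ρ cf ψ)

include J

/-- an element of `N` fixing the roots of the block acts as a diagonal automorphism -/
theorem diag_inn {w : M.Group} {k : YY D p} (hk : RP hp p w k)
    (hw : ∀ a ∈ SR D l ρ, rep M.toCoxeterSystem hp.isCartan w a = a) : ∃ j, Inn ψ k j := by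
  classical
  have h1 : ∀ a b (hab : a ≠ b), ∃ κ : KK p, κ ≠ 0 ∧
      (∀ c, k * ψ (transvection hab c) * k⁻¹ = ψ (transvection hab (κ * c))) ∧
      ∀ c, k * ψ (transvection hab.symm c) * k⁻¹ = ψ (transvection hab.symm (κ⁻¹ * c)) := by
    intro a b hab
    obtain ⟨s', hs', e', κ, hκ, h2, h3⟩ :=
      act_fr hp M.toCoxeterSystem (locFin p) (r := p) (IsFrob.conj k) hk.fr (J.tab.lt hab)
    obtain rfl : s' = ρ a b := vec_inj hp hs' (J.tab.lt hab) (e'.trans (hw _ ⟨a, b, hab, rfl⟩))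
    refine ⟨κ, hκ, fun c => ?_, fun c => ?_⟩
    · have h4 := h2 c
      rw [pow_zero, pow_one] at h4
      rw [J.tv, J.tv]
      exact h4
    · have h4 := h3 c
      rw [pow_zero, pow_one] at h4
      rw [J.tv, J.tv, J.tab.neg hab]
      exact h4
  choose κ h0 h2 h3 using h1
  have h4 : ∀ a b (hab : a ≠ b), κ b a hab.symm = (κ a b hab)⁻¹ := by
    intro a b hab
    have h5 := J.tv_inj hab.symm ((h2 b a hab.symm 1).symm.trans (h3 a b hab 1))
    rwa [mul_one, mul_one] at h5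
  have h5 : ∀ a b c (hab : a ≠ b) (hbc : b ≠ c) (hac : a ≠ c), κ a c hac = κ a b hab * κ b c hbc := by
    intro a b c hab hbc hac
    have h6 := h2 a c hac (1 * 1)
    rw [← LieClassical.SLGen.commutator_transvection hac hab hbc, map_commutatorElement, conjugate_commutatorElement,
      h2, h2, ← map_commutatorElement, LieClassical.SLGen.commutator_transvection hac hab hbc] at h6
    have h7 := J.tv_inj hac h6
    rw [mul_one, mul_one, mul_one, mul_one] at h7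
    exact h7.symm
  obtain ⟨o, -⟩ : ∃ _ : Fin r, True := ⟨⟨0, J.prime.pos⟩, trivial⟩
  have h6 : ∀ a, (if h : a = o then 1 else κ a o h) ≠ 0 := by
    intro a
    split_ifs with h
    · exact one_ne_zero
    · exact h0 a o h
  obtain ⟨d, hd⟩ := exists_diag J.prime.pos (fun a => if h : a = o then 1 else κ a o h) h6
  have h7 : ∀ a b (hab : a ≠ b),
      (if h : a = o then 1 else κ a o h) * (if h : b = o then 1 else κ b o h)⁻¹ = κ a b hab := by
    intro a b hab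
    by_cases ha : a = o
    · subst ha
      rw [dif_pos rfl, dif_neg hab.symm, one_mul, h4 a b hab, inv_inv]
    · by_cases hb : b = o
      · subst hb
        rw [dif_neg hab, dif_pos rfl, inv_one, mul_one]
      · rw [dif_neg ha, dif_neg hb, h5 a b o hab hb ha, mul_inv_cancel_right₀ (h0 b o hb)]
  refine ⟨d, fun g => ?_⟩
  have := J.nontriv
  refine LieClassical.SLGen.transvection_induction (fun g => k * ψ g * k⁻¹ = ψ (d * g * d⁻¹)) (fun a b hab c => ?_)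
    (fun a b ha hb => ?_) g
  · show k * ψ (transvection hab c) * k⁻¹ = ψ (d * transvection hab c * d⁻¹)
    rw [hd a b hab c, h7 a b hab, mul_inv_cancel_right, h2]
  · show k * ψ (a * b) * k⁻¹ = ψ (d * (a * b) * d⁻¹)
    calc k * ψ (a * b) * k⁻¹ = k * ψ a * k⁻¹ * (k * ψ b * k⁻¹) := by rw [map_mul]; group
      _ = ψ (d * a * d⁻¹ * (d * b * d⁻¹)) := by rw [ha, hb, ← map_mul]
      _ = _ := by congr 1; group

/-- **The centraliser of the standard element acts by inner automorphisms.** -/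
theorem sd {ζ : KK p} (hζ : IsPrimitiveRoot ζ r) {t : YY D p} (ht : Std hp p ζ i t) : JL.SD ψ t where
  inj := J.inj hζ ht
  mem := J.std_mem hζ ht
  cen := J.std_cen hζ ht
  fac c hc := by
    have := finW hp
    have hZ : ({t} : Set (YY D p)) ⊆ TT D (KK p) := Set.singleton_subset_iff.2 ht.1
    obtain ⟨m, hm, w, hw, k, hk, hkt, rfl⟩ := form hp (Set.finite_singleton t) hZ (c := c)
      (fun s hs => by rw [hs]; exact hc)
    obtain ⟨j, hj⟩ := J.Mz_inn hζ ht hm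
    obtain ⟨n, hn⟩ := pp_pow hZ J.prime (fun s hs => ⟨1, by rw [hs, pow_one, ht.pow_eq hζ]⟩) hw
    obtain ⟨a, b, -, m', hm', hpos⟩ := J.pos
    have h1 : (MulAut.conj k) t = t := by
      show k * t * k⁻¹ = t
      rw [hkt t rfl, mul_inv_cancel_right]
    have h2 := (hpos (repAut M.toCoxeterSystem hp.isCartan w)
      (fun x hx => J.frame_S hk.fr hζ hζ ht (by rw [h1]; exact ht) hx)
      (fun x hx h0 => (mem_PPZ.1 hw).2 x ((ht.mem_Ps hζ).2 ⟨J.tab.root hp hx, J.tab.dvd hx⟩) h0)).2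
    obtain ⟨j', hj'⟩ := J.diag_inn hk fun x hx => by
      have h3 : Function.IsPeriodicPt (repAut M.toCoxeterSystem hp.isCartan w) m' x := h2 x hx
      have h4 : Function.IsPeriodicPt (repAut M.toCoxeterSystem hp.isCartan w) (r ^ n) x := by
        show (repAut M.toCoxeterSystem hp.isCartan w)^[r ^ n] x = x
        rw [iter_repAut (hp := hp), hn, map_one, Module.End.one_apply]
      have h5 := h3.gcd h4
      rw [hm'.pow_right n] at h5
      exact h5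
    exact ⟨_, hj.mul hj'⟩

theorem mem_JJ {z g : YY D p} {ζ : KK p} (hζ : IsPrimitiveRoot ζ r) (hz : Std hp p ζ i (g * z * g⁻¹)) {y : YY D p} :
    y ∈ JJ hp p i ψ z ↔ g * y * g⁻¹ ∈ ψ.range := by
  refine ⟨fun h => h g ζ hζ hz, fun h g' ζ' hζ' hz' => ?_⟩
  have e : ∀ u : YY D p, g' * g⁻¹ * (1 : MulAut (YY D p)) (g * u * g⁻¹) * (g' * g⁻¹)⁻¹ = g' * u * g'⁻¹ := by
    intro u
    rw [MulAut.one_apply]
    group
  have h1 := J.key (y := g' * g⁻¹) Fr.one hζ hζ' hz (by rw [e]; exact hz') h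
  rwa [e] at h1

theorem JJ_eq {z g : YY D p} {ζ : KK p} (hζ : IsPrimitiveRoot ζ r) (hz : Std hp p ζ i (g * z * g⁻¹)) :
    JJ hp p i ψ z = ((MulAut.conj g⁻¹).toMonoidHom.comp ψ).range := by
  ext y
  rw [J.mem_JJ hζ hz]
  constructor
  · rintro ⟨v, hv⟩
    refine ⟨v, ?_⟩
    show g⁻¹ * ψ v * g⁻¹⁻¹ = y
    rw [hv]
    group
  · rintro ⟨v, rfl⟩
    refine ⟨v, ?_⟩
    show ψ v = g * (g⁻¹ * ψ v * g⁻¹⁻¹) * g⁻¹
    group

theorem sd_conj {z g : YY D p} {ζ : KK p} (hζ : IsPrimitiveRoot ζ r) (hz : Std hp p ζ i (g * z * g⁻¹)) :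
    JL.SD ((MulAut.conj g⁻¹).toMonoidHom.comp ψ) z := by
  have h := (J.sd hζ hz).conj (MulAut.conj g⁻¹)
  have e : (MulAut.conj g⁻¹) (g * z * g⁻¹) = z := by
    show g⁻¹ * (g * z * g⁻¹) * g⁻¹⁻¹ = z
    group
  rwa [e] at h

theorem cen_JJ {z g : YY D p} {ζ : KK p} (hζ : IsPrimitiveRoot ζ r) (hz : Std hp p ζ i (g * z * g⁻¹)) {x : YY D p} :
    x ∈ Subgroup.centralizer (JJ hp p i ψ z : Set (YY D p)) ↔
      g * x * g⁻¹ ∈ Subgroup.centralizer (ψ.range : Set (YY D p)) := by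
  rw [J.JJ_eq hζ hz, mem_cen, mem_cen]
  refine forall_congr' fun v => ?_
  show g⁻¹ * ψ v * g⁻¹⁻¹ * x = x * (g⁻¹ * ψ v * g⁻¹⁻¹) ↔ _
  constructor
  · intro h
    calc ψ v * (g * x * g⁻¹) = g * (g⁻¹ * ψ v * g⁻¹⁻¹ * x) * g⁻¹ := by group
      _ = _ := by rw [h]; group
  · intro h
    calc g⁻¹ * ψ v * g⁻¹⁻¹ * x = g⁻¹ * (ψ v * (g * x * g⁻¹)) * g := by group
      _ = _ := by rw [h]; group

omit J in
theorem tv_pow {a b : Fin r} (h : a ≠ b) (c : KK p) : transvection h c ^ p = 1 := by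
  have h1 : ∀ n : ℕ, transvection h c ^ n = transvection h ((n : KK p) * c) := by
    intro n
    induction n with
    | zero => rw [pow_zero, Nat.cast_zero, zero_mul, Matrix.SpecialLinearGroup.transvection_coeff_zero]
    | succ n ih => rw [pow_succ, ih, ← Matrix.SpecialLinearGroup.transvection_add, Nat.cast_succ, add_mul, one_mul]
  rw [h1, CharP.cast_eq_zero, zero_mul, Matrix.SpecialLinearGroup.transvection_coeff_zero]

/-- a fixed `p`-element -/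
theorem exists_fix {σ : MulAut (YY D p)} {e : ℕ} {g : (Fin l → ℤ) ≃+ (Fin l → ℤ)} (he : 0 < e) (hσ : IsFrob p e σ)
    (F : Fr M.toCoxeterSystem hp.isCartan (TT D (KK p)) (XX D l (KK p)) σ g) {z : YY D p} (hz : z ∈ Om hp p r i)
    (hσz : σ z = z) : ∃ u ∈ JJ hp p i ψ z, σ u = u ∧ (∃ n : ℕ, u ^ p ^ n = 1) ∧
      u ∉ Subgroup.centralizer (JJ hp p i ψ z : Set (YY D p)) := by
  have := finW hp
  obtain ⟨y, ζ, hζ, ht⟩ := hz
  obtain ⟨t, htd⟩ : ∃ t, t = y * z * y⁻¹ := ⟨_, rfl⟩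
  rw [← htd] at ht
  have htL : t ∈ TL (Tj hp (k := KK p)) := by rw [TLe hp p]; exact ht.1
  obtain ⟨z', k, g', h1, h2, F', h3, h4⟩ := Pair.pair_reduction (tw hp p) (coW hp p) (chW hp p) (GGW hp p) (σ := σ)
    (g := g) (by rw [TLe hp p, XLe hp p]; exact F) hσz (z := y⁻¹) (t := t) (by rw [htd, inv_inv]) htL
    (fun k g' F' hk m hm => by
      have h5 := fun a => Fr.mem_Sx (coW hp p) F' htL hk a
      rw [TLe hp p, XLe hp p] at F'
      rw [XLe hp p] at hm ⊢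
      exact lang_fr hp M.toCoxeterSystem he (hσ.conj_mul k) F' (fun _ ha => ha.1) (fun a ha => (h5 a).2 ha) hm)
  rw [TLe hp p, XLe hp p] at F'
  obtain ⟨a, b, hab, m, -, hpos⟩ := J.pos
  have h5 := (hpos g' (fun x hx => J.frame_S F' hζ hζ ht (by rw [h3]; exact ht) hx) fun x hx h0 =>
    h4 x ⟨J.tab.root hp hx, by
      rw [← cX_root hp M.toCoxeterSystem ht.1 (J.tab.root hp hx), ht.2, hζ.zpow_eq_one_iff_dvd]
      exact J.tab.dvd hx⟩ h0).1
  obtain ⟨s', hs', e', d, hd, h6, -⟩ :=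
    act_fr hp M.toCoxeterSystem (locFin p) (r := p) (hσ.conj_mul k) F' (J.tab.lt hab)
  obtain rfl : s' = ρ a b := vec_inj hp hs' (J.tab.lt hab) (e'.trans h5)
  have hq : 1 < p ^ e := Nat.one_lt_pow he.ne' (Fact.out : p.Prime).one_lt
  obtain ⟨c, hc⟩ := IsAlgClosed.exists_pow_nat_eq d⁻¹ (n := p ^ e - 1) (by omega)
  have hc0 : c ≠ 0 := by
    rintro rfl
    rw [zero_pow (by omega)] at hc
    exact inv_ne_zero hd hc.symm
  have h7 : d * c ^ p ^ e = c := by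
    rw [show p ^ e = p ^ e - 1 + 1 by omega, pow_succ, hc, mul_inv_cancel_left₀ hd]
  have h8 := h6 c
  rw [h7, ← J.tv a b hab] at h8
  have h9 : k * σ (ψ (transvection hab c)) * k⁻¹ = ψ (transvection hab c) := h8
  have hz' : Std hp p ζ i (z'⁻¹ * z * z'⁻¹⁻¹) := by rw [inv_inv, h1]; exact ht
  have e1 : z'⁻¹ * (z' * ψ (transvection hab c) * z'⁻¹) * z'⁻¹⁻¹ = ψ (transvection hab c) := by group
  refine ⟨z' * ψ (transvection hab c) * z'⁻¹, ?_, ?_, ⟨1, ?_⟩, ?_⟩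
  · rw [J.mem_JJ hζ hz', e1]
    exact ⟨_, rfl⟩
  · have h10 : σ z' = z' * k := by rw [← h2]; group
    rw [map_mul, map_mul, map_inv, h10]
    calc z' * k * σ (ψ (transvection hab c)) * (z' * k)⁻¹ = z' * (k * σ (ψ (transvection hab c)) * k⁻¹) * z'⁻¹ := by
          group
      _ = _ := by rw [h9]
  · rw [pow_one, conj_pow, ← map_pow, tv_pow, map_one, mul_one, mul_inv_cancel]
  · rw [J.cen_JJ hζ hz', e1]
    intro h
    exact hc0 ((Matrix.SpecialLinearGroup.transvection_mem_center_iff hab c).1 (J.cen_of h))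

/-- **The subgroups `J z`.** -/
theorem js (h8 : D = chevE8 → r = 2 → ∀ (ζ : KK p) (t : YY D p), IsPrimitiveRoot ζ r → Std hp p ζ i t →
    ∀ x ∈ TT D (KK p), x ^ 2 = 1 →
      ((∀ a ∈ SR D l ρ, cX hp x a = 1) → (dd p (x * t) = 136 ↔ dd p x ≠ 136)) ∧
      (¬ (∀ a ∈ SR D l ρ, cX hp x a = 1) → (dd p (x * t) = 136 ↔ dd p x = 136))) :
    JS hp p r i (JJ hp p i ψ) where
  mem := fun _ _ _ _ hζ hz => J.std_mem hζ hz
  cen := by
    rintro z ⟨g, ζ, hζ, hz⟩ j hj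
    exact Subgroup.mem_centralizer_iff.1 ((J.cen_JJ hζ hz).2 (J.std_cen hζ hz)) j hj
  gen := by
    rintro z ⟨g, ζ, hζ, hz⟩ K hK y hy
    have h1 : ψ.range ≤ K.comap (MulAut.conj g⁻¹).toMonoidHom := J.range_le fun a b hab c => by
      refine hK _ ?_ ⟨1, ?_⟩
      · rw [J.JJ_eq hζ hz]
        exact ⟨_, rfl⟩
      · rw [pow_one, ← map_pow, ← map_pow, tv_pow, map_one, map_one]
    rw [J.JJ_eq hζ hz] at hy
    obtain ⟨v, rfl⟩ := hy
    exact h1 ⟨v, rfl⟩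
  inv := by
    rintro φ ⟨y, g, F, -⟩ z ⟨g₁, ζ, hζ, hz⟩ - j hj g₂ ζ' hζ' hz'
    have e : ∀ u : YY D p, g₂ * (φ g₁)⁻¹ * y⁻¹ * (MulAut.conj y * φ) (g₁ * u * g₁⁻¹) * (g₂ * (φ g₁)⁻¹ * y⁻¹)⁻¹ =
        g₂ * φ u * g₂⁻¹ := by
      intro u
      rw [MulAut.mul_apply, MulAut.conj_apply, map_mul, map_mul, map_inv]
      group
    have h1 := J.key (y := g₂ * (φ g₁)⁻¹ * y⁻¹) F hζ hζ' hz (by rw [e]; exact hz') (hj g₁ ζ hζ hz)
    rwa [e] at h1
  dich := by
    rintro s hs E hE hL z hzE ⟨g, ζ, hζ, hz⟩ hn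
    obtain ⟨ν, hν⟩ := exists_prim (p := p) hs.1 hs.2.2
    have h1 : (r : KK p) ≠ 0 := by
      rw [Ne, CharP.cast_eq_zero_iff (KK p) p, Nat.prime_dvd_prime_iff_eq Fact.out J.prime]
      exact J.ne.symm
    have h2 : r.Coprime s := (Nat.coprime_primes J.prime hs.1).2 (by have := J.le; have := hs.2.1; omega)
    rw [J.JJ_eq hζ hz] at hn ⊢
    exact (J.sd_conj hζ hz).dich J.prime h1 hs.1.one_lt h2 hν.pow_eq_one (hν.ne_one hs.1.one_lt) hE.comm hE.pow hL hzE hn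
  fix := fun _ _ _ he hσ F _ hz hσz => J.exists_fix he hσ F hz hσz
  q8 := by
    intro hD hr z hz x hx htp
    obtain ⟨g, ζ, hζ, hs, hg⟩ := exists_std_pair hz htp
    have h1 := h8 hD hr ζ _ hζ hs _ hg (by rw [conj_pow, hx, mul_one, mul_inv_cancel])
    have e : g * x * g⁻¹ * (g * z * g⁻¹) = g * (x * z) * g⁻¹ := by group
    rw [e, dd_conj, dd_conj, ← J.T_cen_iff hg, ← J.cen_JJ hζ hs] at h1
    exact h1

end JD

end Cfsg.Agent.DS.Nt
end

-- part: DS/Nt/JThree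
section
/-!
# S5881, the non-toral local case: the subgroups `J z ≅ SL₃(k)` of `E₇(k)` and `E₈(k)` (helper55)

* `exists_psi3` : the homomorphism of a block of type `A₂`;
* `pos_three` : the positive roots of the block;
* `boxJ3`.
-/

set_option autoImplicit false
set_option linter.unusedSectionVars false

namespace Cfsg.Agent.DS.Nt

open CoxeterSystem Cfsg Cfsg.Lie Cfsg.Lie.ChevalleyDatum
open Cfsg.Agent.ChevalleyStructure Cfsg.Agent.ChevalleyStructure.Elts Cfsg.Agent.ChevalleyStructure.CoxeterGeom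
  Cfsg.Agent.ChevalleyStructure.CoxeterGeomTypes Cfsg.Agent.ChevalleyStructure.RootVec
open Cfsg.Agent.Tits.Roots Cfsg.Agent.Tits.Core Cfsg.Agent.Nodes Cfsg.Agent.Nodes.RGDChev
open Cfsg.Agent.H469.Exc Cfsg.Agent.H469.Exc.SigFr Cfsg.Agent.H129.TorusChar Cfsg.Agent.DS.Ex
open Cfsg.Agent.H81.TorOrth Cfsg.Agent.Nodes.RGDFoldSL Cfsg.Agent.TitsThree.KExcRT
open Cfsg.Agent.ChevalleyStructure.SL2Hom (up lo)
open Matrix.SpecialLinearGroup (transvection)

section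

variable {D : ChevalleyDatum} {l : ℕ} {M : CoxeterMatrix (Fin l)} (hp : IsType D l M)

theorem hS_mul' {k : Type*} [Field k] {a b : k} (ha : a ≠ 0) (hb : b ≠ 0) : hS a * hS b = hS (a * b) := by
  apply Subtype.ext
  rw [Matrix.SpecialLinearGroup.coe_mul, coe_hS ha, coe_hS hb, coe_hS (mul_ne_zero ha hb), Matrix.mul_fin_two, mul_inv]
  simp

include hp in
/-- the homomorphism of a block of type `A₂` -/
theorem exists_psi3 (k : Type) [Field k] {ρ : Fin 3 → Fin 3 → ℕ} (ha : RTa D ρ) (hb : RTb D ρ fun _ _ => 1)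
    (hc : RTc D ρ) (hneg : ∀ a b, a ≠ b → ρ b a = D.neg (ρ a b)) :
    ∃ ψ : Matrix.SpecialLinearGroup (Fin 3) k →* ↥(D.group k), ∀ a b (hab : a ≠ b) c,
      ψ (transvection hab c) = xs hp.inList (ρ a b) c := by
  have hS' := stein (F := k) hp.inList (r := ρ) (s := fun _ _ => 1) ha hb hc fun _ _ => rfl
  have e : xr (F := k) hp.inList ρ (fun _ _ => 1) = fun a b c => xG hp.inList (ρ a b) c := by
    funext a b c
    unfold xr
    rw [Int.cast_one, one_mul]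
  rw [e] at hS'
  have hSt : AGraded.SteinRel fun a b (c : k) => xs hp.inList (ρ a b) c :=
    ⟨fun i j hij a b => Subtype.ext (hS'.add i j hij a b),
      fun i j k l hij hkl hjk hil a b => Subtype.ext (hS'.comm i j k l hij hkl hjk hil a b),
      fun i j k hij hjk hik a b => Subtype.ext (hS'.br i j k hij hjk hik a b)⟩
  have hH : CTFrame.Torus.HRel fun a b (c : k) => xs hp.inList (ρ a b) c := by
    intro i j hij
    have e3 : ∀ u : k, CTFrame.Weyl.t (fun a b (c : k) => xs hp.inList (ρ a b) c) i j u = ps hp (ha i j hij) (hS u) := by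
      intro u
      unfold CTFrame.Weyl.t CTFrame.Weyl.w hS wS
      simp only [map_mul, ps_up, ps_lo, hneg i j hij, mul_assoc]
    intro a b ha0 hb0
    rw [e3, e3, e3, ← map_mul, hS_mul' ha0 hb0]
  obtain ⟨φ, hφ, -⟩ := CTFrame.Hom.exists_hom hSt hH (by simp)
  exact ⟨φ, hφ⟩

include hp in
theorem pos_three {i : Fin l} {ρ : Fin 3 → Fin 3 → ℕ} {cf : List (ℕ × ℤ)} (T : Tab D 3 i ρ cf)
    (h1 : 0 ≤ vec D l (ρ 0 1)) (h2 : 0 ≤ vec D l (ρ 1 2)) (h3 : vec D l (ρ 0 2) = vec D l (ρ 0 1) + vec D l (ρ 1 2))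
    (h4 : ρ 0 1 ≠ ρ 1 2) (g : (Fin l → ℤ) ≃+ (Fin l → ℤ)) (hg : ∀ x ∈ SR D l ρ, g x ∈ SR D l ρ)
    (hpos : ∀ x ∈ SR D l ρ, 0 ≤ x → 0 ≤ g x) :
    g (vec D l (ρ 0 2)) = vec D l (ρ 0 2) ∧ ∀ x ∈ SR D l ρ, g^[2] x = x := by
  have m1 : vec D l (ρ 0 1) ∈ SR D l ρ := ⟨0, 1, by decide, rfl⟩
  have m2 : vec D l (ρ 1 2) ∈ SR D l ρ := ⟨1, 2, by decide, rfl⟩
  have m3 : vec D l (ρ 0 2) ∈ SR D l ρ := ⟨0, 2, by decide, rfl⟩
  have hne : vec D l (ρ 0 1) ≠ vec D l (ρ 1 2) := fun e => h4 (vec_inj hp (T.lt (by decide)) (T.lt (by decide)) e)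
  have n1 : vec D l (ρ 1 0) = -vec D l (ρ 0 1) := by rw [T.neg (by decide), vec_neg hp (T.lt (by decide))]
  have n2 : vec D l (ρ 2 1) = -vec D l (ρ 1 2) := by rw [T.neg (by decide), vec_neg hp (T.lt (by decide))]
  have n3 : vec D l (ρ 2 0) = -vec D l (ρ 0 2) := by rw [T.neg (by decide), vec_neg hp (T.lt (by decide))]
  have r1 := T.root hp m1
  have r2 := T.root hp m2
  have r3 := T.root hp m3
  have h5 : 0 ≤ vec D l (ρ 0 2) := by rw [h3]; exact add_nonneg h1 h2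
  have hall : ∀ x ∈ SR D l ρ, x = vec D l (ρ 0 1) ∨ x = vec D l (ρ 1 2) ∨ x = vec D l (ρ 0 2) ∨
      x = -vec D l (ρ 0 1) ∨ x = -vec D l (ρ 1 2) ∨ x = -vec D l (ρ 0 2) := by
    rintro _ ⟨a, b, hab, rfl⟩
    have h6 : ∀ a b : Fin 3, a ≠ b → (a = 0 ∧ b = 1) ∨ (a = 1 ∧ b = 2) ∨ (a = 0 ∧ b = 2) ∨ (a = 1 ∧ b = 0) ∨
      (a = 2 ∧ b = 1) ∨ (a = 2 ∧ b = 0) := by decide
    rcases h6 a b hab with ⟨rfl, rfl⟩ | ⟨rfl, rfl⟩ | ⟨rfl, rfl⟩ | ⟨rfl, rfl⟩ | ⟨rfl, rfl⟩ | ⟨rfl, rfl⟩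
    · exact Or.inl rfl
    · exact Or.inr (Or.inl rfl)
    · exact Or.inr (Or.inr (Or.inl rfl))
    · exact Or.inr (Or.inr (Or.inr (Or.inl n1)))
    · exact Or.inr (Or.inr (Or.inr (Or.inr (Or.inl n2))))
    · exact Or.inr (Or.inr (Or.inr (Or.inr (Or.inr n3))))
  generalize vec D l (ρ 0 1) = α at *
  generalize vec D l (ρ 1 2) = β at *
  generalize vec D l (ρ 0 2) = θ at *
  subst h3
  have hP : ∀ x ∈ SR D l ρ, 0 ≤ x → g x = α ∨ g x = β ∨ g x = α + β := by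
    intro x hx h0
    have h6 := hpos x hx h0
    rcases hall _ (hg x hx) with h | h | h | h | h | h
    · exact Or.inl h
    · exact Or.inr (Or.inl h)
    · exact Or.inr (Or.inr h)
    · rw [h] at h6
      exact (r1.not_pos_neg h1 (neg_nonneg.1 h6)).elim
    · rw [h] at h6
      exact (r2.not_pos_neg h2 (neg_nonneg.1 h6)).elim
    · rw [h] at h6
      exact (r3.not_pos_neg h5 (neg_nonneg.1 h6)).elim
  have p1 : 0 < Slope.htHom α := BNOf.RGD.ht_pos r1 h1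
  have p2 : 0 < Slope.htHom β := BNOf.RGD.ht_pos r2 h2
  have hgne : g α ≠ g β := fun e => hne (g.injective e)
  have hle : Slope.htHom (g α) + Slope.htHom (g β) ≤ Slope.htHom α + Slope.htHom β := by
    rw [← map_add, ← map_add]
    rcases hP _ m3 h5 with h | h | h
    · rw [h]; omega
    · rw [h]; omega
    · rw [h, map_add]
  have key : (g α = α ∧ g β = β) ∨ (g α = β ∧ g β = α) := by
    rcases hP _ m1 h1 with a1 | a1 | a1 <;> rcases hP _ m2 h2 with a2 | a2 | a2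
    · exact absurd (a1.trans a2.symm) hgne
    · exact Or.inl ⟨a1, a2⟩
    · rw [a1, a2, map_add] at hle; omega
    · exact Or.inr ⟨a1, a2⟩
    · exact absurd (a1.trans a2.symm) hgne
    · rw [a1, a2, map_add] at hle; omega
    · rw [a1, a2, map_add] at hle; omega
    · rw [a1, a2, map_add] at hle; omega
    · exact absurd (a1.trans a2.symm) hgne
  have k1 : g (α + β) = α + β := by
    rcases key with ⟨a1, a2⟩ | ⟨a1, a2⟩
    · rw [map_add, a1, a2]
    · rw [map_add, a1, a2, add_comm]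
  have k2 : g (g α) = α ∧ g (g β) = β := by
    rcases key with ⟨a1, a2⟩ | ⟨a1, a2⟩
    · rw [a1, a2, a1, a2]; exact ⟨rfl, rfl⟩
    · rw [a1, a2, a1]; exact ⟨rfl, rfl⟩
  refine ⟨k1, fun x hx => ?_⟩
  show g (g x) = x
  rcases hall x hx with h | h | h | h | h | h
  · rw [h, k2.1]
  · rw [h, k2.2]
  · rw [h, k1, k1]
  · rw [h, map_neg, map_neg, k2.1]
  · rw [h, map_neg, map_neg, k2.2]
  · rw [h, map_neg, map_neg, k1, k1]

theorem js_three (p : ℕ) [Fact p.Prime] (h3p : p ≠ 3) {i : Fin l} {ρ : Fin 3 → Fin 3 → ℕ} {cf : List (ℕ × ℤ)}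
    (T : Tab D 3 i ρ cf) (hb : RTb D ρ fun _ _ => 1) (hc : RTc D ρ)
    (h : ∀ j < D.rank, 0 ≤ rt D (ρ 0 1) j ∧ 0 ≤ rt D (ρ 1 2) j ∧ rt D (ρ 0 2) j = rt D (ρ 0 1) j + rt D (ρ 1 2) j)
    (h4 : ρ 0 1 ≠ ρ 1 2) : ∃ J, JS hp p 3 i J := by
  obtain ⟨ψ, hψ⟩ := exists_psi3 hp (KK p) (fun _ _ hab => T.lt hab) hb hc fun _ _ hab => T.neg hab
  have J : JD hp p 3 i ρ cf ψ := ⟨Nat.prime_three, h3p.symm, by norm_num, T, hψ, 0, 2, by decide, 2, by norm_num,
    pos_three hp T (fun j => (h j (lt_rank hp j)).1) (fun j => (h j (lt_rank hp j)).2.1)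
      (funext fun j => (h j (lt_rank hp j)).2.2) h4⟩
  exact ⟨_, J.js fun _ h => absurd h (by norm_num)⟩

end

theorem tab_E7_3 : Tab chevE7 3 2 (rho3 chevE7 93 124) [(93, 1), (124, 2)] :=
  ⟨by decide +kernel, by (refine of_decide_eq_true ?_; delta Cfsg.Agent.DS.Nt.TabB Cfsg.Agent.DS.Nt.instDecTabB Cfsg.Agent.DS.Nt.rho3; rewrite [Cfsg.Agent.ChevFast.E7.commTerms, Cfsg.Agent.ChevFast.E7.neg]; decide +kernel), by decide +kernel, by (refine of_decide_eq_true ?_; delta Cfsg.Agent.ChevalleyStructure.RootCombGood.car Cfsg.Agent.ChevalleyStructure.RootCombGood.co Cfsg.Agent.DS.Nt.TabD Cfsg.Agent.DS.Nt.instDecTabD Cfsg.Agent.DS.Nt.rho3; rewrite [Cfsg.Agent.ChevFast.E7.cartan, Cfsg.Agent.ChevFast.E7.coroot, Cfsg.Agent.ChevFast.E7.neg]; decide +kernel)⟩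

theorem tab_E8_3 : Tab chevE8 3 6 (rho3 chevE8 120 238) [(120, 1), (238, 2)] :=
  ⟨by decide +kernel, by (refine of_decide_eq_true ?_; delta Cfsg.Agent.DS.Nt.TabB Cfsg.Agent.DS.Nt.instDecTabB Cfsg.Agent.DS.Nt.rho3; rewrite [Cfsg.Agent.ChevFast.E8.commTerms, Cfsg.Agent.ChevFast.E8.neg]; decide +kernel), by decide +kernel, by (refine of_decide_eq_true ?_; delta Cfsg.Agent.ChevalleyStructure.RootCombGood.car Cfsg.Agent.ChevalleyStructure.RootCombGood.co Cfsg.Agent.DS.Nt.TabD Cfsg.Agent.DS.Nt.instDecTabD Cfsg.Agent.DS.Nt.rho3; rewrite [Cfsg.Agent.ChevFast.E8.cartan, Cfsg.Agent.ChevFast.E8.coroot, Cfsg.Agent.ChevFast.E8.neg]; decide +kernel)⟩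

/-- **[J3]** -/
theorem boxJ3 : BoxJ3 := by
  intro D l M hp p _ h3 i hD
  rcases hD with ⟨rfl, hi⟩ | ⟨rfl, hi⟩
  · exact js_three hp p h3 (ρ := rho3 chevE7 93 124) (cf := [(93, 1), (124, 2)]) (by rw [hi]; exact tab_E7_3)
      (by decide +kernel) (by decide +kernel) (by decide +kernel) (by decide +kernel)
  · exact js_three hp p h3 (ρ := rho3 chevE8 120 238) (cf := [(120, 1), (238, 2)]) (by rw [hi]; exact tab_E8_3)
      (by decide +kernel) (by decide +kernel) (by decide +kernel) (by decide +kernel)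

end Cfsg.Agent.DS.Nt
end

private theorem dce_6affd2736ce6 : _root_.True := by
  try have : _root_.True := by simp only [_root_.Cfsg.Agent.H469.Exc.SigFr.xs.congr_simp]
  exact _root_.True.intro
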