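import Cfsg.Agent.Nodes.RGDChev
import Cfsg.Agent.H225.Mono.End_m3
import Cfsg.Agent.H167.KKL.AsmE8_mg
import Cfsg.Agent.DS.Nt.Defs_m3
import Cfsg.Agent.H952.F4.TabClosed
import Cfsg.Agent.H952.F4.TorDiag_m3
import Cfsg.Agent.DS.Nt.Base
import Cfsg.Agent.H387.KKL.P4b
import Cfsg.Agent.ChevFast.E8
import Cfsg.Agent.ChevFast.Lin
import Cfsg.Agent.FastGrp
import Cfsg.Agent.Prune
set_option linter.all false
open scoped Cfsg.Agent.FastGrp

-- part: DS/Nt/P8Tab
section
/-!
# The box `BoxP8` (helper54): tables for the lattice of `E₈` modulo two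

Functionals modulo two on the root lattice are masks `F < 256`.
-/

set_option autoImplicit false

namespace Cfsg.Agent.DS.Nt.P8

open CoxeterSystem Cfsg Cfsg.Lie Cfsg.Lie.ChevalleyDatum
open Cfsg.Agent.ChevalleyStructure Cfsg.Agent.ChevalleyStructure.Elts Cfsg.Agent.ChevalleyStructure.CoxeterGeom
  Cfsg.Agent.ChevalleyStructure.CoxeterGeomTypes Cfsg.Agent.ChevalleyStructure.RootVec
open Cfsg.Agent.Tits.Roots Cfsg.Agent.Tits.Core Cfsg.Agent.Nodes Cfsg.Agent.Nodes.RGDChev

/-- the byte `r` -/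
def byte (N r : ℕ) : ℕ := Nat.mod (Nat.shiftRight N (8 * r)) 256

/-- the roots modulo two -/
def mr (r : ℕ) : ℕ := byte 30725595737043606787277313515037065281930860522430620594316713320445535534339729861787196554086893503217824966469915497072120451528495434523772744372940803820888507478777545665828183324293972163240195432758267732928560604481528932460445178742089605189633340087337123349461967563060541651125948829996898323434284337382519244698710122866709185693038020368026233769655178935015736783311855512023492706553582764749549722539756129118064117648989390586094730269676167874213588389300533665552090349993346475952896261360481112691148376863893037076659980198583052506897239145344975163986 r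

/-- the functionals of the roots -/
def cr (r : ℕ) : ℕ := byte 47764352860006173876582047128410698715859907676342190704183088676777201282742820537453099974018388514732657973430320812237976837666082250889005662810252667519120628990776270546577944249282991649440353487122441374705147047798702367153886918576617926103897050633175169274839407740136371454897321796620027956059667358774588514176391476896038413038853468286770360965091095185417154998242225632038222042939044184600916199923495216315277511402895584748037868761635066755499571293085271409950127934571105248368830835639994191304672882639961963330687208494828361974462481801447661944960 r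

/-- the inverse of `cr` -/
def ix (y : ℕ) : ℕ := byte 376224173563318353209477038696298910223852173036136125934987548233265593076575019091412882247762634548103371686892666716678830189712362025043422837349935673196594860166875488012667433770241194654997609934024673821947521822460218019891321037847715318159783032131680445830719723205552935728159208633140183016590796171878407713513191770439701660798067229292925674061647951727500284852444078539420879649511471069884805811144109278352126378452080855810549141060554436266879561159530677269325241641007680548535945693632935480696875938055357020882081256783577198374742754244937369805607825646615771598435069512908800 y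

/-- parity -/
def PT : ℕ := 47758914269546354982683078068829456704164423862093743397580034411621752859030

/-- the singular functionals -/
def SB : ℕ := 106676786139643899365009106874957275224909715679428915318198427558243339801638

/-- the other nonzero functionals -/
def NB : ℕ := 9115303097672296058561878133730632628360268986211648721259156449669789838296

/-- a bit as a number modulo two -/
def bt (b : Bool) : ZMod 2 := cond b 1 0

theorem mr_spec : ∀ r < 240, ∀ i : Fin 8, (mr r).testBit i = decide (vec chevE8 8 r i % 2 ≠ 0) := by (open scoped Cfsg.Agent.ChevFast.Lin in decide +kernel)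

theorem cr_spec0 : ∀ i : Fin 8, ∀ r < 120, (cr r).testBit i = decide (chevE8.cartan i r % 2 ≠ 0) := by (rewrite [Cfsg.Agent.ChevFast.E8.cartan]; decide +kernel)

theorem cr_spec1 : ∀ i : Fin 8, ∀ r < 120, (cr (120 + r)).testBit i = decide (chevE8.cartan i (120 + r) % 2 ≠ 0) := by
  (rewrite [Cfsg.Agent.ChevFast.E8.cartan]; decide +kernel)

theorem cr_spec {r : ℕ} (hr : r < 240) (i : Fin 8) : (cr r).testBit i = decide (chevE8.cartan i r % 2 ≠ 0) := by
  rcases Nat.lt_or_ge r 120 with h | h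
  · exact cr_spec0 i r h
  · obtain ⟨s, rfl⟩ := Nat.exists_eq_add_of_le h
    exact cr_spec1 i s (by omega)

theorem PT_spec : ∀ y < 256, ∑ i : Fin 8, bt (y.testBit i) = bt (PT.testBit y) := by decide +kernel

private noncomputable def lp (p : ℕ → Bool) (n : ℕ) : Bool := Nat.rec true (fun k ih => and (p k) ih) n

private theorem lp_spec {p : ℕ → Bool} : ∀ {n : ℕ}, lp p n = true → ∀ k < n, p k = true
  | 0, _, _, h => absurd h (Nat.not_lt_zero _)
  | n + 1, h, k, hk => by
    have h1 : and (p n) (lp p n) = true := h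
    rw [Bool.and_eq_true] at h1
    rcases Nat.lt_succ_iff_lt_or_eq.1 hk with h2 | rfl
    · exact lp_spec h1.2 k h2
    · exact h1.1

private theorem bit_eq (N i : ℕ) : Nat.mod (Nat.shiftRight N i) 2 = (N.testBit i).toNat := by
  rw [Nat.toNat_testBit, ← Nat.shiftRight_eq_div_pow]
  rfl

private noncomputable def sm (F n : ℕ) : ℕ :=
  Nat.rec 0 (fun r ih => Nat.add (Nat.sub 1 (Nat.mod (Nat.shiftRight PT (Nat.land F (mr r))) 2)) ih) n

private theorem sm_eq (F : ℕ) : ∀ n, RootVecTab.sumLT (fun r => cond (PT.testBit (F &&& mr r)) 0 1) n = sm F n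
  | 0 => rfl
  | n + 1 => by
    show Nat.add (cond (PT.testBit (F &&& mr n)) 0 1) (RootVecTab.sumLT _ n) =
      Nat.add (Nat.sub 1 (Nat.mod (Nat.shiftRight PT (F &&& mr n)) 2)) (sm F n)
    rw [sm_eq F n, bit_eq]
    cases PT.testBit (F &&& mr n) <;> rfl

theorem tab0 : ∀ F < 256, RootVecTab.sumLT (fun r => cond (PT.testBit (F &&& mr r)) 0 1) 240 = 112 → SB.testBit F = true := by
  have h : lp (fun F => cond (SB.testBit F) true (cond (Nat.beq (sm F 240) 112) false true)) 256 = true := by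
    decide +kernel
  intro F hF h1
  have h2 := lp_spec h F hF
  rw [← sm_eq, h1] at h2
  revert h2
  cases SB.testBit F
  · exact fun h => h
  · exact fun _ => rfl

theorem tab1 : ∀ F < 256, SB.testBit F = true → ∀ r < 240, PT.testBit (F &&& mr r) = !NB.testBit (cr r ^^^ F) := by
  have h : lp (fun F => cond (SB.testBit F) (lp (fun r => Nat.beq
      (Nat.add (Nat.mod (Nat.shiftRight PT (Nat.land F (mr r))) 2) (Nat.mod (Nat.shiftRight NB (Nat.xor (cr r) F)) 2)) 1)
      240) true) 256 = true := by decide +kernel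
  intro F hF h1 r hr
  have h2 := lp_spec h F hF
  rw [h1, cond_true] at h2
  have h3 := lp_spec h2 r hr
  rw [bit_eq, bit_eq] at h3
  have h4 : Nat.beq (Nat.add (PT.testBit (F &&& mr r)).toNat (NB.testBit (cr r ^^^ F)).toNat) 1 = true := h3
  revert h4
  cases PT.testBit (F &&& mr r) <;> cases NB.testBit (cr r ^^^ F) <;> decide

theorem tab2 : ∀ y < 256, NB.testBit y = true → ix y < 240 ∧ cr (ix y) = y := by decide +kernel

theorem tab3 : ∀ r < 240, NB.testBit (cr r) = true ∧ ix (cr r) = min r (239 - r) ∧ chevE8.neg r = 239 - r := by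
  (rewrite [Cfsg.Agent.ChevFast.E8.neg]; decide +kernel)

end Cfsg.Agent.DS.Nt.P8
end

-- part: DS/Nt/P8Comb
section
/-!
# The box `BoxP8` (helper54): the totally singular 3-spaces of the lattice of `E₈` modulo two

`gr b` : the functional modulo two of the root `b`.

* `exists_gr`, `zero_of_gr`, `eq_of_gr` : singular functionals and roots;
* `coset` : the functionals of the sixteen roots annihilated by a singular 3-space form one coset;
* `key` : a residual involution fixing the space is trivial or moves these roots to orthogonal ones.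
-/

set_option autoImplicit false

namespace Cfsg.Agent.DS.Nt.P8

open CoxeterSystem Cfsg Cfsg.Lie Cfsg.Lie.ChevalleyDatum
open Cfsg.Agent.ChevalleyStructure Cfsg.Agent.ChevalleyStructure.Elts Cfsg.Agent.ChevalleyStructure.CoxeterGeom
  Cfsg.Agent.ChevalleyStructure.CoxeterGeomTypes Cfsg.Agent.ChevalleyStructure.RootVec
open Cfsg.Agent.Tits.Roots Cfsg.Agent.Tits.Core Cfsg.Agent.Nodes Cfsg.Agent.Nodes.RGDChev Cfsg.Agent.Nodes.Coroot
open Cfsg.Agent.H167.KKL

/-- the Coxeter system -/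
local notation "cs₈" => CoxeterMatrix.toCoxeterSystem CoxeterMatrix.E₈

/-- functionals modulo two -/
abbrev Fn : Type := (Fin 8 → ℤ) →+ ZMod 2

theorem bt_cast (x : ℤ) : (x : ZMod 2) = bt (decide (x % 2 ≠ 0)) := by
  rw [← ZMod.intCast_mod x 2]
  rcases Int.emod_two_eq_zero_or_one x with h | h
  · rw [show x % ((2 : ℕ) : ℤ) = 0 from h, h]
    rfl
  · rw [show x % ((2 : ℕ) : ℤ) = 1 from h, h]
    rfl

theorem bt_and : ∀ a b : Bool, bt (a && b) = bt b * bt a := by decide

theorem bt_xor : ∀ a b : Bool, bt (a ^^ b) = bt a + bt b := by decide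

theorem bt_inj : ∀ a b : Bool, bt a = bt b → a = b := by decide

theorem bt_dec : ∀ x : ZMod 2, x = bt (decide (x ≠ 0)) := by decide

theorem fn_apply (f : Fn) (x : Fin 8 → ℤ) : f x = ∑ i, (x i : ZMod 2) * f (sr i) := by
  conv_lhs => rw [SimplyLaced.eq_sum_sr x, map_sum]
  exact Finset.sum_congr rfl fun i _ => by rw [map_zsmul, zsmul_eq_mul]

/-- the mask of a functional -/
def HasM (f : Fn) (F : ℕ) : Prop := F < 256 ∧ ∀ i : Fin 8, f (sr i) = bt (F.testBit i)

theorem exists_hasM (f : Fn) : ∃ F, HasM f F := by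
  obtain ⟨F, h1, h2⟩ := H387.KKL.exists_mask fun i => decide (f (sr i) ≠ 0)
  exact ⟨F, h1, fun i => by rw [h2]; exact bt_dec _⟩

theorem HasM.add {f g : Fn} {F G : ℕ} (h : HasM f F) (h' : HasM g G) : HasM (f + g) (F ^^^ G) :=
  ⟨Nat.xor_lt_two_pow (n := 8) h.1 h'.1, fun i => by
    rw [AddMonoidHom.add_apply, h.2, h'.2, Nat.testBit_xor, bt_xor]⟩

theorem HasM.ext {f g : Fn} {F : ℕ} (h : HasM f F) (h' : HasM g F) : f = g := by
  refine AddMonoidHom.ext fun x => ?_
  rw [fn_apply f, fn_apply g]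
  exact Finset.sum_congr rfl fun i _ => by rw [h.2, h'.2]

theorem HasM.inj {f : Fn} {F G : ℕ} (h : HasM f F) (h' : HasM f G) : F = G := by
  refine Nat.eq_of_testBit_eq fun i => ?_
  rcases Nat.lt_or_ge i 8 with hi | hi
  · exact bt_inj _ _ ((h.2 ⟨i, hi⟩).symm.trans (h'.2 ⟨i, hi⟩))
  · have h1 : 2 ^ 8 ≤ 2 ^ i := Nat.pow_le_pow_right (by norm_num) hi
    rw [Nat.testBit_lt_two_pow (lt_of_lt_of_le h.1 h1), Nat.testBit_lt_two_pow (lt_of_lt_of_le h'.1 h1)]

theorem HasM.vec {f : Fn} {F : ℕ} (h : HasM f F) {r : ℕ} (hr : r < 240) :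
    f (vec chevE8 8 r) = bt (PT.testBit (F &&& mr r)) := by
  rw [fn_apply, ← PT_spec _ (lt_of_le_of_lt Nat.and_le_left h.1)]
  exact Finset.sum_congr rfl fun i _ => by rw [h.2, bt_cast, ← mr_spec r hr, Nat.testBit_and, bt_and]

/-- the functional of a root -/
def gr (b : Fin 8 → ℤ) : Fn where
  toFun x := ((∑ k, x k * pairing (cartanOf chevE8 8) k b : ℤ) : ZMod 2)
  map_zero' := by simp
  map_add' x y := by
    rw [← Int.cast_add, ← Finset.sum_add_distrib]
    exact congrArg _ (Finset.sum_congr rfl fun k _ => by rw [Pi.add_apply, add_mul])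

/-- singular functionals -/
def Sing (f : Fn) : Prop := (Finset.univ.filter fun s : Fin chevE8.nroots => f (vec chevE8 8 s) = 0).card = 112

theorem Sing.sb {f : Fn} (h : Sing f) {F : ℕ} (hF : HasM f F) : SB.testBit F = true := by
  refine tab0 F hF.1 ?_
  rw [sumLT_eq, ← Fin.sum_univ_eq_sum_range (fun r => cond (PT.testBit (F &&& mr r)) 0 1) 240, ← h, Finset.card_filter]
  refine Finset.sum_congr rfl fun s _ => ?_
  rw [hF.vec s.2]
  cases PT.testBit (F &&& mr s) <;> rfl

variable (hp : IsType chevE8 8 CoxeterMatrix.E₈)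

include hp

theorem cpr_sum (x : Fin 8 → ℤ) {b : Fin 8 → ℤ} (hb : IsRoot cs₈ hp.isCartan b) :
    cpr cs₈ hp.isCartan x b = ∑ k, x k * pairing (cartanOf chevE8 8) k b := by
  have := finite_W hp cs₈
  exact SimplyLaced.cpr_eq_sum cs₈ hp.isCartan H230.X3.Comb.no4 H230.X3.Comb.no6 x hb

theorem gr_apply (x : Fin 8 → ℤ) {b : Fin 8 → ℤ} (hb : IsRoot cs₈ hp.isCartan b) :
    gr b x = (cpr cs₈ hp.isCartan x b : ZMod 2) := by
  rw [cpr_sum hp x hb]
  rfl

theorem hasM_gr {r : ℕ} (hr : r < 240) : HasM (gr (vec chevE8 8 r)) (cr r) := by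
  refine ⟨Nat.mod_lt _ (by norm_num), fun i => ?_⟩
  have h1 : ∑ k, (sr i : Fin 8 → ℤ) k * pairing (cartanOf chevE8 8) k (vec chevE8 8 r) = chevE8.cartan i r := by
    rw [Finset.sum_eq_single i (fun j _ hj => by rw [sr_ne hj, zero_mul]) (fun h => absurd (Finset.mem_univ _) h),
      sr_self, one_mul, pairing_vec hp i hr]
  rw [cr_spec hr, ← bt_cast, ← h1]
  rfl

theorem gr_neg {b : Fin 8 → ℤ} (hb : IsRoot cs₈ hp.isCartan b) : gr (-b) = gr b := by
  have := finite_W hp cs₈
  refine AddMonoidHom.ext fun x => ?_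
  rw [gr_apply hp x hb, gr_apply hp x hb.neg, cpr_neg_right cs₈ hp.isCartan x hb, Int.cast_neg, ZMod.neg_eq_self_mod_two]

theorem gr_rep (w : CoxeterMatrix.E₈.Group) {b : Fin 8 → ℤ} (hb : IsRoot cs₈ hp.isCartan b) (x : Fin 8 → ℤ) :
    gr (rep cs₈ hp.isCartan w b) (rep cs₈ hp.isCartan w x) = gr b x := by
  have := finite_W hp cs₈
  rw [gr_apply hp x hb, gr_apply hp _ (hb.act w), cpr_rep cs₈ hp.isCartan w x hb]

theorem exists_gr {f : Fn} (hf : Sing f) {b : Fin 8 → ℤ} (hb : IsRoot cs₈ hp.isCartan b) (h : f b = 0) :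
    ∃ c, IsRoot cs₈ hp.isCartan c ∧ gr c = gr b + f := by
  obtain ⟨r, hr, rfl⟩ := (isRoot_iff hp cs₈ b).1 hb
  obtain ⟨F, hF⟩ := exists_hasM f
  have h1 := (hasM_gr hp hr).add hF
  have h2 := tab1 F hF.1 (hf.sb hF) r hr
  rw [hF.vec hr] at h
  rw [bt_inj _ false h] at h2
  obtain ⟨h3, h4⟩ := tab2 _ h1.1 (by simpa using h2)
  refine ⟨_, isRoot_vec hp cs₈ h3, HasM.ext ?_ h1⟩
  have h5 := hasM_gr hp h3
  rwa [h4] at h5

theorem zero_of_gr {f : Fn} (hf : Sing f) {b c : Fin 8 → ℤ} (hb : IsRoot cs₈ hp.isCartan b)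
    (hc : IsRoot cs₈ hp.isCartan c) (h : gr c = gr b + f) : f b = 0 := by
  obtain ⟨r, hr, rfl⟩ := (isRoot_iff hp cs₈ b).1 hb
  obtain ⟨s, hs, rfl⟩ := (isRoot_iff hp cs₈ c).1 hc
  obtain ⟨F, hF⟩ := exists_hasM f
  have h1 := (hasM_gr hp hr).add hF
  rw [← h] at h1
  rw [hF.vec hr, tab1 F hF.1 (hf.sb hF) r hr, h1.inj (hasM_gr hp hs), (tab3 s hs).1]
  rfl

theorem eq_of_gr {b c : Fin 8 → ℤ} (hb : IsRoot cs₈ hp.isCartan b) (hc : IsRoot cs₈ hp.isCartan c)
    (h : gr c = gr b) : c = b ∨ c = -b := by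
  obtain ⟨r, hr, rfl⟩ := (isRoot_iff hp cs₈ b).1 hb
  obtain ⟨s, hs, rfl⟩ := (isRoot_iff hp cs₈ c).1 hc
  have h1 := hasM_gr hp hr
  rw [← h] at h1
  have h2 := (tab3 r hr).2.1
  rw [h1.inj (hasM_gr hp hs), (tab3 s hs).2.1] at h2
  have hr' : r < 240 := hr
  have hs' : s < 240 := hs
  rcases (by omega : s = r ∨ s = 239 - r) with h3 | h3
  · exact Or.inl (by rw [h3])
  · exact Or.inr (by rw [h3, ← (tab3 r hr).2.2, vec_neg hp hr])

section Space

variable {ι : Type} [Fintype ι] {f : ι → Fn} (hadd : ∀ i j, ∃ k, f k = f i + f j) (hS : ∀ i, f i ≠ 0 → Sing (f i))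

include hadd hS

omit [Fintype ι] in
theorem exists_shift {b : Fin 8 → ℤ} (hb : IsRoot cs₈ hp.isCartan b) (h0 : ∀ j, f j b = 0) (i : ι) :
    ∃ c, IsRoot cs₈ hp.isCartan c ∧ (∀ j, f j c = 0) ∧ gr c = gr b + f i := by
  have h1 : ∀ k, ∃ c, IsRoot cs₈ hp.isCartan c ∧ gr c = gr b + f k := by
    intro k
    by_cases h : f k = 0
    · exact ⟨b, hb, by rw [h, add_zero]⟩
    · exact exists_gr hp (hS k h) hb (h0 k)
  obtain ⟨c, hc, e⟩ := h1 i
  refine ⟨c, hc, fun j => ?_, e⟩
  by_cases h : f j = 0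
  · rw [h]
    rfl
  · obtain ⟨k, hk⟩ := hadd i j
    obtain ⟨d, hd, e'⟩ := h1 k
    exact zero_of_gr hp (hS j h) hc hd (by rw [e', e, hk, add_assoc])

variable (h8 : Fintype.card ι = 8) (hinj : Function.Injective f)
  (h16 : (Finset.univ.filter fun s : Fin chevE8.nroots => ∀ i, f i (vec chevE8 8 s) = 0).card = 16)

include h8 hinj h16

theorem coset {b c : Fin 8 → ℤ} (hb : IsRoot cs₈ hp.isCartan b) (hb0 : ∀ j, f j b = 0)
    (hc : IsRoot cs₈ hp.isCartan c) (hc0 : ∀ j, f j c = 0) : ∃ i, gr c = gr b + f i := by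
  classical
  set S := Finset.univ.filter fun s : Fin chevE8.nroots => ∀ i, f i (vec chevE8 8 s) = 0 with hSd
  have hm : ∀ d, IsRoot cs₈ hp.isCartan d → (∀ j, f j d = 0) → gr d ∈ S.image fun s : Fin chevE8.nroots => gr (vec chevE8 8 s) := by
    intro d hd hd0
    obtain ⟨r, hr, rfl⟩ := (isRoot_iff hp cs₈ d).1 hd
    exact Finset.mem_image.2 ⟨⟨r, hr⟩, Finset.mem_filter.2 ⟨Finset.mem_univ _, hd0⟩, rfl⟩
  have h1 : 2 * (S.image fun s : Fin chevE8.nroots => gr (vec chevE8 8 s)).card ≤ S.card := by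
    refine Finset.mul_card_image_le_card S 2 fun y hy => ?_
    obtain ⟨s, hs, rfl⟩ := Finset.mem_image.1 hy
    have h2 := isRoot_vec hp cs₈ s.2
    obtain ⟨s', h3⟩ : ∃ s' : Fin chevE8.nroots, vec chevE8 8 s' = -vec chevE8 8 s :=
      let ⟨r, hr, e⟩ := (isRoot_iff hp cs₈ _).1 h2.neg; ⟨⟨r, hr⟩, e⟩
    refine Finset.one_lt_card.2 ⟨s, Finset.mem_filter.2 ⟨hs, rfl⟩, s',
      Finset.mem_filter.2 ⟨Finset.mem_filter.2 ⟨Finset.mem_univ _, fun i => ?_⟩, ?_⟩, fun h => ?_⟩
    · rw [h3, map_neg, (Finset.mem_filter.1 hs).2 i, neg_zero]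
    · rw [h3, gr_neg hp h2]
    · rw [← h] at h3
      exact h2.ne_zero (self_eq_neg.1 h3)
  have h2 : (Finset.univ.image fun i => gr b + f i) = S.image fun s : Fin chevE8.nroots => gr (vec chevE8 8 s) := by
    refine Finset.eq_of_subset_of_card_le (fun y hy => ?_) ?_
    · obtain ⟨i, -, rfl⟩ := Finset.mem_image.1 hy
      obtain ⟨d, hd, hd0, e⟩ := exists_shift hp hadd hS hb hb0 i
      rw [← e]
      exact hm d hd hd0
    · rw [Finset.card_image_of_injective _ fun i j h => hinj (add_left_cancel h), Finset.card_univ, h8]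
      omega
  have h3 := hm c hc hc0
  rw [← h2] at h3
  obtain ⟨i, -, e⟩ := Finset.mem_image.1 h3
  exact ⟨i, e.symm⟩

/-- **A residual involution fixing the space.** -/
theorem key {w : CoxeterMatrix.E₈.Group} (hw : ∀ i x, f i (rep cs₈ hp.isCartan w x) = f i x) (hres : Res hp.isCartan w)
    (hneg : ∀ b, IsRoot cs₈ hp.isCartan b → rep cs₈ hp.isCartan w b = -b → ∃ i, f i b ≠ 0) :
    w = 1 ∨ ∀ b, IsRoot cs₈ hp.isCartan b → (∀ j, f j b = 0) →
      rep cs₈ hp.isCartan w b ≠ b ∧ cpr cs₈ hp.isCartan (rep cs₈ hp.isCartan w b) b = 0 := by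
  have := finite_W hp cs₈
  have hn : ∀ b, IsRoot cs₈ hp.isCartan b → (∀ j, f j b = 0) → rep cs₈ hp.isCartan w b ≠ -b := fun b hb hb0 h => by
    obtain ⟨i, hi⟩ := hneg b hb h
    exact hi (hb0 i)
  by_cases h1 : ∃ b, IsRoot cs₈ hp.isCartan b ∧ (∀ j, f j b = 0) ∧ rep cs₈ hp.isCartan w b = b
  · obtain ⟨b, hb, hb0, e⟩ := h1
    have h2 : ∀ c, IsRoot cs₈ hp.isCartan c → (∀ j, f j c = 0) → rep cs₈ hp.isCartan w c = c := by
      intro c hc hc0
      obtain ⟨i, hi⟩ := coset hp hadd hS h8 hinj h16 hb hb0 hc hc0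
      refine (eq_of_gr hp hc (hc.act w) ?_).resolve_right (hn c hc hc0)
      refine AddMonoidHom.ext fun x => ?_
      rw [← rep_apply_inv cs₈ hp.isCartan w x, gr_rep hp w hc, hi, AddMonoidHom.add_apply, AddMonoidHom.add_apply, hw,
        ← gr_rep hp w hb, e]
    left
    by_contra hne
    obtain ⟨i, hi⟩ := CoxeterSystem.exists_rightDescent_of_ne_one cs₈ hne
    have h3 : rep cs₈ hp.isCartan w (sr i) = -sr i := hres.neg i (nonpos_of_lt cs₈ hp.isCartan w i hi)
    have h4 : ∀ c, IsRoot cs₈ hp.isCartan c → (∀ j, f j c = 0) → gr c (sr i) = 0 := by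
      intro c hc hc0
      have h5 := cpr_rep cs₈ hp.isCartan w (sr i) hc
      rw [h2 c hc hc0, h3, cpr_neg cs₈ hp.isCartan _ hc] at h5
      rw [gr_apply hp _ hc, show cpr cs₈ hp.isCartan (sr i) c = 0 by omega, Int.cast_zero]
    refine hn _ (isRoot_sr _ _ i) (fun j => ?_) h3
    obtain ⟨c, hc, hc0, e'⟩ := exists_shift hp hadd hS hb hb0 j
    have h5 := h4 c hc hc0
    rwa [e', AddMonoidHom.add_apply, h4 b hb hb0, zero_add] at h5
  · refine Or.inr fun b hb hb0 => ⟨fun h => h1 ⟨b, hb, hb0, h⟩, ?_⟩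
    have h2 := SimplyLaced.abs_cpr_le_one cs₈ hp.isCartan H230.X3.Comb.no4 H230.X3.Comb.no6 (hb.act w) hb
      (fun h => h1 ⟨b, hb, hb0, h⟩) (hn b hb hb0)
    have h3 : ∀ j, f j (rep cs₈ hp.isCartan w b) = 0 := fun j => by rw [hw, hb0]
    obtain ⟨i, hi⟩ := coset hp hadd hS h8 hinj h16 (hb.act w) h3 hb hb0
    have h4 := congrArg (fun g : Fn => g (rep cs₈ hp.isCartan w b)) hi
    simp only [AddMonoidHom.add_apply] at h4
    rw [h3, add_zero, gr_apply hp _ hb, gr_apply hp _ (hb.act w), cpr_self cs₈ hp.isCartan (hb.act w),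
      ZMod.intCast_eq_intCast_iff_dvd_sub] at h4
    rw [abs_le] at h2
    omega

end Space

end Cfsg.Agent.DS.Nt.P8
end

-- part: DS/Nt/P4
section
/-!
# The box `BoxP4` (helper54): on the module of dimension `27` an involution of type `B₄` has trace `-5`
-/

set_option autoImplicit false

namespace Cfsg.Agent.DS.Nt.P4

open Cfsg Cfsg.Lie Cfsg.Agent.DS.Ex Cfsg.Agent.H469.Exc Cfsg.Agent.BpExc Module

/-- a group of order less than eight whose pairs are toral -/
theorem toral_of_card {D : ChevalleyDatum} {p : ℕ} [Fact p.Prime] {E : Subgroup (YY D p)} (h : EA p 2 E)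
    (hc : Nat.card E < 8) : Toral p E := by
  classical
  have := h.fin
  by_cases h1 : ∃ x ∈ E, ∃ y ∈ E, x ≠ 1 ∧ y ≠ 1 ∧ x ≠ y
  · obtain ⟨x, hx, y, hy, hx1, hy1, hxy⟩ := h1
    obtain ⟨g, h2, h3⟩ := h.tp x hx y hy
    let K : Subgroup E := (KFacts.RgdChevCoord.TT D (KK p)).comap ((MulAut.conj g).toMonoidHom.comp E.subtype)
    let x' : K := ⟨⟨x, hx⟩, h2⟩
    let y' : K := ⟨⟨y, hy⟩, h3⟩
    have hv : ∀ a b : K, ((a : E) : YY D p) ≠ ((b : E) : YY D p) → a ≠ b := fun a b h4 h5 => h4 (by rw [h5])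
    have h4 : 4 ≤ Nat.card K := by
      have := Fintype.ofFinite K
      have h5 : ({1, x', y', x' * y'} : Finset K).card = 4 := by
        rw [Finset.card_eq_four]
        refine ⟨1, x', y', x' * y', hv _ _ hx1.symm, hv _ _ hy1.symm, hv _ _ fun h5 => hxy ?_, hv _ _ hxy,
          hv _ _ fun h5 => hy1 (left_eq_mul.1 h5), hv _ _ fun h5 => hx1 (right_eq_mul.1 h5), rfl⟩
        have h6 : x * x = x * y := by rw [← pow_two, h.pow x hx]; exact h5
        exact mul_left_cancel h6
      rw [Nat.card_eq_fintype_card, ← h5]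
      exact Finset.card_le_univ _
    have h5 : K = ⊤ := by
      rw [← Subgroup.index_eq_one]
      have h6 := K.card_mul_index
      have h7 : K.index ≠ 0 := Subgroup.index_ne_zero_of_finite
      by_contra h8
      have h9 : 2 ≤ K.index := by omega
      nlinarith
    exact ⟨g, fun a ha => (h5.ge (Subgroup.mem_top (⟨a, ha⟩ : E)) : _ ∈ K)⟩
  by_cases h2 : ∃ x ∈ E, x ≠ 1
  · obtain ⟨x, hx, hx1⟩ := h2
    obtain ⟨g, h2, -⟩ := h.tp x hx x hx
    refine ⟨g, fun a ha => ?_⟩
    by_cases h3 : a = 1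
    · rw [h3, mul_one, mul_inv_cancel]
      exact one_mem _
    · rwa [not_not.1 fun h4 => h1 ⟨a, ha, x, hx, h3, hx1, h4⟩]
  · refine ⟨1, fun a ha => ?_⟩
    rw [not_not.1 fun h4 => h2 ⟨a, ha, h4⟩, mul_one, mul_inv_cancel]
    exact one_mem _

theorem boxP4 : BoxP4 := by
  intro p _ E h hd
  have := h.fin
  have := Fintype.ofFinite E
  obtain ⟨ρ, hρ⟩ := H952.F4.JMod.exists_isJ (KK p)
  have hT := H952.F4.Tor.tab_closed p (TorAll.hAlg_of_isAlgebraic p _) hρ
  have h2 : ((2 : ℕ) : KK p) ≠ 0 := fun h0 =>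
    h.ne ((Nat.prime_dvd_prime_iff_eq Fact.out Nat.prime_two).1 ((CharP.cast_eq_zero_iff (KK p) p 2).1 h0)).symm
  let σ := MonoidHom.comp (H952.F4.JK ρ) E.subtype
  have h3 := NT.dim_pure σ Nat.prime_two h2 (fun x y => Subtype.ext (h.comm x x.2 y y.2))
    (fun x => Subtype.ext (h.pow x x.2)) (Representation.invariants σ) (fun _ => Iff.rfl) (d := 11) fun e he => by
      have h3 : (e : YY chevF4 p) ≠ 1 := fun h4 => he (Subtype.ext h4)
      rcases hT.two h.ne.symm e h3 (by rw [← pow_two, h.pow e e.2]) with h4 | h4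
      · exact absurd ((hd e e.2 h3).symm.trans h4.2.1) (by norm_num)
      · exact h4.1
  rw [finrank_fintype_fun_eq_card, show Fintype.card I27 = 27 from rfl] at h3
  refine toral_of_card h ?_
  rw [Nat.card_eq_fintype_card]
  have h4 : (0 : ℤ) ≤ Fintype.card E * finrank (KK p) (Representation.invariants σ) := by (clear * -; positivity)
  push_cast at h3
  have h5 : (Fintype.card E : ℤ) < 8 := by linarith
  exact_mod_cast h5

end Cfsg.Agent.DS.Nt.P4
end

-- part: DS/Nt/P8
section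
/-!
# The box `BoxP8` (helper54): groups of order at most `16` of involutions of type `D₈` are toral

* `toral8` : order `8`, by the boxes of `H167.KKL`;
* `fx_ge` : a monomial involution without fixed roots has a big fixed space;
* `toral16`, `boxP8`.
-/

set_option autoImplicit false

namespace Cfsg.Agent.DS.Nt.P8

open CoxeterSystem Cfsg Cfsg.Lie Cfsg.Lie.ChevalleyDatum Module
open Cfsg.Agent.ChevalleyStructure Cfsg.Agent.ChevalleyStructure.Elts Cfsg.Agent.ChevalleyStructure.CoxeterGeom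
  Cfsg.Agent.ChevalleyStructure.CoxeterGeomTypes
open Cfsg.Agent.Tits.Roots Cfsg.Agent.Tits.Core Cfsg.Agent.Nodes Cfsg.Agent.Nodes.RGDChev Cfsg.Agent.Nodes.Coroot
open Cfsg.Agent.KFacts.RgdField Cfsg.Agent.KFacts.RgdChevCoord Cfsg.Agent.BpExc.TowChev
open Cfsg.Agent.H469.Exc Cfsg.Agent.H129.TorusChar Cfsg.Agent.DS.Ex Cfsg.Agent.H167.KKL Cfsg.Agent.H582.KKL

/-- the Coxeter system -/
local notation "cs₈" => CoxeterMatrix.toCoxeterSystem CoxeterMatrix.E₈

variable {p : ℕ} [Fact p.Prime]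

theorem fr248 : finrank (KK p) (chevE8.Idx → KK p) = 248 := finrank_ad KindE.isType8

/-- pure groups -/
structure Pu (E : Subgroup (YY chevE8 p)) : Prop where
  ea : EA p 2 E
  dd : ∀ e ∈ E, e ≠ 1 → dd p e = 120

namespace Pu

variable {E : Subgroup (YY chevE8 p)} (h : Pu E)

include h

theorem ne : p ≠ 2 := h.ea.ne.symm

theorem two : (2 : KK p) ≠ 0 := two_ne p h.ne

theorem sq {x : YY chevE8 p} (hx : x ∈ E) : x * x = 1 := by rw [← pow_two, h.ea.pow x hx]

theorem le {A : Subgroup (YY chevE8 p)} (hA : A ≤ E) : Pu A :=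
  have := h.ea.fin
  ⟨⟨h.ea.prime, h.ea.ne, Finite.of_injective _ (Subgroup.inclusion_injective hA),
    fun x hx y hy => h.ea.comm x (hA hx) y (hA hy), fun x hx => h.ea.pow x (hA hx),
    fun x hx y hy => h.ea.tp x (hA hx) y (hA hy)⟩, fun x hx => h.dd x (hA hx)⟩

theorem conj (g : YY chevE8 p) : Pu (E.map (MulAut.conj g).toMonoidHom) := by
  have := h.ea.fin
  refine ⟨⟨h.ea.prime, h.ea.ne, Finite.of_surjective _ (MonoidHom.subgroupMap_surjective _ E), ?_, ?_, ?_⟩, ?_⟩
  · rintro _ ⟨x, hx, rfl⟩ _ ⟨y, hy, rfl⟩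
    rw [← map_mul, h.ea.comm x hx y hy, map_mul]
  · rintro _ ⟨x, hx, rfl⟩
    rw [← map_pow, h.ea.pow x hx, map_one]
  · rintro _ ⟨x, hx, rfl⟩ _ ⟨y, hy, rfl⟩
    exact (h.ea.tp x hx y hy).conj g
  · rintro _ ⟨x, hx, rfl⟩ h1
    exact (dd_conj g x).trans (h.dd x hx fun h2 => h1 (by rw [h2, map_one]))

theorem fx : Nat.card E * finrank (KK p) (Fx p (E : Set (YY chevE8 p))) + 8 * Nat.card E = 256 := by
  have := h.ea.fin
  have := Fintype.ofFinite E
  have h3 := NT.dim_pure ((ad chevE8 p).comp E.subtype) Nat.prime_two (by exact_mod_cast h.two)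
    (fun x y => Subtype.ext (h.ea.comm x x.2 y y.2)) (fun x => Subtype.ext (h.ea.pow x x.2))
    (Fx p (E : Set (YY chevE8 p))) (fun _ => ⟨fun h1 e => h1 e e.2, fun h1 e he => h1 ⟨e, he⟩⟩) (d := 120)
    fun e he => h.dd e e.2 fun h4 => he (Subtype.ext h4)
  rw [fr248] at h3
  rw [Nat.card_eq_fintype_card]
  push_cast at h3
  zify
  linarith

theorem tr {x : YY chevE8 p} (hx : x ∈ E) (h1 : x ≠ 1) : trL chevE8 x = -8 := by
  have h2 : ∀ v, ad chevE8 p x (ad chevE8 p x v) = v := fun v => by rw [← ad_mul, h.sq hx, ad_one]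
  have h3 : LinearMap.IsProj (End.eigenspace (ad chevE8 p x) 1) ((2 : KK p)⁻¹ • (1 + ad chevE8 p x)) := by
    constructor
    · intro v
      rw [End.mem_eigenspace_iff, one_smul, LinearMap.smul_apply, LinearMap.add_apply, map_smul, map_add, h2,
        End.one_apply, add_comm]
    · intro v hv
      rw [End.mem_eigenspace_iff, one_smul] at hv
      rw [LinearMap.smul_apply, LinearMap.add_apply, hv, End.one_apply, ← two_smul (KK p), smul_smul,
        inv_mul_cancel₀ h.two, one_smul]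
  have h4 := h3.trace
  have h5 : LinearMap.trace (KK p) _ (ad chevE8 p x) = trL chevE8 x := Matrix.trace_toLin'_eq _
  rw [map_smul, map_add, LinearMap.trace_one, h5, fr248,
    show finrank (KK p) (End.eigenspace (ad chevE8 p x) 1) = 120 from h.dd x hx h1, smul_eq_mul,
    inv_mul_eq_iff_eq_mul₀ h.two] at h4
  push_cast at h4
  linear_combination h4

theorem exists_le {n : ℕ} (hn : 2 ^ n ≤ Nat.card E) : ∃ A ≤ E, Nat.card A = 2 ^ n := by
  obtain ⟨K, hK⟩ := Sylow.exists_subgroup_card_pow_prime_of_le_card (G := E) Nat.prime_two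
    (fun x => ⟨1, Subtype.ext (by rw [pow_one]; exact h.ea.pow x x.2)⟩) hn
  exact ⟨K.map E.subtype, Subgroup.map_subtype_le _, by rw [Subgroup.card_subtype, hK]⟩

end Pu

theorem card_conj (g : YY chevE8 p) (E : Subgroup (YY chevE8 p)) :
    Nat.card (E.map (MulAut.conj g).toMonoidHom) = Nat.card E :=
  Subgroup.card_map_of_injective (MulAut.conj g).injective

theorem toral_of_conj {g : YY chevE8 p} {E : Subgroup (YY chevE8 p)} (h : Toral p (E.map (MulAut.conj g).toMonoidHom)) :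
    Toral p E := by
  obtain ⟨z, hz⟩ := h
  refine ⟨z * g, fun a ha => ?_⟩
  have e : z * g * a * (z * g)⁻¹ = z * (g * a * g⁻¹) * z⁻¹ := by group
  rw [e]
  exact hz _ ⟨a, ha, rfl⟩

/-- the shape reached by the reduction -/
structure Sh (hp : IsType chevE8 8 CoxeterMatrix.E₈) (E A : Subgroup (YY chevE8 p)) (w : CoxeterMatrix.E₈.Group)
    (n : YY chevE8 p) : Prop where
  pu : Pu E
  le : A ≤ E
  tor : ∀ a ∈ A, a ∈ TT chevE8 (KK p)
  mem : n ∈ E
  nmem : n ∉ A
  cov : ∀ x ∈ E, x ∈ A ∨ n * x ∈ A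
  rp : RP hp p w n
  res : Res hp.isCartan w
  neg : ∀ b, IsRoot cs₈ hp.isCartan b → rep cs₈ hp.isCartan w b = -b → ∃ a ∈ A, ch hp b a ≠ 1

variable (hp : IsType chevE8 8 CoxeterMatrix.E₈)

/-- **The reduction.** -/
theorem step {E A : Subgroup (YY chevE8 p)} (h : Pu E) (hA : A ≤ E) (hc : Nat.card E = 2 * Nat.card A) (hT : Toral p A)
    (core : ∀ (E' A' : Subgroup (YY chevE8 p)) w n, Nat.card E' = Nat.card E → Nat.card A' = Nat.card A →
      Sh hp E' A' w n → w = 1) : Toral p E := by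
  have := h.ea.fin
  have hfA := (h.le hA).ea.fin
  have hi : (A.subgroupOf E).index = 2 := by
    have h1 := (A.subgroupOf E).card_mul_index
    rw [Nat.card_congr (Subgroup.subgroupOfEquivOfLe hA).toEquiv, hc, mul_comm 2] at h1
    exact Nat.eq_of_mul_eq_mul_left Nat.card_pos h1
  obtain ⟨e, he⟩ := Subgroup.index_eq_two_iff'.1 hi
  have heA : (e : YY chevE8 p) ∉ A := fun h1 => by
    rcases he 1 with h2 | h2
    · exact h2.2 (one_mem _)
    · exact h2.2 (by rw [mul_one]; exact h1)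
  obtain ⟨g1, hg1⟩ := hT
  have h1 := h.conj g1
  obtain ⟨g2, w, n, h2, hn, -, e1, hres, hb⟩ := red hp p (locFin p) h.ne
    (Z := (A.map (MulAut.conj g1).toMonoidHom : Set (YY chevE8 p))) ((h.le hA).conj g1).ea.fin
    (by rintro _ ⟨a, ha, rfl⟩; exact hg1 a ha) (x := g1 * e * g1⁻¹) (h1.sq ⟨e, e.2, rfl⟩)
    (by rintro _ ⟨a, ha, rfl⟩; exact h1.ea.comm _ ⟨e, e.2, rfl⟩ _ ⟨a, hA ha, rfl⟩)
  have hcj : ∀ y, g2 * (g1 * y * g1⁻¹) * g2⁻¹ = (MulAut.conj (g2 * g1)).toMonoidHom y := fun y => by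
    show _ = g2 * g1 * y * (g2 * g1)⁻¹
    group
  rw [hcj] at e1
  have S : Sh hp (E.map (MulAut.conj (g2 * g1)).toMonoidHom) (A.map (MulAut.conj (g2 * g1)).toMonoidHom) w n := by
    refine ⟨h.conj _, Subgroup.map_mono hA, ?_, ⟨e, e.2, e1⟩, ?_, ?_, hn, hres, fun b hb1 hb2 => ?_⟩
    · rintro _ ⟨a, ha, rfl⟩
      rw [← hcj]
      exact h2 _ ⟨a, ha, rfl⟩
    · rintro ⟨a, ha, e2⟩
      rw [← e1] at e2
      exact heA ((MulAut.conj (g2 * g1)).injective e2 ▸ ha)
    · rintro _ ⟨x, hx, rfl⟩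
      rcases he ⟨x, hx⟩ with h3 | h3
      · exact Or.inr ⟨e * x, h3.1, by rw [map_mul, e1]⟩
      · exact Or.inl ⟨x, h3.1, rfl⟩
    · obtain ⟨_, ⟨a, ha, rfl⟩, h3⟩ := hb b hb1 hb2
      exact ⟨_, ⟨a, ha, rfl⟩, by rw [← hcj]; exact h3⟩
  obtain rfl := core _ _ w n (card_conj _ _) (card_conj _ _) S
  refine toral_of_conj (g := g2 * g1) ⟨1, fun x hx => ?_⟩
  rw [one_mul, inv_one, mul_one]
  rcases S.cov x hx with h3 | h3
  · exact S.tor x h3
  · exact (mul_mem_cancel_left S.rp.mem_T).1 (S.tor _ h3)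

variable {hp}

namespace Sh

variable {E A : Subgroup (YY chevE8 p)} {w : CoxeterMatrix.E₈.Group} {n : YY chevE8 p} (S : Sh hp E A w n)

include S

theorem mul_ne {a : YY chevE8 p} (ha : a ∈ A) : n * a ≠ 1 := fun h =>
  S.nmem (by rw [eq_inv_of_mul_eq_one_left h]; exact inv_mem ha)

theorem core4 (hc : Nat.card A = 4) : w = 1 := by
  classical
  have hA := S.pu.le S.le
  have := hA.ea.fin
  have := Fintype.ofFinite A
  obtain ⟨z, z', h1, h2, h3⟩ : ∃ z z' : A, z ≠ 1 ∧ z' ≠ 1 ∧ z' ≠ z := by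
    obtain ⟨z, hz⟩ := Finset.exists_mem_notMem_of_card_lt_card (s := ({1} : Finset A)) (t := Finset.univ)
      (by rw [Finset.card_univ, ← Nat.card_eq_fintype_card, hc, Finset.card_singleton]; norm_num)
    obtain ⟨z', hz'⟩ := Finset.exists_mem_notMem_of_card_lt_card (s := ({1, z} : Finset A)) (t := Finset.univ)
      (lt_of_le_of_lt Finset.card_le_two (by rw [Finset.card_univ, ← Nat.card_eq_fintype_card, hc]; norm_num))
    simp only [Finset.mem_insert, Finset.mem_singleton, not_or] at hz hz'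
    exact ⟨z, z', hz.2, hz'.2.1, hz'.2.2⟩
  have h4 : z * z' ≠ 1 := fun h => h3 (mul_left_cancel (h.trans (Subtype.ext (hA.sq z.2)).symm))
  have h5 : ∀ a : A, a = 1 ∨ a = z ∨ a = z' ∨ a = z * z' := by
    have h6 : ({1, z, z', z * z'} : Finset A) = Finset.univ := by
      refine Finset.eq_univ_of_card _ ?_
      rw [← Nat.card_eq_fintype_card, hc, Finset.card_eq_four]
      exact ⟨1, z, z', z * z', h1.symm, h2.symm, h4.symm, h3.symm, fun h => h2 (left_eq_mul.1 h),
        fun h => h1 (right_eq_mul.1 h), rfl⟩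
    intro a
    have h7 := Finset.mem_univ a
    rw [← h6] at h7
    simpa only [Finset.mem_insert, Finset.mem_singleton] using h7
  have hz := S.tor z z.2
  have hz' := S.tor z' z'.2
  have hneg : ∀ b, rt' hp.isCartan b → wv hp.isCartan w b = -b →
      ch hp b (z : YY chevE8 p) ≠ 1 ∨ ch hp b (z' : YY chevE8 p) ≠ 1 := by
    intro b hb hwb
    obtain ⟨a, ha, h6⟩ := S.neg b hb hwb
    by_contra h7
    rw [not_or, not_not, not_not, ← cX_root hp cs₈ hz hb, ← cX_root hp cs₈ hz' hb] at h7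
    rw [← cX_root hp cs₈ (S.tor a ha) hb] at h6
    rcases h5 ⟨a, ha⟩ with h8 | h8 | h8 | h8 <;> refine h6 ?_ <;> rw [show a = _ from congrArg Subtype.val h8]
    · exact cX_one hp b
    · exact h7.1
    · exact h7.2
    · rw [Subgroup.coe_mul, cX_mul hp hz hz', h7.1, h7.2, mul_one]
  obtain ⟨f, hf⟩ := exists_sgn hp p (locFin p) hz (hA.sq z.2)
  obtain ⟨f', hf'⟩ := exists_sgn hp p (locFin p) hz' (hA.sq z'.2)
  refine (H387.KKL.P3 hp S.res f f'
    (sgn_eq hp p (locFin p) hA.ne S.rp hz (S.pu.ea.comm _ S.mem _ (S.le z.2)) hf)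
    (sgn_eq hp p (locFin p) hA.ne S.rp hz' (S.pu.ea.comm _ S.mem _ (S.le z'.2)) hf') fun b hb hwb => ?_).resolve_right
    fun h6 => ?_
  · refine (hneg b hb hwb).imp (fun h7 h0 => h7 ?_) fun h7 h0 => h7 ?_
    · rw [hf b hb, h0]
      rfl
    · rw [hf' b hb, h0]
      rfl
  · have ht : ∀ a : A, a ≠ 1 → trL chevE8 (a : YY chevE8 p) = -8 := fun a ha => hA.tr a.2 fun h => ha (Subtype.ext h)
    have ht' : ∀ a : A, trL chevE8 (n * (a : YY chevE8 p)) = -8 := fun a => S.pu.tr (mul_mem S.mem (S.le a.2)) (S.mul_ne a.2)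
    have h7 := H387.KKL.P4b hp p hA.ne h6 hz hz' (hA.sq z.2) (hA.sq z'.2) hneg (ht z h1) (ht z' h2)
      (by rw [← Subgroup.coe_mul]; exact ht _ h4)
    have h8 := H582.KKL.P4 hp p (locFin p) hA.ne S.rp h6 hz hz' (hA.sq z.2) (hA.sq z'.2) h7
    have h9 := ht' 1
    rw [Subgroup.coe_one, mul_one] at h9
    rw [h9, ht' z, ht' z', ← Subgroup.coe_mul, ht'] at h8
    exact hA.two (pow_eq_zero_iff (n := 5) (by norm_num) |>.1 (by linear_combination -h8))

/-- **A monomial involution without fixed roots.** -/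
theorem fx_ge (hfix : ∀ b ∈ Ps hp p (A : Set (YY chevE8 p)), rep cs₈ hp.isCartan w b ≠ b) {i j : Fin chevE8.rank}
    (hij : ((rep cs₈ hp.isCartan w (sr (f8 i)) (f8 j) + (sr (f8 i) : Fin 8 → ℤ) (f8 j) : ℤ) : KK p) ≠ 0) :
    finrank (KK p) (Fx p (A : Set (YY chevE8 p))) ≤ 2 * finrank (KK p) (Fx p (E : Set (YY chevE8 p))) + 6 := by
  classical
  have hZ : (A : Set (YY chevE8 p)) ⊆ TT chevE8 (KK p) := S.tor
  have hm := mono_of_rp hp p (locFin p) S.rp
  have hnn := S.pu.sq S.mem
  have hc : ∀ a ∈ A, n * a = a * n := fun a ha => S.pu.ea.comm _ S.mem _ (S.le ha)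
  choose σ hσ using fun s : Fin chevE8.nroots => (show ∃ s' : Fin chevE8.nroots,
    vec chevE8 8 s' = rep cs₈ hp.isCartan w (vec chevE8 8 s) from
      let ⟨r, hr, e⟩ := (isRoot_iff hp cs₈ _).1 ((isRoot_vec hp cs₈ s.2).act w); ⟨⟨r, hr⟩, e⟩)
  have hinj : ∀ s s' : Fin chevE8.nroots, vec chevE8 8 s = vec chevE8 8 s' → s = s' := fun s s' h =>
    Fin.ext (vec_inj hp s.2 s'.2 h)
  have hσσ : ∀ s, σ (σ s) = s := fun s => hinj _ _ (by
    rw [hσ, hσ, ← rep_mul_apply, S.res.sq, map_one, End.one_apply])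
  set R := Finset.univ.filter fun s : Fin chevE8.nroots => vec chevE8 8 s ∈ Ps hp p (A : Set (YY chevE8 p)) with hR
  set P := R.filter fun s => s < σ s with hP
  have h1 : R.card ≤ 2 * P.card := by
    have h2 : R ⊆ P ∪ P.image σ := by
      intro s hs
      have h3 := (Finset.mem_filter.1 hs).2
      rcases lt_trichotomy s (σ s) with h | h | h
      · exact Finset.mem_union_left _ (Finset.mem_filter.2 ⟨hs, h⟩)
      · exact absurd (by rw [← hσ, ← h]) (hfix _ h3)
      · refine Finset.mem_union_right _ (Finset.mem_image.2 ⟨σ s, Finset.mem_filter.2 ⟨Finset.mem_filter.2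
          ⟨Finset.mem_univ _, ?_⟩, by rw [hσσ]; exact h⟩, hσσ s⟩)
        rw [hσ, mem_Ps hZ]
        rw [mem_Ps hZ] at h3
        exact ⟨h3.1.act w, fun t ht => by rw [S.rp.cX_of_comm (hZ ht) (hc t ht), h3.2 t ht]⟩
    have h3 := (Finset.card_le_card h2).trans (Finset.card_union_le _ _)
    have h4 := Finset.card_image_le (s := P) (f := σ)
    omega
  let q : chevE8.Idx → Prop := Sum.elim (fun a => a = i) fun s => s ∈ P
  let U : Submodule (KK p) (chevE8.Idx → KK p) :=
    { carrier := {v | ∀ x, ¬ q x → v x = 0}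
      zero_mem' := fun _ _ => rfl
      add_mem' := fun {u v} hu hv x hx => by rw [Pi.add_apply, hu x hx, hv x hx, add_zero]
      smul_mem' := fun c v hv x hx => by rw [Pi.smul_apply, hv x hx, smul_zero] }
  have h2 : finrank (KK p) U = 1 + P.card := by
    rw [finrank_of_coord q U fun _ => Iff.rfl, card_sum_filter]
    congr 1
    · exact Finset.card_eq_one.2 ⟨i, Finset.ext fun a => by
        rw [Finset.mem_filter, Finset.mem_singleton]
        exact ⟨fun h => h.2, fun h => ⟨Finset.mem_univ _, h⟩⟩⟩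
    · exact congrArg Finset.card (Finset.ext fun s => by
        rw [Finset.mem_filter]
        exact ⟨fun h => h.2, fun h => ⟨Finset.mem_univ _, h⟩⟩)
  have h3 : ∀ v ∈ U, ∀ a ∈ A, ad chevE8 p a v = v := by
    intro v hv a ha
    funext x
    rw [ad_tor (hp := hp) (hZ ha)]
    by_cases hx : q x
    · rcases x with x | x
      · exact one_mul _
      · have h4 := ((mem_Ps hZ).1 (Finset.mem_filter.1 (Finset.mem_filter.1 hx).1).2).2 a ha
        rw [show wtc hp a (Sum.inr x) = 1 from h4, one_mul]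
    · rw [hv x hx, mul_zero]
  have h4 : ∀ v : U, ((1 + ad chevE8 p n) ∘ₗ U.subtype) v ∈ Fx p (E : Set (YY chevE8 p)) := by
    intro v y hy
    have h5 : ∀ a ∈ A, ad chevE8 p a (v + ad chevE8 p n v) = v + ad chevE8 p n v := fun a ha => by
      rw [map_add, ← ad_mul, ← hc a ha, ad_mul, h3 v v.2 a ha]
    show ad chevE8 p y (v + ad chevE8 p n v) = v + ad chevE8 p n v
    rcases S.cov y hy with h | h
    · exact h5 y h
    · rw [show y = n * (n * y) by rw [← mul_assoc, hnn, one_mul], ad_mul, h5 _ h, map_add, ← ad_mul, hnn, ad_one, add_comm]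
  have h5 : Function.Injective (LinearMap.codRestrict _ _ h4) := by
    rw [injective_iff_map_eq_zero]
    rintro ⟨v, hv⟩ h
    have h6 : ∀ x, v x + ∑ y, ((n : GL chevE8.Idx (KK p)) : Matrix chevE8.Idx chevE8.Idx (KK p)) x y * v y = 0 :=
      fun x => congrFun (congrArg Subtype.val h) x
    have h7 : ∀ s, v (Sum.inr s) = 0 := by
      intro s
      by_cases hs : s ∈ P
      · have h8 := h6 (Sum.inr s)
        rwa [Finset.sum_eq_zero, add_zero] at h8
        rintro (y | y) -
        · rw [hm.rl, zero_mul]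
        · by_cases hy : vec chevE8 8 s = rep cs₈ hp.isCartan w (vec chevE8 8 y)
          · rw [hv (Sum.inr y) fun hy' => ?_, mul_zero]
            have h9 : s = σ y := hinj _ _ (by rw [hσ, hy])
            have h10 := (Finset.mem_filter.1 hs).2
            rw [h9, hσσ] at h10
            exact lt_asymm h10 (Finset.mem_filter.1 hy').2
          · rw [hm.rr s y hy, zero_mul]
      · exact hv (Sum.inr s) hs
    have h8 : v (Sum.inl i) = 0 := by
      have h9 := h6 (Sum.inl j)
      rw [Finset.sum_eq_single (Sum.inl i), hm.ll] at h9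
      · refine (mul_eq_zero.1 ?_).resolve_left hij
        rw [Int.cast_add, add_mul, add_comm, ← h9]
        congr 1
        by_cases h10 : j = i
        · rw [h10, sr_self, Int.cast_one, one_mul]
        · rw [sr_ne fun h11 => h10 (f8_inj h11), Int.cast_zero, zero_mul, hv (Sum.inl j) h10]
      · rintro (y | y) - hy
        · rw [hv (Sum.inl y) fun h10 => hy (congrArg Sum.inl h10), mul_zero]
        · rw [h7, mul_zero]
      · exact fun h10 => absurd (Finset.mem_univ _) h10
    refine Subtype.ext (funext fun x => ?_)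
    rcases x with x | x
    · by_cases hx : x = i
      · rw [hx]
        exact h8
      · exact hv (Sum.inl x) hx
    · exact h7 x
  have h6 := LinearMap.finrank_le_finrank_of_injective h5
  rw [finrank_Fx hp hZ, ← hR]
  omega

theorem core8 (hc : Nat.card A = 8) (hE : Nat.card E = 16) : w = 1 := by
  classical
  have := finW hp
  have hA := S.pu.le S.le
  have := hA.ea.fin
  have := Fintype.ofFinite A
  have hZ : (A : Set (YY chevE8 p)) ⊆ TT chevE8 (KK p) := S.tor
  have h1 := hA.fx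
  have h2 := S.pu.fx
  rw [hc] at h1
  rw [hE] at h2
  choose f hf using fun a : A => exists_sgn hp p (locFin p) (S.tor a a.2) (hA.sq a.2)
  have hsg : ∀ x y : ZMod 2, (sg x : KK p) = sg y → x = y := fun x y h => by
    have h3 := sg_eq_one (k := KK p) hA.two x
    rw [h, sg_eq_one hA.two] at h3
    exact (by decide : ∀ x y : ZMod 2, (y = 0 ↔ x = 0) → x = y) x y h3
  have hz : ∀ (a : A) b, IsRoot cs₈ hp.isCartan b → (cX hp (a : YY chevE8 p) b = 1 ↔ f a b = 0) := fun a b hb => by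
    rw [cX_root hp cs₈ (S.tor a a.2) hb, hf a b hb, sg_eq_one hA.two]
  have hPs : ∀ b, b ∈ Ps hp p (A : Set (YY chevE8 p)) ↔ IsRoot cs₈ hp.isCartan b ∧ ∀ a, f a b = 0 := fun b => by
    rw [mem_Ps hZ]
    exact and_congr_right fun hb => ⟨fun h a => (hz a b hb).1 (h a a.2), fun h a ha => (hz ⟨a, ha⟩ b hb).2 (h _)⟩
  have h16 : (Finset.univ.filter fun s : Fin chevE8.nroots => ∀ a, f a (vec chevE8 8 s) = 0).card = 16 := by
    have h3 := finrank_Fx hp hZ
    rw [Finset.filter_congr (q := fun s : Fin chevE8.nroots => ∀ a, f a (vec chevE8 8 s) = 0) fun s _ => by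
      rw [hPs, and_iff_right (isRoot_vec hp cs₈ s.2)]] at h3
    omega
  have hadd : ∀ a b : A, ∃ c, f c = f a + f b := fun a b => ⟨a * b, by
    obtain ⟨F, hF⟩ := exists_hasM (f a + f b)
    refine HasM.ext ⟨hF.1, fun i => ?_⟩ hF
    rw [← hF.2]
    refine hsg _ _ ?_
    have h3 := isRoot_sr cs₈ hp.isCartan i
    rw [AddMonoidHom.add_apply, sg_add, ← hf _ _ h3, ← hf _ _ h3, ← hf _ _ h3, ← cX_sr, ← cX_sr, ← cX_sr,
      Subgroup.coe_mul, cX_mul hp (S.tor a a.2) (S.tor b b.2)]⟩
  have hinj : Function.Injective f := fun a b h => Subtype.ext (cX_inj hp (S.tor a a.2) (S.tor b b.2) fun i => by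
    have h3 := isRoot_sr cs₈ hp.isCartan i
    rw [cX_sr, cX_sr, hf _ _ h3, hf _ _ h3, h])
  have hS : ∀ a, f a ≠ 0 → Sing (f a) := by
    intro a ha
    have h3 := hA.dd a a.2 fun h => ha (by
      refine HasM.ext (F := 0) ⟨by norm_num, fun i => ?_⟩ ⟨by norm_num, fun i => by rw [Nat.zero_testBit]; rfl⟩
      rw [Nat.zero_testBit]
      exact (hz a _ (isRoot_sr cs₈ hp.isCartan i)).1 (by rw [h, cX_one]))
    rw [dd_tor hp (S.tor a a.2), Finset.filter_congr (q := fun s : Fin chevE8.nroots => f a (vec chevE8 8 s) = 0)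
      fun s _ => hz a _ (isRoot_vec hp cs₈ s.2)] at h3
    unfold Sing
    omega
  refine (key hp hadd hS (by rw [← Nat.card_eq_fintype_card, hc]) hinj h16 (fun a =>
    sgn_eq hp p (locFin p) hA.ne S.rp (S.tor a a.2) (S.pu.ea.comm _ S.mem _ (S.le a.2)) (hf a)) S.res
    fun b hb hwb => ?_).resolve_right fun h => ?_
  · obtain ⟨a, ha, h3⟩ := S.neg b hb hwb
    exact ⟨⟨a, ha⟩, fun h4 => h3 (by rw [← cX_root hp cs₈ (S.tor a ha) hb]; exact (hz ⟨a, ha⟩ b hb).2 h4)⟩
  by_cases h3 : ∃ i j, ((rep cs₈ hp.isCartan w (sr i) j + (sr i : Fin 8 → ℤ) j : ℤ) : KK p) ≠ 0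
  · obtain ⟨i, j, hij⟩ := h3
    have h4 := S.fx_ge (i := i) (j := j) (fun b hb => (h b ((hPs b).1 hb).1 ((hPs b).1 hb).2).1) hij
    omega
  · obtain ⟨s, hs⟩ := Finset.card_pos.1 (by rw [h16]; norm_num :
      0 < (Finset.univ.filter fun s : Fin chevE8.nroots => ∀ a, f a (vec chevE8 8 s) = 0).card)
    have hb := isRoot_vec hp cs₈ s.2
    have h4 := (h _ hb (Finset.mem_filter.1 hs).2).2
    generalize vec chevE8 8 s = b at hb h4
    have h5 := cpr_add cs₈ hp.isCartan (rep cs₈ hp.isCartan w b) b hb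
    rw [h4, cpr_self cs₈ hp.isCartan hb, cpr_sum hp _ hb] at h5
    have h6 : ∀ j, (((rep cs₈ hp.isCartan w b + b) j : ℤ) : KK p) = 0 := fun j => by
      have h7 := _root_.Cfsg.Agent.H582.KKL.rep_eq_sum hp 1 b j
      simp only [map_one, End.one_apply] at h7
      rw [Pi.add_apply, _root_.Cfsg.Agent.H582.KKL.rep_eq_sum hp, h7, ← Finset.sum_add_distrib, Int.cast_sum]
      exact Finset.sum_eq_zero fun i _ => by
        rw [← add_mul, Int.cast_mul, not_not.1 fun h8 => h3 ⟨i, j, h8⟩, zero_mul]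
    have h7 := congrArg (Int.cast : ℤ → KK p) h5
    rw [Int.cast_sum, Finset.sum_eq_zero fun j _ => by rw [Int.cast_mul, h6, zero_mul]] at h7
    exact hA.two (by exact_mod_cast h7.symm)

end Sh

theorem toral8 {E : Subgroup (YY chevE8 p)} (h : Pu E) (hc : Nat.card E = 8) : Toral p E := by
  obtain ⟨A, hA, h1⟩ := h.exists_le (n := 2) (by rw [hc]; norm_num)
  exact step KindE.isType8 h hA (by rw [hc, h1]; rfl) (P4.toral_of_card (h.le hA).ea (by rw [h1]; norm_num))
    fun _ _ _ _ _ h2 S => S.core4 (h2.trans h1)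

theorem toral16 {E : Subgroup (YY chevE8 p)} (h : Pu E) (hc : Nat.card E = 16) : Toral p E := by
  obtain ⟨A, hA, h1⟩ := h.exists_le (n := 3) (by rw [hc]; norm_num)
  exact step KindE.isType8 h hA (by rw [hc, h1]; rfl) (toral8 (h.le hA) h1)
    fun _ _ _ _ h3 h2 S => S.core8 (h2.trans h1) (h3.trans hc)

theorem boxP8 : BoxP8 := by
  intro p _ E h hd
  have H : Pu E := ⟨h, hd⟩
  rcases Nat.lt_or_ge (Nat.card E) 8 with h1 | h1
  · exact Or.inl (P4.toral_of_card h h1)
  rcases Nat.lt_or_ge (Nat.card E) 16 with h2 | h2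
  · obtain ⟨A, hA, h3⟩ := H.exists_le (n := 3) h1
    obtain ⟨c, hc⟩ := Subgroup.card_dvd_of_le hA
    rw [h3] at hc
    exact Or.inl (toral8 H (by omega))
  · obtain ⟨A, hA, h3⟩ := H.exists_le (n := 4) h2
    exact Or.inr ⟨A, hA, toral16 (H.le hA) h3, h3⟩

end Cfsg.Agent.DS.Nt.P8
end
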