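import Cfsg.Agent.DS.Ex.Rank
import Cfsg.Agent.DS.Sp.F24ATools_m3
import Cfsg.Agent.SolvableStructure.HallConverse
import Cfsg.Agent.DS.Nt.Inv
import Mathlib
import Cfsg.Agent.DS.Nt.JThree
import Cfsg.Agent.DS.Nt.P8
import Cfsg.Agent.ChevFast.E6
import Cfsg.Agent.ChevFast.E7
import Cfsg.Agent.ChevFast.E8
import Cfsg.Agent.FastGrp
import Cfsg.Agent.Prune
set_option linter.all false

section
prune_inst 0x7fbcfcf8afb8addfffff7e7faed8dffdf9f9dfffe6dffd4bffe0e7ff3bdfa3008fe5fba70de0d0fe1fd6e0bc18b87813f9ffeeffeb6bdc7ffffd5ff41ffbee1ff5f6b53c71ffbcbe1ffd6fff83f0778e7f3fffffffffffffffffffffffffffbeffffffffffff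

-- part: DS/Nt/Glue
section
prune_inst 0x4102005000400000000000502400020400200000000030000000008000480e40100000620809010000000000400300060000000004000000000000600411800a08080100000100c00200007000804000000000000000000000000000000000000000000000
set_option linter.all false
open scoped Cfsg.Agent.FastGrp

-- part: DS/NT/AC
section
/-!
# Non-toral local subgroups, lemmas (A) and (C) (helper98)

`lemC`: `PS (c + d) H` from `PS c` of the centralizer of `E` in `S` and `SD d (MulAut E)`.  `lemA`: `PS 9 H` if all the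
`H`-invariant subgroups of prime power order of `S` lie in an elementary abelian group of rank at most eight.
`sd_mulAut_of_LB`, `sd_mulAut_two`: bounds for `MulAut E`.
-/

set_option autoImplicit false

namespace Cfsg.Agent.DS.NT

open Cfsg.Agent.H936 Cfsg.Agent.DS.Red Cfsg.Agent.DS.Gen Cfsg.Agent.DS.Cl Subgroup Module

theorem SD.prod {k : ℕ} {X Z : Type*} [Group X] [Group Z] (h1 : SD k X) (h2 : SD k Z) : SD k (X × Z) := by
  intro Y hY
  rw [eq_bot_iff]
  intro y hy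
  rw [mem_bot]
  let f : Y →* X := (MonoidHom.fst X Z).comp Y.subtype
  let g : Y →* Z := (MonoidHom.snd X Z).comp Y.subtype
  have h3 : f.rangeRestrict y ∈ derivedSeries f.range k := map_derivedSeries_le _ k ⟨y, hy, rfl⟩
  have h4 : g.rangeRestrict y ∈ derivedSeries g.range k := map_derivedSeries_le _ k ⟨y, hy, rfl⟩
  rw [h1 _ (Group.isSolvable_of_surjective f.rangeRestrict_surjective), mem_bot] at h3
  rw [h2 _ (Group.isSolvable_of_surjective g.rangeRestrict_surjective), mem_bot] at h4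
  exact Subtype.ext (Prod.ext (congrArg Subtype.val h3) (congrArg Subtype.val h4))

theorem sd_of_bot {k : ℕ} {X : Type*} [Group X] (h : derivedSeries X k = ⊥) : SD k X := by
  intro Y _
  rw [← Subgroup.map_eq_bot_iff_of_injective _ Y.subtype_injective, eq_bot_iff, ← h]
  exact map_derivedSeries_le Y.subtype k

theorem sd_out (big : Big) {G : Type} [Group G] [Finite G] {S H : Subgroup G} (hs : Setup S H) [S.Normal] :
    SD 3 (G ⧸ S) := by
  have := hs.simple
  refine sd_of_bot ?_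
  rw [← map_derivedSeries_of_surj (QuotientGroup.mk'_surjective S) 3, Subgroup.map_eq_bot_iff, QuotientGroup.ker_mk']
  exact derivedSeries_le_of_ds hs.cent (big.sch S hs.noncomm)

/-- **Lemma (C).**  `E ≤ S` is any non-trivial proper `H`-invariant subgroup. -/
theorem lemC' (big : Big) {G : Type} [Group G] [Finite G] {S H E : Subgroup G} (hs : Setup S H) (hES : E ≤ S)
    (h0 : E ≠ ⊥) (h1 : E ≠ S) (hH : H ≤ normalizer (E : Set G)) {c d : ℕ} (hc : PS c ↥(centralizer (E : Set G) ⊓ S))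
    (hd : SD d (MulAut E)) (h3 : 3 ≤ d) : PS (c + d) H := by
  have := hs.normal
  have hN := normalizer_eq_of_setup hs hES h0 h1 hH
  let f : H →* MulAut E × (G ⧸ S) :=
    (E.normalizerMonoidHom.comp (inclusion hH)).prod ((QuotientGroup.mk' S).comp H.subtype)
  have hker : f.ker = (centralizer (E : Set G) ⊓ S).subgroupOf H := by
    ext x
    rw [MonoidHom.mem_ker, mem_subgroupOf, mem_inf, Prod.ext_iff]
    refine and_congr ?_ (QuotientGroup.eq_one_iff (x : G))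
    change inclusion hH x ∈ E.normalizerMonoidHom.ker ↔ _
    rw [normalizerMonoidHom_ker]
    rfl
  refine ps_ext' f ?_ (ps_of_sd (SD.of_inj f.range.subtype f.range.subtype_injective
    (SD.prod hd (SD.mono (sd_out big hs) h3))))
  rw [hker, ps_subgroupOf (inf_le_left.trans ((centralizer_le_normalizer _).trans hN.le))]
  exact hc

/-- **Lemma (C).** -/
theorem lemC (big : Big) {G : Type} [Group G] [Finite G] {S H E : Subgroup G} (hs : Setup S H) (hES : E ≤ S)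
    (h0 : E ≠ ⊥) (hE : ∀ x ∈ E, ∀ y ∈ E, x * y = y * x) (hH : H ≤ normalizer (E : Set G)) {c d : ℕ}
    (hc : PS c ↥(centralizer (E : Set G) ⊓ S)) (hd : SD d (MulAut E)) (h3 : 3 ≤ d) : PS (c + d) H := by
  refine lemC' big hs hES h0 (fun h => hs.noncomm ⟨⟨fun x y => Subtype.ext ?_⟩⟩) hH hc hd h3
  exact hE x (h ▸ x.2) y (h ▸ y.2)

theorem exists_rep_aux {X : Type} [CommGroup X] [Finite X] {r k : ℕ} [Fact r.Prime] [Module (ZMod r) (Additive X)]
    (hk : Nat.card X ≤ r ^ k) :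
    ∃ ρ : MulAut X →* Module.End (ZMod r) (Additive X), finrank (ZMod r) (Additive X) ≤ k ∧ Function.Injective ρ := by
  have hr : r.Prime := Fact.out
  refine ⟨{ toFun := fun f => (MulEquiv.toAdditive f).toAddMonoidHom.toZModLinearMap r
            map_one' := LinearMap.ext fun _ => rfl
            map_mul' := fun _ _ => LinearMap.ext fun _ => rfl }, ?_, fun f g h => ?_⟩
  · have : Module.Finite (ZMod r) (Additive X) := Module.Finite.of_finite
    have h1 := Module.natCard_eq_pow_finrank (K := ZMod r) (V := Additive X)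
    rw [Nat.card_zmod] at h1
    exact (Nat.pow_le_pow_iff_right hr.one_lt).1 (h1.symm.trans_le hk)
  · ext x
    exact congrArg Additive.toMul (LinearMap.congr_fun h (Additive.ofMul x))

/-- the automorphisms of an elementary abelian group as a faithful representation -/
theorem exists_rep {X : Type} [Group X] [Finite X] {r k : ℕ} [Fact r.Prime] (hc : ∀ x y : X, x * y = y * x)
    (hp : ∀ x : X, x ^ r = 1) (hk : Nat.card X ≤ r ^ k) :
    ∃ (V : Type) (_ : AddCommGroup V) (_ : Module (ZMod r) V) (_ : Finite V) (ρ : MulAut X →* Module.End (ZMod r) V),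
      finrank (ZMod r) V ≤ k ∧ Function.Injective ρ := by
  let i1 : CommGroup X := { (inferInstance : Group X) with mul_comm := hc }
  let i2 : Module (ZMod r) (Additive X) := AddCommGroup.zmodModule fun a => congrArg Additive.ofMul (hp a.toMul)
  exact ⟨Additive X, inferInstance, i2, inferInstance, @exists_rep_aux X i1 _ r k _ i2 hk⟩

theorem sd_mulAut_of {X : Type} [Group X] [Finite X] {r k d : ℕ} [Fact r.Prime] (hc : ∀ x y : X, x * y = y * x)
    (hp : ∀ x : X, x ^ r = 1) (hk : Nat.card X ≤ r ^ k)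
    (h : ∀ (V Y : Type) [AddCommGroup V] [Module (ZMod r) V] [Finite V] [Group Y] [Finite Y], Group.IsSolvable Y →
      ∀ ρ : Y →* Module.End (ZMod r) V, finrank (ZMod r) V ≤ k → ∀ y ∈ derivedSeries Y d, ρ y = 1) :
    SD d (MulAut X) := by
  obtain ⟨V, _, _, _, ρ, h1, h2⟩ := exists_rep hc hp hk
  intro Y hY
  rw [eq_bot_iff]
  intro y hy
  exact Subtype.ext (h2 ((h V Y hY (ρ.comp Y.subtype) h1 y hy).trans (map_one ρ).symm))

/-- composition series over a fixed field -/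
theorem flagK {N : ℕ} {τ : ℕ → ℕ} (hτ : Monotone τ) {K X : Type} [Field K] [Group X]
    (hI : ∀ (W : Type) [AddCommGroup W] [Module K W] [FiniteDimensional K W] (ρ : X →* Module.End K W), Lin.Irr ρ →
      1 ≤ finrank K W → finrank K W ≤ N → ∀ x ∈ derivedSeries X (τ (finrank K W)), ρ x = 1) (n : ℕ) :
    ∀ (V : Type) [AddCommGroup V] [Module K V] [FiniteDimensional K V] (ρ : X →* Module.End K V), finrank K V = n → n ≤ N →
      ∃ m t, 1 ≤ m ∧ m ≤ max n 1 ∧ t + m ≤ n + 1 ∧ Lin.Uni ρ (derivedSeries X (τ m)) t := by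
  induction n using Nat.strong_induction_on with
  | _ n ih =>
    intro V _ _ _ ρ hn hN
    rcases subsingleton_or_nontrivial V with hV | hV
    · refine ⟨1, 0, le_rfl, le_max_right _ _, by omega, fun _ => ⊤, rfl, Subsingleton.elim _ _, fun _ _ _ => le_rfl,
        fun _ _ _ _ _ => trivial⟩
    obtain ⟨W, h0, hW, hmin⟩ := Lin.exists_min (fun x => ρ x)
    have h1 : 1 ≤ finrank K W := Submodule.one_le_finrank_iff.2 h0
    have h2 : finrank K (V ⧸ W) + finrank K W = n := by rw [← hn]; exact W.finrank_quotient_add_finrank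
    obtain ⟨m, t, hm1, hm2, hm3, U, u0, ut, ua, hU⟩ := ih _ (by omega) (V ⧸ W) (Lin.quo ρ W hW) rfl (by omega)
    have h3 := hI W (Lin.res ρ W hW) (Lin.irr_res hW hmin) h1 (by omega)
    refine ⟨max m (finrank K W), t + 1, le_max_of_le_left hm1, by omega, by omega,
      fun j => if j ≤ t then (U j).comap W.mkQ else ⊥, ?_, ?_, ?_, ?_⟩
    · simp [u0]
    · simp
    · intro i j hij
      dsimp only
      split_ifs with h4 h5
      · exact Submodule.comap_mono (ua hij)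
      · omega
      · exact bot_le
      · exact le_rfl
    · intro j y hy v hv
      dsimp only at hv ⊢
      by_cases h4 : j + 1 ≤ t
      · rw [if_pos (by omega)] at hv
        rw [if_pos h4, Submodule.mem_comap, map_sub, ← Lin.quo_apply ρ W hW]
        exact hU j y (derivedSeries_antitone X (hτ (le_max_left _ _)) hy) _ hv
      rw [if_neg h4]
      by_cases h5 : j ≤ t
      · obtain rfl : j = t := by omega
        rw [if_pos h5, ut, Submodule.comap_bot, Submodule.ker_mkQ] at hv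
        have h6 := h3 y (derivedSeries_antitone X (hτ (le_max_right _ _)) hy)
        have h7 := Lin.res_apply ρ W hW y ⟨v, hv⟩
        rw [h6] at h7
        rw [Submodule.mem_bot, sub_eq_zero]
        exact h7.symm
      · rw [if_neg h5, Submodule.mem_bot] at hv
        rw [hv, map_zero, sub_zero, Submodule.mem_bot]

/-- irreducible modules over a prime field, from the table -/
theorem irr_tab {r : ℕ} [Fact r.Prime] {X W : Type} [Group X] [Finite X] (hX : Group.IsSolvable X) [AddCommGroup W]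
    [Module (ZMod r) W] [FiniteDimensional (ZMod r) W] (ρ : X →* Module.End (ZMod r) W) (hi : Lin.Irr ρ)
    (h1 : 1 ≤ finrank (ZMod r) W) {e : ℕ}
    (h : Ord.okT Ord.tabAL r (finrank (ZMod r) W) (Ord.glN r (finrank (ZMod r) W)) e = true) :
    ∀ x ∈ derivedSeries X e, ρ x = 1 := by
  have hr : r.Prime := Fact.out
  have : Finite W := Module.finite_of_finite (ZMod r)
  let _ : DistribMulAction X W := DistribMulAction.compHom W ρ
  have hirr : H511.Wt.Irr X W := by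
    refine ⟨Module.nontrivial_of_finrank_pos (R := ZMod r) h1, fun U hU => ?_⟩
    rcases hi (AddSubgroup.toZModSubmodule r U) hU with h2 | h2
    · exact Or.inl ((AddSubgroup.toZModSubmodule r).injective (h2.trans (OrderIso.map_bot _).symm))
    · exact Or.inr ((AddSubgroup.toZModSubmodule r).injective (h2.trans (OrderIso.map_top _).symm))
  have hc : Nat.card W = r ^ finrank (ZMod r) W := by
    rw [Module.natCard_eq_pow_finrank (K := ZMod r), Nat.card_zmod]
  have h2 := Ord.tabA_valid.dl X W hirr hr le_rfl hc (Ord.card_im_dvd_gl hirr hr hc) h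
  intro x hx
  exact LinearMap.ext (h2 x (by rwa [H511.Wt.dser_top]))

/-- `MulAut` of an elementary abelian group of small rank over a small prime, from the table -/
theorem sd_mulAut_tab {r k d : ℕ} (hr : r.Prime) (τ : ℕ → ℕ) (hτ : Monotone τ)
    (h1 : ∀ m ≤ k, 1 ≤ m → Ord.okT Ord.tabAL r m (Ord.glN r m) (τ m) = true)
    (h2 : ∀ m ≤ max k 1, 1 ≤ m → τ m ≤ d ∧ k + 1 - m ≤ 2 ^ (d - τ m)) {X : Type} [Group X] [Finite X]
    (hc : ∀ x y : X, x * y = y * x) (hp : ∀ x : X, x ^ r = 1) (hk : Nat.card X ≤ r ^ k) : SD d (MulAut X) := by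
  have : Fact r.Prime := ⟨hr⟩
  refine sd_mulAut_of hc hp hk fun V Y _ _ _ _ _ hY ρ hn y hy => ?_
  obtain ⟨m, t, h3, h4, h5, hU⟩ := flagK (N := k) hτ
    (fun W _ _ _ σ hσ h3 h4 => irr_tab hY σ hσ h3 (h1 _ h4 h3)) _ V ρ rfl hn
  obtain ⟨h6, h7⟩ := h2 m (by omega) h3
  refine hU.eq_one (c := d - τ m) (by omega) y ?_
  rwa [Nat.add_sub_cancel' h6]

/-- `GL₅(2)` -/
theorem sd_mulAut_two {X : Type} [Group X] [Finite X] (hc : ∀ x y : X, x * y = y * x) (hp : ∀ x : X, x ^ 2 = 1)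
    (hk : Nat.card X ≤ 2 ^ 5) : SD 4 (MulAut X) := by
  refine sd_mulAut_tab Nat.prime_two (fun m => if m ≤ 1 then 0 else if m ≤ 3 then 2 else 3) (fun a b hab => ?_)
    (by decide +kernel) (by decide) hc hp hk
  dsimp only
  split_ifs <;> omega

theorem sd_mulAut_two_sub {G : Type} [Group G] [Finite G] {E : Subgroup G} (hc : ∀ x ∈ E, ∀ y ∈ E, x * y = y * x)
    (hp : ∀ x ∈ E, x ^ 2 = 1) (hk : Nat.card E ≤ 2 ^ 5) : SD 4 (MulAut E) :=
  sd_mulAut_two (fun x y => Subtype.ext (hc x x.2 y y.2)) (fun x => Subtype.ext (hp x x.2)) hk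

theorem exists_odd_prime_ne {U : Type*} [Group U] [Finite U] [IsSimpleGroup U] (hU : ¬ IsMulCommutative U) (p : ℕ) :
    ∃ r : ℕ, r.Prime ∧ r ≠ p ∧ r ≠ 2 ∧ r ∣ Nat.card U := by
  by_contra hc
  push Not at hc
  refine hU ⟨⟨IsSimpleGroup.comm_iff_isSolvable.2
    (SolvableStructure.HallConverse.isSolvable_of_no_three_primes ?_)⟩⟩
  refine (Finset.card_le_card (t := {p, 2}) fun r hr => ?_).trans Finset.card_le_two
  rw [Finset.mem_insert, Finset.mem_singleton]
  by_contra h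
  push Not at h
  exact hc r (Nat.prime_of_mem_primeFactors hr) h.1 h.2 (Nat.dvd_of_mem_primeFactors hr)

/-- **Step A**, with the rank bound for odd primes only. -/
theorem stepA' (big : Big) {G : Type} [Group G] [Finite G] {S H : Subgroup G} (hs : Setup S H) (p : ℕ)
    (hrk : ∀ r : ℕ, r.Prime → r ≠ p → r ≠ 2 → RankLe S r 15)
    (hR : ∀ r : ℕ, r.Prime → ∀ R : Subgroup G, R ≠ ⊥ → R ≤ S → H ≤ normalizer (R : Set G) → IsPGroup r R →
      (∀ x ∈ R, ∀ y ∈ R, x * y = y * x) ∧ SD 8 (MulAut R)) : PS 9 H := by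
  have := hs.normal
  have := hs.simple
  refine ps_fit big (S.subgroupOf H) (a := 8) (c := 5) le_rfl (fun Y _ => ?_) (fun r hr R hRn hRS hRp => ?_)
    fun U _ _ _ hU k N hN f hf hker => ?_
  · refine (dS_anti Y (show 3 ≤ 8 by norm_num)).trans ((dS_mono le_top 3).trans ?_)
    rw [dS_top]
    intro x hx
    exact derivedSeries_le_of_ds hs.cent (big.sch S hs.noncomm) (map_derivedSeries_le H.subtype 3 ⟨x, hx, rfl⟩)
  · by_cases h0 : R = ⊥
    · subst h0
      refine ⟨fun x hx y _ => by rw [mem_bot.1 hx, one_mul, mul_one], fun Y _ y _ => ?_⟩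
      rw [mem_centralizer_iff]
      intro x hx
      rw [mem_bot.1 hx, one_mul, mul_one]
    obtain ⟨h1, h2⟩ := hR r hr (R.map H.subtype)
      (by rwa [Ne, Subgroup.map_eq_bot_iff_of_injective _ H.subtype_injective])
      (by rintro _ ⟨x, hx, rfl⟩; exact hRS hx)
      (le_normalizer_of_conj (by
        rintro g hg _ ⟨x, hx, rfl⟩
        exact ⟨_, hRn.conj_mem x hx ⟨g, hg⟩, rfl⟩)) (hRp.map _)
    refine ⟨fun x hx y hy => Subtype.ext (h1 _ ⟨x, hx, rfl⟩ _ ⟨y, hy, rfl⟩), fun Y hY => ?_⟩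
    have h3 : SD 8 (MulAut R) := SD.of_inj (MulAut.congr (R.equivMapOfInjective _ H.subtype_injective)).toMonoidHom
      (MulAut.congr _).injective h2
    have h4 : dS Y 8 ≤ (MulAut.conjNormal : H →* MulAut R).ker := by
      rw [← Subgroup.map_eq_bot_iff, dS_map, ← Cl.map_derivedSeries_eq,
        h3 _ (Group.isSolvable_of_surjective (MonoidHom.subgroupMap_surjective _ Y)), Subgroup.map_bot]
    intro y hy
    rw [mem_centralizer_iff]
    intro x hx
    have h5 : y * x * y⁻¹ = x :=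
      congrArg Subtype.val (DFunLike.congr_fun (MonoidHom.mem_ker.1 (h4 hy)) (⟨x, hx⟩ : R))
    rw [mul_inv_eq_iff_eq_mul] at h5
    exact h5.symm
  · obtain ⟨r, hr, hrp, hr2, hd⟩ := exists_odd_prime_ne hU p
    let g : N →* S := (H.subtype.comp N.subtype).codRestrict S fun x => hN x.2
    have hg : Function.Injective g := fun x y hxy =>
      Subtype.ext (Subtype.ext (congrArg (fun z : S => (z : G)) hxy))
    have h1 := le_of_rankLe (ps_zero_of_simple hU) hr hd f hf hker ((hrk r hr hrp hr2).of_inj g hg)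
    exact sd_perm_fifteen (by simpa using h1)

end Cfsg.Agent.DS.NT
end

-- part: DS/Nt/Glue
section
/-!
# S5881, exceptional groups, the non-toral local case: between `G` and `Y` (helper86)

* `im L E`, `pb L A` : the image in `Y` of a subgroup of `S`, the preimage in `S` of a subgroup of `Y`;
* `Ctx L H` : the hypotheses of the box; `Ctx.noL`, `Ctx.not_toral`, `min_inv`;
* `stepC` : the centraliser of `E` when a toral subgroup of `E` has no roots;
* `stepD` : the centraliser of `E` is abelian when `E` contains elements with a subgroup `J z`.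
-/

set_option autoImplicit false
set_option linter.unusedSectionVars false

namespace Cfsg.Agent.DS.Nt

open CoxeterSystem Cfsg Cfsg.Lie Cfsg.Lie.ChevalleyDatum
open Cfsg.Agent.ChevalleyStructure Cfsg.Agent.ChevalleyStructure.Elts Cfsg.Agent.ChevalleyStructure.CoxeterGeom
  Cfsg.Agent.ChevalleyStructure.CoxeterGeomTypes
open Cfsg.Agent.Tits.Roots Cfsg.Agent.Tits.Core Cfsg.Agent.Nodes Cfsg.Agent.Nodes.Reps Cfsg.Agent.Nodes.BNOf
  Cfsg.Agent.Nodes.RGDChev Cfsg.Agent.Nodes.Bruhat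
open Cfsg.Agent.KFacts.RgdField Cfsg.Agent.KFacts.RgdChevCoord
open Cfsg.Agent.BpExc Cfsg.Agent.BpExc.TorCent Cfsg.Agent.BpExc.TorChev Cfsg.Agent.BpExc.Tow
  Cfsg.Agent.BpExc.TowChev Cfsg.Agent.BpExc.Fr Cfsg.Agent.BpExc.LangFr
open Cfsg.Agent.H469.Exc Cfsg.Agent.H795.SetCent Cfsg.Agent.H129.TorusChar Cfsg.Agent.DS.Ex
open Cfsg.Agent.H185.EE Cfsg.Agent.H931.KC

variable {D : ChevalleyDatum} {l : ℕ} {M : CoxeterMatrix (Fin l)} {hp : IsType D l M} {p : ℕ} [Fact p.Prime]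
  {G : Type} [Group G] [Finite G] {S H E : Subgroup G} (L : Lift hp p S)

/-- the image in `Y` of a subgroup of `S` -/
noncomputable def im (E : Subgroup G) : Subgroup (YY D p) := (E.subgroupOf S).map L.ι

/-- the preimage in `S` of a subgroup of `Y` -/
noncomputable def pb (A : Subgroup (YY D p)) : Subgroup G := (A.comap L.ι).map S.subtype

variable {L}

theorem mem_im {y : YY D p} : y ∈ im L E ↔ ∃ x : S, (x : G) ∈ E ∧ L.ι x = y := Iff.rfl

theorem ι_mem_im {x : S} : L.ι x ∈ im L E ↔ (x : G) ∈ E :=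
  ⟨fun ⟨_, h1, h2⟩ => by rwa [← L.inj h2], fun h => ⟨x, h, rfl⟩⟩

theorem mem_pb {A : Subgroup (YY D p)} {x : G} : x ∈ pb L A ↔ ∃ h : x ∈ S, L.ι ⟨x, h⟩ ∈ A :=
  ⟨fun ⟨y, h1, h2⟩ => by
    subst h2
    exact ⟨y.2, h1⟩, fun ⟨h, h1⟩ => ⟨⟨x, h⟩, h1, rfl⟩⟩

theorem coe_mem_pb {A : Subgroup (YY D p)} {x : S} : (x : G) ∈ pb L A ↔ L.ι x ∈ A :=
  mem_pb.trans ⟨fun ⟨_, h⟩ => h, fun h => ⟨x.2, h⟩⟩

theorem pb_le (A : Subgroup (YY D p)) : pb L A ≤ S := fun _ hx => (mem_pb.1 hx).1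

theorem card_im (hE : E ≤ S) : Nat.card (im L E) = Nat.card E := by
  unfold im
  rw [Subgroup.card_map_of_injective L.inj]
  exact Nat.card_congr (Subgroup.subgroupOfEquivOfLe hE).toEquiv

theorem finite_im (L : Lift hp p S) (E : Subgroup G) : Finite (im L E) :=
  Finite.of_surjective (fun x : E.subgroupOf S => (⟨L.ι x, x, x.2, rfl⟩ : im L E)) (by
    rintro ⟨_, x, hx, rfl⟩
    exact ⟨⟨x, hx⟩, rfl⟩)

theorem im_ne_bot (hE : E ≤ S) (h0 : E ≠ ⊥) : im L E ≠ ⊥ := by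
  intro h
  refine h0 (eq_bot_iff.2 fun x hx => ?_)
  have h1 : L.ι ⟨x, hE hx⟩ ∈ im L E := ι_mem_im.2 hx
  rw [h, Subgroup.mem_bot, ← map_one L.ι] at h1
  exact Subgroup.mem_bot.2 (congrArg Subtype.val (L.inj h1))

theorem isPGroup_im {r : ℕ} (h : IsPGroup r E) : IsPGroup r (im L E) := by
  rintro ⟨_, x, hx, rfl⟩
  obtain ⟨n, hn⟩ := h ⟨x, hx⟩
  refine ⟨n, Subtype.ext ?_⟩
  show L.ι x ^ r ^ n = 1
  have h1 : (x : G) ^ r ^ n = 1 := congrArg Subtype.val hn
  rw [← map_pow, show x ^ r ^ n = 1 from Subtype.ext h1, map_one]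

theorem act' (hS : S.Normal) (φ : L.Γ) (x : S) :
    (φ : MulAut (YY D p)) (L.ι x) = L.ι ⟨L.π φ * x * (L.π φ)⁻¹, hS.conj_mem _ x.2 _⟩ := L.act φ x _ rfl

theorem inv_im (hS : S.Normal) (hH : H ≤ Subgroup.normalizer (E : Set G)) : L.Inv H (im L E) := by
  rintro φ hφ _ ⟨x, hx, rfl⟩
  rw [act' hS]
  exact ι_mem_im.2 ((Subgroup.mem_normalizer_iff.1 (hH hφ) x).1 hx)

theorem norm_pb (hS : S.Normal) {A : Subgroup (YY D p)} (hA : L.Inv H A) :
    H ≤ Subgroup.normalizer (pb L A : Set G) := by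
  refine Red.le_normalizer_of_conj fun g hg x hx => ?_
  obtain ⟨hx1, hx2⟩ := mem_pb.1 hx
  obtain ⟨φ, rfl⟩ := L.surj g
  have h1 := hA φ hg _ hx2
  rw [act' hS] at h1
  exact mem_pb.2 ⟨_, h1⟩

theorem min_inv {r : ℕ} (hL : Loc S H E r) {A : Subgroup (YY D p)} (hA : A ≤ im L E) (hI : L.Inv H A) :
    A = ⊥ ∨ A = im L E := by
  rcases hL.min (pb L A) (fun x hx => by
    obtain ⟨h1, h2⟩ := mem_pb.1 hx
    exact (ι_mem_im (x := ⟨x, h1⟩)).1 (hA h2)) (norm_pb hL.normal hI) with h | h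
  · refine Or.inl (eq_bot_iff.2 fun a ha => ?_)
    obtain ⟨x, -, rfl⟩ := hA ha
    have h1 : (x : G) ∈ pb L A := coe_mem_pb.2 ha
    rw [h, Subgroup.mem_bot] at h1
    rw [show x = 1 from Subtype.ext h1, map_one]
    exact one_mem _
  · refine Or.inr (le_antisymm hA ?_)
    rintro _ ⟨x, hx, rfl⟩
    exact coe_mem_pb.1 (h.ge hx)

theorem π_inv {φ : L.Γ} (h : L.π φ ∈ H) : L.π φ⁻¹ ∈ H := by
  rw [map_inv]
  exact inv_mem h

theorem app_inv (φ : L.Γ) (y : YY D p) : (φ : MulAut (YY D p)) (((φ⁻¹ : L.Γ) : MulAut (YY D p)) y) = y :=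
  MulAut.apply_inv_self _ _ _

theorem inv_app (φ : L.Γ) (y : YY D p) : ((φ⁻¹ : L.Γ) : MulAut (YY D p)) ((φ : MulAut (YY D p)) y) = y :=
  MulAut.inv_apply_self _ _ _

theorem comm_app (φ : L.Γ) {x y : YY D p}
    (h : x * ((φ⁻¹ : L.Γ) : MulAut (YY D p)) y = ((φ⁻¹ : L.Γ) : MulAut (YY D p)) y * x) :
    (φ : MulAut (YY D p)) x * y = y * (φ : MulAut (YY D p)) x := by
  have h1 := congrArg (φ : MulAut (YY D p)) h
  rwa [map_mul, map_mul, app_inv] at h1

theorem inv_closure {O : Set (YY D p)} (h : ∀ φ : L.Γ, L.π φ ∈ H → ∀ z ∈ O, (φ : MulAut (YY D p)) z ∈ O) :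
    L.Inv H (Subgroup.closure O) := by
  intro φ hφ a ha
  have h1 : Subgroup.closure O ≤ (Subgroup.closure O).comap (φ : MulAut (YY D p)).toMonoidHom :=
    (Subgroup.closure_le _).2 fun z hz => Subgroup.subset_closure (h φ hφ z hz)
  exact h1 ha

theorem inv_BB {A : Subgroup (YY D p)} (hA : L.Inv H A) (s : ℕ) : L.Inv H (BB A s) := by
  rintro φ hφ b ⟨h1, h2, h3⟩
  refine ⟨by rw [← map_pow, h1, map_one], fun e he => comm_app φ (h2 _ (hA φ⁻¹ (π_inv hφ) e he)), fun c hc hc' => ?_⟩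
  refine comm_app φ (h3 _ (by rw [← map_pow, hc, map_one]) fun e he => comm_app φ⁻¹ ?_)
  rw [inv_inv]
  exact hc' _ (hA φ hφ e he)

theorem rank_S (hD : Typ D) (L : Lift hp p S) {s : ℕ} (hs : s.Prime) (hsp : s ≠ p) (h2 : s ≠ 2) : NT.RankLe S s 15 := by
  have hW : ¬ s ^ (5 + 1) ∣ Nat.card M.Group := fun h =>
    Rank.not_pow_dvd (N := 696729600) hs [2, 3, 5, 7] Rank.pr_list 14 (by norm_num) (fun a ha e => by
      simp only [List.mem_cons, List.not_mem_nil, or_false] at ha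
      rcases ha with rfl | rfl | rfl | rfl
      · exact absurd e.symm h2
      · norm_num
      · norm_num
      · norm_num) (h.trans (card_W_dvd hp hD))
  have hl : l ≤ 8 := by
    have h := typ_l hp
    rcases hD with e | e | e | e
    · rw [h.1 e]; norm_num
    · rw [h.2.1 e]; norm_num
    · rw [h.2.2.1 e]; norm_num
    · rw [h.2.2.2 e]
  exact Rank.rankLe_mono hs.pos (NT.RankLe.of_inj L.ι L.inj
    (Rank.rank_alg hp (TorAll.hAlg_of_isAlgebraic p _) hs hsp hW)) (by omega)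

/-- the hypotheses of the box -/
structure Ctx (L : Lift hp p S) (H : Subgroup G) : Prop where
  typ : Typ D
  setup : Setup S H
  fr : ∃ g : (Fin l → ℤ) ≃+ (Fin l → ℤ), Fr M.toCoxeterSystem hp.isCartan (TT D (KK p)) (XX D l (KK p)) L.σ g
  noP : ∀ Q : Subgroup G, Q ≤ S → IsPGroup p Q → H ≤ Subgroup.normalizer (Q : Set G) → Q = ⊥
  noT : ∀ A₀ : Subgroup (YY D p), Toral p A₀ → L.Inv H A₀ → A₀ = ⊥

theorem exists_Lp' (p r : ℕ) : ∃ s, Lp p s ∧ r ≠ s := by
  by_cases h1 : p ≠ 11 ∧ r ≠ 11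
  · exact ⟨11, ⟨by norm_num, by norm_num, h1.1.symm⟩, h1.2⟩
  by_cases h2 : p ≠ 13 ∧ r ≠ 13
  · exact ⟨13, ⟨by norm_num, by norm_num, h2.1.symm⟩, h2.2⟩
  exact ⟨17, ⟨by norm_num, by norm_num, by omega⟩, by omega⟩

theorem Ctx.noL (C : Ctx L H) {A : Subgroup (YY D p)} (hA : L.Inv H A) {s : ℕ} (hs : Lp p s) : NoL p A s :=
  noL_of_BB (C.noT _ (toral_BB hp C.typ A hs) (inv_BB hA s))

theorem Ctx.not_toral (C : Ctx L H) {r : ℕ} (hL : Loc S H E r) : ¬ Toral p (im L E) := fun h =>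
  im_ne_bot hL.le_S hL.ne_bot (C.noT _ h (inv_im hL.normal hL.norm.ge))

theorem Ctx.iso' (C : Ctx L H) {r : ℕ} {A : Subgroup (YY D p)} (hI : L.Inv H A) (hA : EA p r A) {e : YY D p}
    (he : e ∈ A) (h1 : e ≠ 1) : ∃ i, hr D l i = r ∧ e ∈ Om hp p r i := by
  obtain ⟨s, hs, hrs⟩ := exists_Lp' p r
  exact iso_of_noL hp C.typ hA hs hrs (C.noL hI hs) he h1

theorem Ctx.iso (C : Ctx L H) {r : ℕ} (hL : Loc S H E r) (hE : EA p r (im L E)) {e : YY D p} (he : e ∈ im L E)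
    (h1 : e ≠ 1) : ∃ i, hr D l i = r ∧ e ∈ Om hp p r i :=
  C.iso' (inv_im hL.normal hL.norm.ge) hE he h1

theorem dd_app {r : ℕ} (h2 : D = chevF4 → p ≠ 2) {A : Subgroup (YY D p)} (hA : EA p r A) (φ : L.Γ) {e : YY D p}
    (he : e ∈ A) : dd p ((φ : MulAut (YY D p)) e) = dd p e := by
  obtain ⟨g, hg, -⟩ := hA.tp e he e he
  exact dd_sfr (L.sfr h2 φ φ.2) hg

/-! ### Step C -/

theorem ι_comm {c : S} (hc : (c : G) ∈ Subgroup.centralizer (E : Set G)) {e : YY D p} (he : e ∈ im L E) :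
    L.ι c * e = e * L.ι c := by
  obtain ⟨x, hx, rfl⟩ := he
  rw [← map_mul, ← map_mul]
  congr 1
  exact Subtype.ext (Subgroup.mem_centralizer_iff.1 hc x hx).symm

/-- **Step C.** -/
theorem stepC {r : ℕ} {A : Subgroup (YY D p)} (hA : EL p r A) (hAE : A ≤ im L E) (hT : Toral p A)
    (hF : Module.finrank (KK p) (Fx p (A : Set (YY D p))) = l) {c : ℕ} (hW : ¬ r ^ (2 ^ c + c) ∣ Nat.card M.Group) :
    derivedSeries ↥(Subgroup.centralizer (E : Set G) ⊓ S) (c + 1) = ⊥ := by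
  have := finW hp
  obtain ⟨P, f, hP, hf⟩ := exists_hom_W hp hA hT hF
  let j : ↥(Subgroup.centralizer (E : Set G) ⊓ S) →* Subgroup.centralizer (A : Set (YY D p)) :=
    (L.ι.comp (Subgroup.inclusion inf_le_right)).codRestrict _ fun x =>
      Subgroup.mem_centralizer_iff.2 fun a ha => by
        have h1 : ((Subgroup.inclusion inf_le_right x : S) : G) ∈ Subgroup.centralizer (E : Set G) := x.2.1
        exact (ι_comm (L := L) h1 (hAE ha)).symm
  have hj : Function.Injective j := fun x y h =>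
    Subgroup.inclusion_injective inf_le_right (L.inj (congrArg Subtype.val h))
  exact derivedSeries_bot_of_hom (f.comp j) (derivedSeries_pgroup hA.prime hP hW) fun x y hx hy =>
    hj (by rw [map_mul, map_mul]; exact hf _ _ hx hy)

/-! ### Step D -/

theorem comm_of_dec {X : Type*} [Group X] {c c' e e' : X} {K : Subgroup X} (h1 : c * e ∈ K) (h2 : c' * e' ∈ K)
    (h3 : c * e' = e' * c) (h4 : c' * e = e * c') (h5 : c' * e' = e' * c') (h6 : e * e' = e' * e) :
    c * c' * c⁻¹ * c'⁻¹ ∈ K := by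
  have a1 : Commute c e' := h3
  have a2 : Commute c' e := h4
  have a3 : Commute c' e' := h5
  have a4 : Commute e e' := h6
  have e1 : (c * e) * (c' * e') = c * c' * (e * e') := by
    rw [mul_assoc, ← mul_assoc e, ← a2.eq]
    group
  have e2 : (c' * e') * (c * e) = c' * c * (e * e') := by
    rw [mul_assoc, ← mul_assoc e', ← a1.eq, a4.eq]
    group
  have e3 : c * c' * c⁻¹ * c'⁻¹ = ((c * e) * (c' * e')) * ((c' * e') * (c * e))⁻¹ := by
    rw [e1, e2]
    group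
  rw [e3]
  exact mul_mem (mul_mem h1 h2) (inv_mem (mul_mem h2 h1))

/-- the output of Step D; `Ω` is the set of the elements `z` of `im L E` with `dd p z = d` -/
structure DOut (L : Lift hp p S) (E : Subgroup G) (r d : ℕ) (J : YY D p → Subgroup (YY D p)) : Prop where
  comm : ∀ x ∈ Subgroup.centralizer (E : Set G) ⊓ S, ∀ y ∈ Subgroup.centralizer (E : Set G) ⊓ S, x * y = y * x
  pow : ∀ x ∈ Subgroup.centralizer (E : Set G) ⊓ S, x ^ r = 1
  clo : Subgroup.closure {z | z ∈ im L E ∧ dd p z = d} = im L E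
  idx : ∀ z ∈ im L E, dd p z = d → (Subgroup.centralizer (J z : Set (YY D p))).relIndex (im L E) = r ^ 2
  dec : ∀ z ∈ im L E, dd p z = d → ∀ c : YY D p, (∀ e ∈ im L E, c * e = e * c) →
    ∃ e ∈ im L E, c * e ∈ Subgroup.centralizer (J z : Set (YY D p))
  ker : ∀ x : S, (∀ e ∈ im L E, e * L.ι x = L.ι x * e) →
    (∀ z ∈ im L E, dd p z = d → L.ι x ∈ Subgroup.centralizer (J z : Set (YY D p))) → x = 1

/-- **Step D.** -/
theorem stepD (C : Ctx L H) {r : ℕ} (hL : Loc S H E r) (hE : EA p r (im L E)) (h2 : D = chevF4 → p ≠ 2) {i : Fin l}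
    {J : YY D p → Subgroup (YY D p)} (hJ : JS hp p r i J) {d : ℕ}
    (hd : ∀ e ∈ im L E, e ∈ Om hp p r i ↔ dd p e = d) (hne : ∃ e ∈ im L E, dd p e = d) : DOut L E r d J := by
  have hS := hL.normal
  have hI : L.Inv H (im L E) := inv_im hS hL.norm.ge
  obtain ⟨s, hs, -⟩ := exists_Lp' p r
  have hN := C.noL hI hs
  have hO : ∀ φ : L.Γ, L.π φ ∈ H → ∀ z, z ∈ im L E ∧ dd p z = d →
      (φ : MulAut (YY D p)) z ∈ im L E ∧ dd p ((φ : MulAut (YY D p)) z) = d :=
    fun φ hφ z hz => ⟨hI φ hφ z hz.1, by rw [dd_app h2 hE φ hz.1, hz.2]⟩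
  have hcl : ∀ O : Set (YY D p), (∀ z ∈ O, z ∈ im L E ∧ dd p z = d) → O.Nonempty →
      (∀ φ : L.Γ, L.π φ ∈ H → ∀ z ∈ O, (φ : MulAut (YY D p)) z ∈ O) → Subgroup.closure O = im L E := by
    rintro O h1 ⟨z, hz⟩ h3
    refine (min_inv hL ((Subgroup.closure_le _).2 fun y hy => (h1 y hy).1) (inv_closure h3)).resolve_left fun h4 => ?_
    have h5 : z ∈ Subgroup.closure O := Subgroup.subset_closure hz
    rw [h4, Subgroup.mem_bot] at h5
    have h6 := (hd z (h1 z hz).1).2 (h1 z hz).2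
    rw [h5] at h6
    exact one_not_mem_Om hE.prime h6
  have hcen : ∀ φ : L.Γ, L.π φ ∈ H → ∀ z, z ∈ im L E ∧ dd p z = d → ∀ c : YY D p,
      c ∈ Subgroup.centralizer (J (((φ⁻¹ : L.Γ) : MulAut (YY D p)) z) : Set (YY D p)) →
      (φ : MulAut (YY D p)) c ∈ Subgroup.centralizer (J z : Set (YY D p)) := by
    intro φ hφ z hz c hc
    refine Subgroup.mem_centralizer_iff.2 fun j hj => (comm_app φ ?_).symm
    have h3 := hO φ⁻¹ (π_inv hφ) z hz
    exact (Subgroup.mem_centralizer_iff.1 hc _ (hJ.inv _ (L.sfr h2 _ (φ⁻¹).2) z ((hd z hz.1).2 hz.2)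
      ((hd _ h3.1).2 h3.2) j hj)).symm
  -- `E` does not centralise `J z`
  have hnc : ∀ z ∈ im L E, dd p z = d → ¬ im L E ≤ Subgroup.centralizer (J z : Set (YY D p)) := by
    intro z hz hz' h3
    have h4 := hcl {z | (z ∈ im L E ∧ dd p z = d) ∧ im L E ≤ Subgroup.centralizer (J z : Set (YY D p))}
      (fun y hy => hy.1) ⟨z, ⟨hz, hz'⟩, h3⟩ fun φ hφ y hy => ⟨hO φ hφ y hy.1, fun e he => by
        rw [← app_inv φ e]
        refine hcen φ hφ _ (hO φ hφ y hy.1) _ ?_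
        rw [inv_app]
        exact hy.2 (hI φ⁻¹ (π_inv hφ) e he)⟩
    refine C.not_toral hL (toral_of_gen hp hE.el h4 fun y hy K hK => ?_)
    have h5 := (hd y hy.1.1).2 hy.1.2
    exact hJ.gen y h5 K (fun u hu hu' => hK u (fun e he => Subgroup.mem_centralizer_iff.1 (hy.2 he) u hu) hu')
      (hJ.mem y h5)
  have hdi := fun z hz hz' => hJ.dich s hs _ hE hN z hz ((hd z hz).2 hz') (hnc z hz hz')
  -- the kernel
  let K : Subgroup (YY D p) := Subgroup.centralizer (im L E : Set (YY D p)) ⊓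
    ⨅ z : {z // z ∈ im L E ∧ dd p z = d}, Subgroup.centralizer (J z : Set (YY D p))
  have hK : ∀ c, c ∈ K ↔ (∀ e ∈ im L E, e * c = c * e) ∧
      ∀ z ∈ im L E, dd p z = d → c ∈ Subgroup.centralizer (J z : Set (YY D p)) := fun c => by
    rw [Subgroup.mem_inf, Subgroup.mem_iInf]
    exact and_congr Iff.rfl ⟨fun h z hz hz' => h ⟨z, hz, hz'⟩, fun h z => h z z.2.1 z.2.2⟩
  have hKI : L.Inv H K := fun φ hφ c hc => by
    rw [hK] at hc ⊢
    refine ⟨fun e he => (comm_app φ (hc.1 _ (hI φ⁻¹ (π_inv hφ) e he)).symm).symm, fun z hz hz' => ?_⟩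
    have h3 := hO φ⁻¹ (π_inv hφ) z ⟨hz, hz'⟩
    exact hcen φ hφ z ⟨hz, hz'⟩ c (hc.2 _ h3.1 h3.2)
  have hK0 : pb L K = ⊥ := by
    by_contra h0
    have hKS : pb L K ≠ S := fun h => hL.ne_bot (eq_bot_iff.2 fun x hx => by
      rw [← hL.cent]
      refine Subgroup.mem_centralizer_iff.2 fun y hy => ?_
      have h3 := ((hK _).1 ((coe_mem_pb (x := ⟨y, hy⟩)).1 (h.ge hy))).1 _ ((ι_mem_im (x := ⟨x, hL.le_S hx⟩)).2 hx)
      rw [← map_mul, ← map_mul] at h3
      exact (congrArg Subtype.val (L.inj h3)).symm)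
    have hNK := Gen.normalizer_eq_of_setup hL.toSetup (pb_le K) h0 hKS (norm_pb hS hKI)
    obtain ⟨z, hz, hz'⟩ := hne
    have hzO := (hd z hz).2 hz'
    obtain ⟨g, hg⟩ := C.fr
    obtain ⟨u, huJ, hu, ⟨n, hn⟩, huc⟩ := hJ.fix L.σ L.e g L.he L.frob hg z hzO (by
      obtain ⟨x, -, rfl⟩ := hz
      exact L.fix x)
    obtain ⟨v, rfl⟩ := L.pel u hu ⟨n, hn⟩
    have hv : (v : G) ∈ H := by
      rw [← hNK]
      refine Subgroup.centralizer_le_normalizer _ (Subgroup.mem_centralizer_iff.2 fun x hx => ?_)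
      obtain ⟨hx1, hx2⟩ := mem_pb.1 hx
      have h3 := Subgroup.mem_centralizer_iff.1 (((hK _).1 hx2).2 z hz hz') _ huJ
      rw [← map_mul, ← map_mul] at h3
      exact (congrArg Subtype.val (L.inj h3)).symm
    obtain ⟨d1, d2, -⟩ := hdi z hz hz'
    have hco : Nat.Coprime (p ^ n) r :=
      Nat.Coprime.pow_left n ((Nat.coprime_primes Fact.out hE.prime).2 hE.ne.symm)
    have huE : ∀ e ∈ im L E, L.ι v * e = e * L.ι v := by
      intro e he
      have h3 : L.ι v * e * (L.ι v)⁻¹ ∈ im L E := by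
        obtain ⟨x, hx, rfl⟩ := he
        rw [← map_inv, ← map_mul, ← map_mul]
        exact ι_mem_im.2 ((Subgroup.mem_normalizer_iff.1 (hL.norm.ge hv) x).1 hx)
      have e1 : MulAut.conj e z = z := by
        rw [MulAut.conj_apply, hE.comm e he z hz, mul_inv_cancel_right]
      have h4 : e * (L.ι v)⁻¹ * e⁻¹ ∈ J z := by
        have h5 := hJ.inv (MulAut.conj e) (sfr_conj hp e) z hzO (by rwa [e1]) _ (inv_mem huJ)
        rwa [e1] at h5
      obtain ⟨k, hk⟩ : ∃ k, k = L.ι v * e * (L.ι v)⁻¹ * e⁻¹ := ⟨_, rfl⟩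
      have h5 : k ∈ im L E := hk ▸ mul_mem h3 (inv_mem he)
      have h6 : k ∈ J z := by
        rw [hk, mul_assoc, mul_assoc, ← mul_assoc e]
        exact mul_mem huJ h4
      have h7 : Commute (L.ι v) k := Subgroup.mem_centralizer_iff.1 (d2 k h5 h6) _ huJ
      have h8 : ∀ j : ℕ, L.ι v ^ j * e = k ^ j * e * L.ι v ^ j := by
        intro j
        induction j with
        | zero => rw [pow_zero, pow_zero, one_mul, mul_one]
        | succ j ih =>
          have e2 : L.ι v * e = k * e * L.ι v := by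
            rw [hk]
            group
          rw [pow_succ', mul_assoc, ih, ← mul_assoc, ← mul_assoc, (h7.pow_right j).eq, mul_assoc (k ^ j), e2, pow_succ]
          group
      have h9 := h8 (p ^ n)
      rw [hn, one_mul, mul_one] at h9
      have h10 : k ∈ (⊥ : Subgroup (YY D p)) := mem_of_pow_coprime (a := p ^ n) (b := r)
        (Subgroup.mem_bot.2 (mul_right_cancel (h9.symm.trans (one_mul e).symm))) (Subgroup.mem_bot.2 (hE.pow k h5)) hco
      rw [Subgroup.mem_bot, hk, mul_inv_eq_one, mul_inv_eq_iff_eq_mul] at h10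
      exact h10
    obtain ⟨e, he, h3⟩ := d1 _ huE
    refine huc (mem_of_pow_coprime (a := p ^ n) (b := r) (by rw [hn]; exact one_mem _) ?_ hco)
    have h4 := pow_mem h3 r
    rwa [(show Commute _ _ from huE e he).mul_pow, hE.pow e he, mul_one] at h4
  have hK1 : ∀ x : S, L.ι x ∈ K → x = 1 := fun x hx => by
    have h3 := coe_mem_pb.2 hx
    rw [hK0, Subgroup.mem_bot] at h3
    exact Subtype.ext h3
  refine ⟨fun x hx y hy => ?_, fun x hx => ?_, hcl _ (fun _ h => h) hne hO, fun z hz hz' => (hdi z hz hz').2.2,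
    fun z hz hz' => (hdi z hz hz').1, fun x h3 h4 => hK1 x ((hK _).2 ⟨h3, h4⟩)⟩
  · have hx' := fun e he => ι_comm (L := L) (c := ⟨x, hx.2⟩) hx.1 (e := e) he
    have hy' := fun e he => ι_comm (L := L) (c := ⟨y, hy.2⟩) hy.1 (e := e) he
    have h3 := hK1 (⟨x, hx.2⟩ * ⟨y, hy.2⟩ * ⟨x, hx.2⟩⁻¹ * ⟨y, hy.2⟩⁻¹) (by
      rw [map_mul, map_mul, map_mul, map_inv, map_inv, hK]
      refine ⟨fun e he => ?_, fun z hz hz' => ?_⟩
      · have a1 : Commute e _ := (hx' e he).symm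
        have a2 : Commute e _ := (hy' e he).symm
        exact ((a1.mul_right a2).mul_right a1.inv_right).mul_right a2.inv_right
      · obtain ⟨e, he, a1⟩ := (hdi z hz hz').1 _ hx'
        obtain ⟨e', he', a2⟩ := (hdi z hz hz').1 _ hy'
        exact comm_of_dec a1 a2 (hx' e' he') (hy' e he) (hy' e' he') (hE.comm e he e' he'))
    rw [mul_inv_eq_one, mul_inv_eq_iff_eq_mul] at h3
    exact congrArg Subtype.val h3
  · have hx' := fun e he => ι_comm (L := L) (c := ⟨x, hx.2⟩) hx.1 (e := e) he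
    have h3 := hK1 (⟨x, hx.2⟩ ^ r) (by
      rw [map_pow, hK]
      refine ⟨fun e he => (show Commute e _ from (hx' e he).symm).pow_right r, fun z hz hz' => ?_⟩
      obtain ⟨e, he, a1⟩ := (hdi z hz hz').1 _ hx'
      have a2 := pow_mem a1 r
      rwa [(show Commute _ _ from hx' e he).mul_pow, hE.pow e he, mul_one] at a2)
    exact congrArg Subtype.val h3

theorem DOut.rad {r d : ℕ} {J : YY D p → Subgroup (YY D p)} (h : DOut L E r d J) (hE : EA p r (im L E)) :
    ∀ x ∈ im L E, (∀ z ∈ im L E, dd p z = d → x ∈ Subgroup.centralizer (J z : Set (YY D p))) → x = 1 := by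
  rintro _ ⟨x, hx, rfl⟩ h3
  rw [h.ker x (fun e he => hE.comm e he _ ⟨x, hx, rfl⟩) h3, map_one]

end Cfsg.Agent.DS.Nt
end
end

-- part: DS/Nt/Box
section
prune_inst 0x50000100000000000010200000200000009200080000008000420000020000008000002000000000000000000000001000000000000000000000000000001000000000240000000000800000000000000000000000000000000000000000000000000
set_option linter.all false
open scoped Cfsg.Agent.FastGrp

-- part: DS/NT/JLin
section
/-!
# Non-toral local subgroups, the `J`-geometry: linear algebra (helper98)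

`V` is a vector space, `Ω` a set of non-zero vectors, `P z` a subspace of codimension two for `z ∈ Ω`.  The axioms
`JG` force `V` to be a direct sum of three-dimensional blocks.
-/

set_option autoImplicit false

namespace Cfsg.Agent.DS.NT

open Module Submodule

variable {K V : Type*} [Field K] [AddCommGroup V] [Module K V]

/-- the axioms of the `J`-geometry -/
structure JG (Ω : Set V) (P : V → Submodule K V) : Prop where
  ne : ∀ z ∈ Ω, z ≠ 0
  self : ∀ z ∈ Ω, z ∈ P z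
  smul : ∀ z ∈ Ω, ∀ a : K, a ≠ 0 → a • z ∈ Ω ∧ P (a • z) = P z
  dim : ∀ z ∈ Ω, finrank K (P z) + 2 = finrank K V
  gen : ∀ z ∈ Ω, span K Ω ⊔ P z = ⊤
  symm : ∀ z ∈ Ω, ∀ z' ∈ Ω, z' ∈ P z → z ∈ P z'
  add : ∀ z ∈ Ω, ∀ x ∈ Ω, x ∉ P z → ∀ a : K, x + a • z ∈ Ω
  edge : ∀ z ∈ Ω, ∀ z' ∈ Ω, z' ∉ P z → ∀ x ∈ P z, ∃ a : K, x - a • z ∈ P z'
  rad : ∀ x, (∀ z ∈ Ω, x ∈ P z) → x = 0

/-- a block `B` with its complement `W` -/
structure Blk (Ω : Set V) (P : V → Submodule K V) (B W : Submodule K V) : Prop where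
  dim : finrank K B = 3
  compl : IsCompl B W
  mem : ∀ u ∈ B, u ≠ 0 → u ∈ Ω
  perp : ∀ u ∈ B, u ≠ 0 → P u = W ⊔ span K {u}

theorem Blk.zero {Ω : Set V} {P : V → Submodule K V} {B W : Submodule K V} (h : Blk Ω P B W) {x : V} (hB : x ∈ B)
    (hW : x ∈ W) : x = 0 := (Submodule.disjoint_def.1 h.compl.disjoint) x hB hW

theorem Blk.le {Ω : Set V} {P : V → Submodule K V} {B W : Submodule K V} (h : Blk Ω P B W) {u : V} (hu : u ∈ B)
    (h0 : u ≠ 0) : W ≤ P u := by
  rw [h.perp u hu h0]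
  exact le_sup_left

theorem Blk.mem_perp {Ω : Set V} {P : V → Submodule K V} {B W : Submodule K V} (h : Blk Ω P B W) {u x : V}
    (hu : u ∈ B) (h0 : u ≠ 0) (hx : x ∈ P u) : ∃ a : K, x - a • u ∈ W := by
  rw [h.perp u hu h0, mem_sup] at hx
  obtain ⟨y, hy, _, hz, rfl⟩ := hx
  obtain ⟨a, rfl⟩ := mem_span_singleton.1 hz
  exact ⟨a, by rwa [add_sub_cancel_right]⟩

theorem exists_not_mem_of_finrank_lt [FiniteDimensional K V] {S T : Submodule K V} (h : finrank K S < finrank K T) :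
    ∃ x ∈ T, x ∉ S := by
  by_contra hc
  push Not at hc
  exact absurd (Submodule.finrank_mono (show T ≤ S from hc)) (by omega)

namespace JG

variable [FiniteDimensional K V] {Ω : Set V} {P : V → Submodule K V} (h : JG Ω P)
include h

omit [FiniteDimensional K V] in
theorem not_mem {z z' : V} (hz : z ∈ Ω) (hz' : z' ∈ Ω) (hn : z' ∉ P z) : z ∉ P z' := fun hm => hn (h.symm _ hz' _ hz hm)

theorem exists_not_mem {z : V} (hz : z ∈ Ω) (x : V) : ∃ e ∈ Ω, e ∉ P z ⊔ span K {x} := by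
  by_contra hc
  push Not at hc
  have h1 : P z ⊔ span K {x} = ⊤ := by
    rw [eq_top_iff, ← h.gen z hz]
    exact sup_le (span_le.2 hc) le_sup_left
  have h2 := finrank_sup_add_finrank_inf_eq (P z) (span K {x})
  have h3 : finrank K (span K {x}) ≤ 1 := by simpa using finrank_span_le_card (R := K) ({x} : Set V)
  have h4 := h.dim z hz
  rw [h1, finrank_top] at h2
  omega

section edge

variable {z z' : V} (hz : z ∈ Ω) (hz' : z' ∈ Ω) (hn : z' ∉ P z)
include hz hz' hn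

omit [FiniteDimensional K V] in
theorem line (a b : K) (h0 : a • z + b • z' ≠ 0) : a • z + b • z' ∈ Ω ∧ P (a • z + b • z') ≤ P z ⊔ span K {z'} := by
  by_cases hb : b = 0
  · subst hb
    rw [zero_smul, add_zero] at h0 ⊢
    have ha : a ≠ 0 := by rintro rfl; exact h0 (zero_smul _ _)
    exact ⟨(h.smul z hz a ha).1, by rw [(h.smul z hz a ha).2]; exact le_sup_left⟩
  have h1 : b • z' ∉ P z := fun hm => hn ((smul_mem_iff _ hb).1 hm)
  have h2 : a • z + b • z' ∈ Ω := by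
    rw [add_comm]
    exact h.add z hz _ (h.smul z' hz' b hb).1 h1 a
  have h3 : a • z + b • z' ∉ P z := fun hm => h1 ((Submodule.add_mem_iff_right _ (smul_mem _ a (h.self z hz))).1 hm)
  refine ⟨h2, fun x hx => ?_⟩
  obtain ⟨c, hc⟩ := h.edge _ h2 z hz (h.not_mem hz h2 h3) x hx
  have e : x = (x - c • (a • z + b • z') + (c * a) • z) + (c * b) • z' := by module
  rw [e]
  exact add_mem_sup (add_mem hc (smul_mem _ _ (h.self z hz))) (smul_mem _ _ (mem_span_singleton_self z'))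

omit [FiniteDimensional K V] in
theorem line_not_mem {e : V} (he : e ∈ Ω) (hen : e ∉ P z ⊔ span K {z'}) (a b : K) (h0 : a • z + b • z' ≠ 0) :
    a • z + b • z' ∉ P e := fun hm =>
  hen ((h.line hz hz' hn a b h0).2 (h.symm e he _ (h.line hz hz' hn a b h0).1 hm))

omit [FiniteDimensional K V] in
theorem inf_le_out {e : V} (he : e ∈ Ω) (hen : e ∉ P z ⊔ span K {z'}) : P z ⊓ P z' ≤ P e := by
  intro x hx
  have h1 : e ∉ P z := fun hm => hen (mem_sup_left hm)
  have h2 : e ∉ P z' := by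
    have h3 := (h.line hz hz' hn 0 1 (by simpa using h.ne z' hz')).2
    rw [zero_smul, one_smul, zero_add] at h3
    exact fun hm => hen (h3 hm)
  obtain ⟨a, ha⟩ := h.edge z hz e he h1 x hx.1
  obtain ⟨b, hb⟩ := h.edge z' hz' e he h2 x hx.2
  have h3 : (-a) • z + b • z' = 0 := by
    by_contra h0
    refine h.line_not_mem hz hz' hn he hen _ _ h0 ?_
    have e : (-a) • z + b • z' = (x - a • z) - (x - b • z') := by module
    rw [e]
    exact sub_mem ha hb
  have h4 : b = 0 := by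
    by_contra hb0
    refine hn ((smul_mem_iff _ hb0).1 ?_)
    rw [eq_neg_of_add_eq_zero_right h3]
    exact neg_mem (smul_mem _ _ (h.self z hz))
  rwa [h4, zero_smul, sub_zero] at hb

omit [FiniteDimensional K V] in
theorem inf_le_in {e : V} (he : e ∈ Ω) (hen : e ∉ P z ⊔ span K {z'}) (a b : K) (h0 : a • z + b • z' ≠ 0) :
    P z ⊓ P z' ≤ P (a • z + b • z') := by
  intro x hx
  obtain ⟨h1, h2⟩ := h.line hz hz' hn a b h0
  obtain ⟨c, hc⟩ := h.edge e he _ h1 (h.line_not_mem hz hz' hn he hen a b h0) x (h.inf_le_out hz hz' hn he hen hx)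
  have h3 : c = 0 := by
    by_contra hc0
    refine hen ((smul_mem_iff _ hc0).1 ?_)
    rw [← sub_sub_cancel x (c • e)]
    exact sub_mem (mem_sup_left hx.1) (h2 hc)
  rwa [h3, zero_smul, sub_zero] at hc

theorem exists_blk_edge : ∃ B W : Submodule K V, Blk Ω P B W ∧ z ∈ B := by
  obtain ⟨e, he, hen⟩ := h.exists_not_mem hz z'
  have hn' := h.not_mem hz hz' hn
  have hW : finrank K ↥(P z ⊓ P z') + 3 = finrank K V := by
    have h1 : P z = (P z ⊓ P z') ⊔ span K {z} := by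
      refine le_antisymm (fun x hx => ?_) (sup_le inf_le_left ((span_singleton_le_iff_mem _ _).2 (h.self z hz)))
      obtain ⟨a, ha⟩ := h.edge z hz z' hz' hn x hx
      rw [← sub_add_cancel x (a • z)]
      exact add_mem_sup ⟨sub_mem hx (smul_mem _ _ (h.self z hz)), ha⟩ (smul_mem _ _ (mem_span_singleton_self z))
    have h2 := finrank_sup_span_singleton (K := K) (p := P z ⊓ P z') (v := z) fun hm => hn' hm.2
    have h3 := h.dim z hz
    rw [← h1] at h2
    omega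
  have hdis : ∀ a b c : K, a • z + b • z' + c • e ∈ P z ⊓ P z' → a • z + b • z' + c • e = 0 := by
    intro a b c hm
    have h1 : c = 0 := by
      by_contra hc0
      refine hen ((smul_mem_iff _ hc0).1 ?_)
      have e1 : c • e = (a • z + b • z' + c • e - a • z) + (-b) • z' := by module
      rw [e1]
      exact add_mem_sup (sub_mem hm.1 (smul_mem _ _ (h.self z hz))) (smul_mem _ _ (mem_span_singleton_self z'))
    rw [h1, zero_smul, add_zero] at hm ⊢
    have h2 : b = 0 := by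
      by_contra hb0
      exact hn ((smul_mem_iff _ hb0).1 ((Submodule.add_mem_iff_right _ (smul_mem _ a (h.self z hz))).1 hm.1))
    rw [h2, zero_smul, add_zero] at hm ⊢
    have h3 : a = 0 := by
      by_contra ha0
      exact hn' ((smul_mem_iff _ ha0).1 hm.2)
    rw [h3, zero_smul]
  have hc : IsCompl (span K {z, z', e}) (P z ⊓ P z') := by
    refine ⟨Submodule.disjoint_def.2 fun x hx hx' => ?_, codisjoint_iff.2 ?_⟩
    · obtain ⟨a, b, c, rfl⟩ := mem_span_triple.1 hx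
      exact hdis a b c hx'
    · have h1 : P z ⊔ span K {z'} ⊔ span K {e} = ⊤ := by
        apply eq_top_of_finrank_eq
        rw [finrank_sup_span_singleton hen, finrank_sup_span_singleton hn, ← h.dim z hz]
      rw [eq_top_iff, ← h1]
      refine sup_le (sup_le (fun x hx => ?_) ?_) ?_
      · obtain ⟨a, ha⟩ := h.edge z hz z' hz' hn x hx
        rw [← add_sub_cancel (a • z) x]
        exact add_mem_sup (smul_mem _ _ (subset_span (by simp))) ⟨sub_mem hx (smul_mem _ _ (h.self z hz)), ha⟩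
      · exact (span_mono (by simp)).trans le_sup_left
      · exact (span_mono (by simp)).trans le_sup_left
  have hall : ∀ u ∈ span K {z, z', e}, u ≠ 0 → u ∈ Ω ∧ P z ⊓ P z' ≤ P u := by
    intro u hu h0
    obtain ⟨a, b, c, rfl⟩ := mem_span_triple.1 hu
    by_cases hc0 : c = 0
    · subst hc0
      rw [zero_smul, add_zero] at h0 ⊢
      exact ⟨(h.line hz hz' hn a b h0).1, h.inf_le_in hz hz' hn he hen a b h0⟩
    have h1 : a • z + b • z' + c • e ∈ Ω := by
      by_cases hw : a • z + b • z' = 0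
      · rw [hw, zero_add]
        exact (h.smul e he c hc0).1
      · exact h.add e he _ (h.line hz hz' hn a b hw).1 (h.line_not_mem hz hz' hn he hen a b hw) c
    refine ⟨h1, h.inf_le_out hz hz' hn h1 fun hm => hen ((smul_mem_iff _ hc0).1 ?_)⟩
    refine (Submodule.add_mem_iff_right _ ?_).1 hm
    exact add_mem_sup (smul_mem _ _ (h.self z hz)) (smul_mem _ _ (mem_span_singleton_self z'))
  have hd := finrank_add_eq_of_isCompl hc
  refine ⟨span K {z, z', e}, P z ⊓ P z', ⟨by omega, hc, fun u hu h0 => (hall u hu h0).1, fun u hu h0 => ?_⟩,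
    subset_span (by simp)⟩
  obtain ⟨h1, h2⟩ := hall u hu h0
  refine (eq_of_le_of_finrank_eq (sup_le h2 ((span_singleton_le_iff_mem _ _).2 (h.self u h1))) ?_).symm
  have h3 := finrank_sup_span_singleton (K := K) (p := P z ⊓ P z') (v := u)
    fun hm => h0 (Submodule.disjoint_def.1 hc.disjoint u hu hm)
  have h4 := h.dim u h1
  omega

end edge

theorem exists_blk {z : V} (hz : z ∈ Ω) : ∃ B W : Submodule K V, Blk Ω P B W ∧ z ∈ B := by
  obtain ⟨z', hz', hn⟩ := h.exists_not_mem hz 0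
  exact h.exists_blk_edge hz hz' fun hm => hn (mem_sup_left hm)

theorem blk_le {B W B' W' : Submodule K V} (hB : Blk Ω P B W) (hB' : Blk Ω P B' W') {x : V} (hx : x ∈ Ω)
    (hxW : x ∈ W) (hxB : x ∈ B') : B' ≤ W := by
  have h1 : B ≤ P x := by
    intro u hu
    by_cases h0 : u = 0
    · rw [h0]; exact zero_mem _
    · exact h.symm u (hB.mem u hu h0) x hx (hB.le hu h0 hxW)
  have h2 : 2 ≤ finrank K ↥(B ⊓ W') := by
    have h3 := finrank_sup_add_finrank_inf_eq B W'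
    have h4 : finrank K ↥(B ⊔ W') ≤ finrank K (P x) :=
      Submodule.finrank_mono (sup_le h1 (hB'.le hxB (h.ne x hx)))
    have h5 := h.dim x hx
    have h6 := finrank_add_eq_of_isCompl hB'.compl
    have h7 := hB.dim
    have h8 := hB'.dim
    omega
  intro y hy
  by_cases hy0 : y = 0
  · rw [hy0]; exact zero_mem _
  have key : ∀ u ∈ B ⊓ W', u ≠ 0 → ∃ a : K, y - a • u ∈ W := fun u hu h0 =>
    hB.mem_perp hu.1 h0 (h.symm y (hB'.mem y hy hy0) u (hB.mem u hu.1 h0) (hB'.le hy hy0 hu.2))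
  obtain ⟨u, hu, hu0⟩ := exists_not_mem_of_finrank_lt (S := ⊥) (T := B ⊓ W') (by rw [finrank_bot]; omega)
  rw [mem_bot] at hu0
  obtain ⟨v, hv, hv0⟩ := exists_not_mem_of_finrank_lt (S := span K {u}) (T := B ⊓ W')
    (by rw [finrank_span_singleton hu0]; omega)
  obtain ⟨a, ha⟩ := key u hu hu0
  obtain ⟨b, hb⟩ := key v hv fun h0 => hv0 (h0 ▸ zero_mem _)
  have h3 : b • v - a • u = 0 := by
    refine hB.zero (sub_mem (smul_mem _ _ hv.1) (smul_mem _ _ hu.1)) ?_
    have e : b • v - a • u = (y - a • u) - (y - b • v) := by module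
    rw [e]
    exact sub_mem ha hb
  have h4 : b = 0 := by
    by_contra hb0
    refine hv0 ((smul_mem_iff _ hb0).1 ?_)
    rw [sub_eq_zero.1 h3]
    exact smul_mem _ _ (mem_span_singleton_self u)
  rwa [h4, zero_smul, sub_zero] at hb

theorem compl_le {B W : Submodule K V} (hB : Blk Ω P B W) {w : V} (hw : w ∈ Ω) (hwW : w ∉ W) : W ≤ P w := by
  obtain ⟨b, hb, w', hw', rfl⟩ := mem_sup.1 (show w ∈ B ⊔ W by rw [hB.compl.sup_eq_top]; trivial)
  have hb0 : b ≠ 0 := by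
    rintro rfl
    exact hwW (by rwa [zero_add])
  have h1 : ∀ v ∈ B, v ∉ span K {b} → b + w' ∉ P v := by
    intro v hv hvb hm
    obtain ⟨c, hc⟩ := hB.mem_perp hv (fun h0 => hvb (h0 ▸ zero_mem _)) hm
    have h2 : b - c • v = 0 := by
      refine hB.zero (sub_mem hb (smul_mem _ _ hv)) ?_
      have e : b - c • v = b + w' - c • v - w' := by module
      rw [e]
      exact sub_mem hc hw'
    have h3 : c ≠ 0 := by
      rintro rfl
      exact hb0 (by simpa using h2)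
    refine hvb ((smul_mem_iff _ h3).1 ?_)
    rw [← sub_eq_zero.1 h2]
    exact mem_span_singleton_self b
  have h2 : ∀ v ∈ B, v ∉ span K {b} → ∀ x ∈ W, ∃ c : K, x - c • v ∈ P (b + w') := by
    intro v hv hvb x hx
    have h0 : v ≠ 0 := fun h0 => hvb (h0 ▸ zero_mem _)
    exact h.edge v (hB.mem v hv h0) _ hw (h1 v hv hvb) x (hB.le hv h0 hx)
  obtain ⟨u, hu, hub⟩ := exists_not_mem_of_finrank_lt (S := span K {b}) (T := B)
    (by rw [finrank_span_singleton hb0, hB.dim]; omega)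
  obtain ⟨v, hv, hvb⟩ := exists_not_mem_of_finrank_lt (S := span K {b} ⊔ span K {u}) (T := B)
    (by rw [finrank_sup_span_singleton hub, finrank_span_singleton hb0, hB.dim]; omega)
  intro x hx
  obtain ⟨c, hc⟩ := h2 u hu hub x hx
  obtain ⟨d, hd⟩ := h2 v hv (fun hm => hvb (mem_sup_left hm)) x hx
  have h3 : d • v - c • u ∈ span K {b} := by
    by_contra hn
    have hB' : d • v - c • u ∈ B := sub_mem (smul_mem _ _ hv) (smul_mem _ _ hu)
    refine h1 _ hB' hn (h.symm _ hw _ (hB.mem _ hB' fun h0 => hn (h0 ▸ zero_mem _)) ?_)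
    have e : d • v - c • u = (x - c • u) - (x - d • v) := by module
    rw [e]
    exact sub_mem hc hd
  have h4 : d = 0 := by
    by_contra hd0
    refine hvb ((smul_mem_iff _ hd0).1 ?_)
    rw [← sub_add_cancel (d • v) (c • u)]
    exact add_mem_sup h3 (smul_mem _ _ (mem_span_singleton_self u))
  rwa [h4, zero_smul, sub_zero] at hd

/-- **The `J`-geometry lemma**: dimension at most six, or three orthogonal blocks. -/
theorem main (hne : Ω.Nonempty) : (finrank K V ≤ 6 ∧ span K Ω = ⊤) ∨ ∃ B₁ W₁ B₂ W₂ B₃ W₃ : Submodule K V,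
    Blk Ω P B₁ W₁ ∧ Blk Ω P B₂ W₂ ∧ Blk Ω P B₃ W₃ ∧ B₂ ≤ W₁ ∧ B₃ ≤ W₁ ∧ B₃ ≤ W₂ := by
  have hsp : ∀ B W, Blk Ω P B W → B ≤ span K Ω := by
    intro B W hB u hu
    by_cases h0 : u = 0
    · rw [h0]; exact zero_mem _
    · exact subset_span (hB.mem u hu h0)
  obtain ⟨z, hz⟩ := hne
  obtain ⟨B₁, W₁, h1, -⟩ := h.exists_blk hz
  have d1 := finrank_add_eq_of_isCompl h1.compl
  by_cases c1 : ∃ x ∈ Ω, x ∈ W₁
  · obtain ⟨x, hx, hxW⟩ := c1
    obtain ⟨B₂, W₂, h2, hx2⟩ := h.exists_blk hx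
    have d2 := finrank_add_eq_of_isCompl h2.compl
    have l2 := h.blk_le h1 h2 hx hxW hx2
    by_cases c2 : ∃ y ∈ Ω, y ∈ W₁ ∧ y ∈ W₂
    · obtain ⟨y, hy, hy1, hy2⟩ := c2
      obtain ⟨B₃, W₃, h3, hy3⟩ := h.exists_blk hy
      exact Or.inr ⟨B₁, W₁, B₂, W₂, B₃, W₃, h1, h2, h3, l2, h.blk_le h1 h3 hy hy1 hy3, h.blk_le h2 h3 hy hy2 hy3⟩
    · left
      have h0 : W₁ ⊓ W₂ = ⊥ := by
        rw [eq_bot_iff]
        intro v hv
        refine h.rad v fun w hw => ?_
        by_cases hw1 : w ∈ W₁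
        · exact h.compl_le h2 hw (fun hw2 => c2 ⟨w, hw, hw1, hw2⟩) hv.2
        · exact h.compl_le h1 hw hw1 hv.1
      have h3 := finrank_sup_add_finrank_inf_eq W₁ W₂
      have h4 := finrank_le (W₁ ⊔ W₂)
      have h5 := h1.dim
      have h6 := h2.dim
      rw [h0, finrank_bot] at h3
      refine ⟨by omega, ?_⟩
      have h7 : B₂ = W₁ := eq_of_le_of_finrank_le l2 (by omega)
      rw [eq_top_iff, ← h1.compl.sup_eq_top, ← h7]
      exact sup_le (hsp _ _ h1) (hsp _ _ h2)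
  · left
    have h0 : W₁ = ⊥ := by
      rw [eq_bot_iff]
      intro v hv
      exact h.rad v fun w hw => h.compl_le h1 hw (fun hw1 => c1 ⟨w, hw, hw1⟩) hv
    have h5 := h1.dim
    rw [h0, finrank_bot] at d1
    refine ⟨by omega, ?_⟩
    rw [eq_top_iff, ← h1.compl.sup_eq_top, h0]
    exact sup_le (hsp _ _ h1) bot_le

end JG

end Cfsg.Agent.DS.NT
end

-- part: DS/NT/JGeo
section
/-!
# Non-toral local subgroups, the `J`-geometry lemma for groups (helper98)

`Z` is an elementary abelian `r`-subgroup of a group `X`, `Ω ⊆ Z`, and `P z` (in the application the centralizer of the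
subgroup `J_z`) meets `Z` in a subgroup of index `r ^ 2`.  `JM.main`: `|Z| ≤ r ^ 6`, or `Ω` generates a subgroup of rank
at least `9` with a known number of elements of `Ω`.
-/

set_option autoImplicit false

namespace Cfsg.Agent.DS.NT

open Module
open scoped IsMulCommutative

section lin

variable {K V : Type*} [Field K] [AddCommGroup V] [Module K V] {Ω : Set V} {P : V → Submodule K V}
  {B₁ W₁ B₂ W₂ B₃ W₃ : Submodule K V}

theorem finrank_three [FiniteDimensional K V] (h1 : Blk Ω P B₁ W₁) (h2 : Blk Ω P B₂ W₂) (h3 : Blk Ω P B₃ W₃)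
    (l2 : B₂ ≤ W₁) (l3 : B₃ ≤ W₁) (l4 : B₃ ≤ W₂) : finrank K ↥(B₁ ⊔ (B₂ ⊔ B₃)) = 9 := by
  have e1 := Submodule.finrank_sup_add_finrank_inf_eq B₂ B₃
  have e2 := Submodule.finrank_sup_add_finrank_inf_eq B₁ (B₂ ⊔ B₃)
  rw [(h2.compl.disjoint.mono_right l4).eq_bot, finrank_bot, h2.dim, h3.dim] at e1
  rw [(h1.compl.disjoint.mono_right (sup_le l2 l3)).eq_bot, finrank_bot, h1.dim] at e2
  omega

theorem sum_zero_eight {B : Type*} [Zero B] [Fintype B] [DecidableEq B] (hB : Fintype.card B = 8) (g : Bool → ℕ) :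
    ∑ a : B, g (decide (a = 0)) = g true + 7 * g false := by
  rw [← Finset.add_sum_erase _ _ (Finset.mem_univ (0 : B)),
    Finset.sum_congr rfl (g := fun _ => g false) fun a ha => by rw [decide_eq_false (Finset.ne_of_mem_erase ha)],
    Finset.sum_const, Finset.card_erase_of_mem (Finset.mem_univ _), Finset.card_univ, hB]
  simp

theorem ncard_three [Finite V] (hK : Nat.card K = 2) (h0 : (0 : V) ∉ Ω) (h1 : Blk Ω P B₁ W₁) (h2 : Blk Ω P B₂ W₂)
    (h3 : Blk Ω P B₃ W₃) (l2 : B₂ ≤ W₁) (l3 : B₃ ≤ W₁) (l4 : B₃ ≤ W₂)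
    (h6 : ∀ z ∈ Ω, ∀ x ∈ P z, x ≠ 0 → x ≠ z → (x ∈ Ω ↔ x + z ∉ Ω)) :
    {a | a ∈ B₁ ⊔ (B₂ ⊔ B₃) ∧ a ∈ Ω}.ncard = 364 := by
  classical
  have hc : ∀ {B W : Submodule K V}, Blk Ω P B W → Nat.card B = 8 := fun h => by
    rw [Module.natCard_eq_pow_finrank (K := K), hK, h.dim]
    rfl
  have key : ∀ {B W : Submodule K V}, Blk Ω P B W → ∀ a ∈ B, ∀ x ∈ W, a ≠ 0 → x ≠ 0 → (a + x ∈ Ω ↔ x ∉ Ω) := by
    intro B W h a ha x hx ha0 hx0
    rw [h6 a (h.mem a ha ha0) x (h.le ha ha0 hx) hx0 fun he => ha0 (h.zero ha (he ▸ hx)), not_not, add_comm]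
  let f : B₁ × B₂ × B₃ → V := fun t => t.1.1 + (t.2.1.1 + t.2.2.1)
  have hbc : ∀ (b : B₂) (c : B₃), b.1 + c.1 = 0 → b = 0 ∧ c = 0 := by
    intro b c h
    have e1 : b.1 = 0 := h2.zero b.2 (by rw [eq_neg_of_add_eq_zero_left h]; exact neg_mem (l4 c.2))
    rw [e1, zero_add] at h
    exact ⟨Subtype.ext e1, Subtype.ext h⟩
  have hf : Function.Injective f := by
    rintro ⟨a, b, c⟩ ⟨a', b', c'⟩ (h : a.1 + (b.1 + c.1) = a'.1 + (b'.1 + c'.1))
    have e1 : a.1 - a'.1 = 0 := by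
      refine h1.zero (sub_mem a.2 a'.2) ?_
      rw [show a.1 - a'.1 = (b'.1 + c'.1) - (b.1 + c.1) by linear_combination (norm := abel) h]
      exact sub_mem (add_mem (l2 b'.2) (l3 c'.2)) (add_mem (l2 b.2) (l3 c.2))
    have e2 := hbc (b - b') (c - c') (by
      change b.1 - b'.1 + (c.1 - c'.1) = 0
      linear_combination (norm := abel) h - e1)
    rw [Subtype.ext (sub_eq_zero.1 e1), sub_eq_zero.1 e2.1, sub_eq_zero.1 e2.2]
  have hset : {a | a ∈ B₁ ⊔ (B₂ ⊔ B₃) ∧ a ∈ Ω} = f '' {t | f t ∈ Ω} := by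
    ext v
    constructor
    · rintro ⟨hv, hvΩ⟩
      obtain ⟨a, ha, w, hw, rfl⟩ := Submodule.mem_sup.1 hv
      obtain ⟨b, hb, c, hc, rfl⟩ := Submodule.mem_sup.1 hw
      exact ⟨(⟨a, ha⟩, ⟨b, hb⟩, ⟨c, hc⟩), hvΩ, rfl⟩
    · rintro ⟨t, ht, rfl⟩
      exact ⟨Submodule.add_mem_sup t.1.2 (Submodule.add_mem_sup t.2.1.2 t.2.2.2), ht⟩
  have hbcΩ : ∀ (b : B₂) (c : B₃), b.1 + c.1 ∈ Ω ↔ (decide (b = 0) ^^ decide (c = 0)) = true := by
    intro b c
    by_cases hb : b = 0 <;> by_cases hc : c = 0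
    · simp [hb, hc, h0]
    · simpa [hb, hc] using h3.mem c c.2 fun h => hc (Subtype.ext h)
    · simpa [hb, hc] using h2.mem b b.2 fun h => hb (Subtype.ext h)
    · rw [key h2 b b.2 c (l4 c.2) (fun h => hb (Subtype.ext h)) fun h => hc (Subtype.ext h)]
      simpa [hb, hc] using h3.mem c c.2 fun h => hc (Subtype.ext h)
  have hΩ : ∀ t, f t ∈ Ω ↔ (!(decide (t.1 = 0) ^^ (decide (t.2.1 = 0) ^^ decide (t.2.2 = 0)))) = true := by
    rintro ⟨a, b, c⟩
    change a.1 + (b.1 + c.1) ∈ Ω ↔ _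
    by_cases ha : a = 0
    · rw [ha, ZeroMemClass.coe_zero, zero_add, hbcΩ]
      simp
    by_cases hx : b.1 + c.1 = 0
    · obtain ⟨hb, hc⟩ := hbc b c hx
      simpa [ha, hb, hc] using h1.mem a a.2 fun h => ha (Subtype.ext h)
    · rw [key h1 a a.2 _ (add_mem (l2 b.2) (l3 c.2)) (fun h => ha (Subtype.ext h)) hx, hbcΩ]
      simp [ha]
  let : Fintype B₁ := Fintype.ofFinite _
  let : Fintype B₂ := Fintype.ofFinite _
  let : Fintype B₃ := Fintype.ofFinite _
  rw [hset, Set.ncard_image_of_injective _ hf, Set.ncard_eq_toFinset_card', Set.toFinset_ofPred, Finset.card_filter]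
  simp only [hΩ, Fintype.sum_prod_type]
  have c1 : Fintype.card B₁ = 8 := by rw [← Nat.card_eq_fintype_card, hc h1]
  have c2 : Fintype.card B₂ = 8 := by rw [← Nat.card_eq_fintype_card, hc h2]
  have c3 : Fintype.card B₃ = 8 := by rw [← Nat.card_eq_fintype_card, hc h3]
  let g : Bool → Bool → Bool → ℕ := fun x y z => if (!(x ^^ (y ^^ z))) = true then 1 else 0
  change ∑ a : B₁, ∑ b : B₂, ∑ c : B₃, g (decide (a = 0)) (decide (b = 0)) (decide (c = 0)) = 364
  rw [Finset.sum_congr rfl fun (a : B₁) _ => (Finset.sum_congr rfl fun (b : B₂) _ =>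
      sum_zero_eight c3 (g (decide (a = 0)) (decide (b = 0)))).trans
      (sum_zero_eight c2 fun y => g (decide (a = 0)) y true + 7 * g (decide (a = 0)) y false),
    sum_zero_eight c1 fun x => g x true true + 7 * g x true false + 7 * (g x false true + 7 * g x false false)]
  decide

end lin

variable {X : Type*} [Group X]

/-- the axioms of the `J`-geometry, for groups -/
structure JM (r : ℕ) (Z : Subgroup X) (Ω : Set X) (P : X → Subgroup X) : Prop where
  prime : r.Prime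
  comm : ∀ x ∈ Z, ∀ y ∈ Z, x * y = y * x
  pow : ∀ x ∈ Z, x ^ r = 1
  sub : ∀ z ∈ Ω, z ∈ Z
  ne : ∀ z ∈ Ω, z ≠ 1
  nonempty : Ω.Nonempty
  self : ∀ z ∈ Ω, z ∈ P z
  npow : ∀ z ∈ Ω, ∀ k : ℕ, ¬ r ∣ k → z ^ k ∈ Ω ∧ P (z ^ k) = P z
  /-- (J3) -/
  idx : ∀ z ∈ Ω, (P z).relIndex Z = r ^ 2
  /-- (J3) -/
  gen : ∀ z ∈ Ω, ∀ x ∈ Z, ∃ e ∈ Subgroup.closure Ω, e⁻¹ * x ∈ P z
  /-- (J1) -/
  symm : ∀ z ∈ Ω, ∀ z' ∈ Ω, z' ∈ P z → z ∈ P z'
  /-- (J2) -/
  add : ∀ z ∈ Ω, ∀ x ∈ Ω, x ∉ P z → x * z ∈ Ω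
  /-- (J5) -/
  edge : ∀ z ∈ Ω, ∀ z' ∈ Ω, z' ∉ P z → ∀ x ∈ Z, x ∈ P z → ∃ k : ℕ, x * z ^ k ∈ P z'
  /-- (J4) -/
  rad : ∀ x ∈ Z, (∀ z ∈ Ω, x ∈ P z) → x = 1

/-- `ι` identifies the vector space `V` with the subgroup `Z` -/
structure Vec {V : Type*} [AddCommGroup V] (Z : Subgroup X) (ι : V → X) : Prop where
  inj : Function.Injective ι
  mem : ∀ v, ι v ∈ Z
  surj : ∀ x ∈ Z, ∃ v, ι v = x
  add : ∀ v w, ι (v + w) = ι v * ι w

theorem exists_vec.{u} {X : Type u} [Group X] {r : ℕ} (Z : Subgroup X) (hc : ∀ x ∈ Z, ∀ y ∈ Z, x * y = y * x)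
    (hp : ∀ x ∈ Z, x ^ r = 1) :
    ∃ (V : Type u) (_ : AddCommGroup V) (_ : Module (ZMod r) V) (ι : V → X), Vec Z ι := by
  have : IsMulCommutative Z := ⟨⟨fun x y => Subtype.ext (hc x x.2 y y.2)⟩⟩
  refine ⟨Additive Z, inferInstance, AddCommGroup.zmodModule fun a => ?_, fun v => (Additive.toMul v : Z),
    Subtype.val_injective.comp Additive.toMul.injective, fun v => (Additive.toMul v).2,
    fun x hx => ⟨Additive.ofMul ⟨x, hx⟩, rfl⟩, fun _ _ => rfl⟩
  apply Additive.toMul.injective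
  rw [toMul_nsmul]
  exact Subtype.ext (hp _ (Additive.toMul a).2)

namespace Vec

variable {V : Type*} [AddCommGroup V] {Z : Subgroup X} {ι : V → X} (h : Vec Z ι)
include h

theorem zero : ι 0 = 1 := by
  have h1 := h.add 0 0
  rw [add_zero] at h1
  exact (mul_eq_left.1 h1.symm)

theorem neg (v : V) : ι (-v) = (ι v)⁻¹ := by
  rw [eq_inv_iff_mul_eq_one, ← h.add, neg_add_cancel, h.zero]

theorem nsmul (k : ℕ) (v : V) : ι (k • v) = ι v ^ k := by
  induction k with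
  | zero => rw [zero_nsmul, pow_zero, h.zero]
  | succ k ih => rw [succ_nsmul, h.add, ih, pow_succ]

theorem card : Nat.card V = Nat.card Z :=
  Nat.card_congr (Equiv.ofBijective (fun v => (⟨ι v, h.mem v⟩ : Z))
    ⟨fun _ _ e => h.inj (congrArg Subtype.val e), fun x => (h.surj x x.2).imp fun _ e => Subtype.ext e⟩)

theorem finite [Finite Z] : Finite V :=
  Finite.of_injective (fun v => (⟨ι v, h.mem v⟩ : Z)) fun _ _ e => h.inj (congrArg Subtype.val e)

variable {r : ℕ} [Fact r.Prime] [Module (ZMod r) V]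

theorem smul (k : ℕ) (v : V) : ι ((k : ZMod r) • v) = ι v ^ k := by rw [Nat.cast_smul_eq_nsmul, h.nsmul]

variable (r)

/-- the subspace of a subgroup -/
def sub (Q : Subgroup X) : Submodule (ZMod r) V where
  carrier := {v | ι v ∈ Q}
  add_mem' := fun {v w} (hv : ι v ∈ Q) (hw : ι w ∈ Q) => by
    change ι _ ∈ Q
    rw [h.add]
    exact Q.mul_mem hv hw
  zero_mem' := by
    change ι _ ∈ Q
    rw [h.zero]
    exact Q.one_mem
  smul_mem' := fun a v (hv : ι v ∈ Q) => by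
    obtain ⟨k, rfl⟩ := ZMod.natCast_zmod_surjective a
    change ι _ ∈ Q
    rw [h.smul]
    exact Q.pow_mem hv k

variable {r}

theorem mem_sub {Q : Subgroup X} {v : V} : v ∈ h.sub r Q ↔ ι v ∈ Q := Iff.rfl

/-- the subgroup of a subspace -/
def grp (B : Submodule (ZMod r) V) : Subgroup X where
  carrier := ι '' B
  mul_mem' := by
    rintro _ _ ⟨v, hv, rfl⟩ ⟨w, hw, rfl⟩
    exact ⟨v + w, B.add_mem hv hw, h.add v w⟩
  one_mem' := ⟨0, B.zero_mem, h.zero⟩
  inv_mem' := by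
    rintro _ ⟨v, hv, rfl⟩
    exact ⟨-v, B.neg_mem hv, h.neg v⟩

theorem card_grp [Finite V] (B : Submodule (ZMod r) V) : Nat.card (h.grp B) = r ^ finrank (ZMod r) B := by
  have e := Module.natCard_eq_pow_finrank (K := ZMod r) (V := B)
  rw [Nat.card_zmod] at e
  rw [← e]
  exact Nat.card_image_of_injective h.inj _

theorem card_eq [Finite V] : Nat.card Z = r ^ finrank (ZMod r) V := by
  have e := Module.natCard_eq_pow_finrank (K := ZMod r) (V := V)
  rwa [Nat.card_zmod, h.card] at e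

theorem grp_sub (Q : Subgroup X) : h.grp (h.sub r Q) = Q ⊓ Z := by
  ext x
  constructor
  · rintro ⟨v, hv, rfl⟩
    exact ⟨hv, h.mem v⟩
  · rintro ⟨h1, h2⟩
    obtain ⟨v, rfl⟩ := h.surj x h2
    exact ⟨v, h1, rfl⟩

theorem mem_span {Ω : Set X} (hΩ : ∀ z ∈ Ω, z ∈ Z) (v : V) :
    v ∈ Submodule.span (ZMod r) (ι ⁻¹' Ω) ↔ ι v ∈ Subgroup.closure Ω := by
  constructor
  · exact fun hv => (Submodule.span_le (p := h.sub r (Subgroup.closure Ω))).2
      (fun w hw => Subgroup.subset_closure hw) hv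
  · intro hv
    have h1 : Subgroup.closure Ω ≤ h.grp (Submodule.span (ZMod r) (ι ⁻¹' Ω)) := by
      rw [Subgroup.closure_le]
      intro x hx
      obtain ⟨w, rfl⟩ := h.surj x (hΩ x hx)
      exact ⟨w, Submodule.subset_span hx, rfl⟩
    obtain ⟨w, hw, e⟩ := h1 hv
    exact h.inj e ▸ hw

end Vec

/-- **The `J`-geometry lemma.** -/
theorem JM.main {r : ℕ} {Z : Subgroup X} [Finite Z] {Ω : Set X} {P : X → Subgroup X} (h : JM r Z Ω P) :
    (Nat.card Z ≤ r ^ 6 ∧ Subgroup.closure Ω = Z) ∨ ∃ A : Subgroup X, A ≤ Subgroup.closure Ω ∧ Nat.card A = r ^ 9 ∧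
      (r = 2 → (∀ z ∈ Ω, ∀ x ∈ Z, x ∈ P z → x ≠ 1 → x ≠ z → (x ∈ Ω ↔ x * z ∉ Ω)) →
        {a | a ∈ A ∧ a ∈ Ω}.ncard = 364) := by
  have : Fact r.Prime := ⟨h.prime⟩
  obtain ⟨V, _, _, ι, hι⟩ := exists_vec Z h.comm h.pow
  have := hι.finite
  have hclZ : Subgroup.closure Ω ≤ Z := (Subgroup.closure_le _).2 h.sub
  have hspan := hι.mem_span (r := r) h.sub
  have hJ : JG (K := ZMod r) (ι ⁻¹' Ω) fun v => hι.sub r (P (ι v)) :=
    { ne := fun z hz h0 => h.ne _ hz (by rw [h0, hι.zero])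
      self := fun z hz => h.self _ hz
      smul := fun z hz a ha => by
        obtain ⟨k, rfl⟩ := ZMod.natCast_zmod_surjective a
        obtain ⟨h1, h2⟩ := h.npow _ hz k fun hd => ha ((ZMod.natCast_eq_zero_iff k r).2 hd)
        rw [Set.mem_preimage, hι.smul, h2]
        exact ⟨h1, rfl⟩
      dim := fun z hz => by
        have h1 := ((P (ι z)).subgroupOf Z).card_mul_index
        have h2 : Nat.card ((P (ι z)).subgroupOf Z) = r ^ finrank (ZMod r) (hι.sub r (P (ι z))) := by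
          rw [← hι.card_grp, hι.grp_sub, ← Subgroup.subgroupOf_map_subtype]
          exact Nat.card_congr (Subgroup.equivMapOfInjective _ _ Z.subtype_injective).toEquiv
        rw [h2, hι.card_eq (r := r), show ((P (ι z)).subgroupOf Z).index = r ^ 2 from h.idx _ hz, ← pow_add] at h1
        exact Nat.pow_right_injective h.prime.two_le h1
      gen := fun z hz => by
        rw [eq_top_iff]
        intro v _
        obtain ⟨e, he, hev⟩ := h.gen _ hz _ (hι.mem v)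
        obtain ⟨w, rfl⟩ := hι.surj e (hclZ he)
        rw [← add_neg_cancel_left w v]
        refine Submodule.add_mem_sup ((hspan _).2 he) ?_
        rwa [hι.mem_sub, hι.add, hι.neg]
      symm := fun z hz z' hz' hm => h.symm _ hz _ hz' hm
      add := fun z hz x hx hn a => by
        obtain ⟨k, rfl⟩ := ZMod.natCast_zmod_surjective a
        rw [Set.mem_preimage, hι.add, hι.smul]
        induction k with
        | zero => rwa [pow_zero, mul_one]
        | succ k ih =>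
          rw [pow_succ, ← mul_assoc]
          exact h.add _ hz _ ih fun hm => hn ((Subgroup.mul_mem_cancel_right _ ((P (ι z)).pow_mem (h.self _ hz) k)).1 hm)
      edge := fun z hz z' hz' hn x hx => by
        obtain ⟨k, hk⟩ := h.edge _ hz _ hz' hn _ (hι.mem x) hx
        refine ⟨-(k : ZMod r), ?_⟩
        rw [neg_smul, sub_neg_eq_add, hι.mem_sub, hι.add, hι.smul]
        exact hk
      rad := fun x hx => hι.inj (hι.zero ▸ h.rad _ (hι.mem x) fun z hz => by
        obtain ⟨w, rfl⟩ := hι.surj z (h.sub z hz)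
        exact hx w hz) }
  obtain ⟨z, hz⟩ := h.nonempty
  obtain ⟨z, rfl⟩ := hι.surj z (h.sub z hz)
  rcases hJ.main ⟨z, hz⟩ with ⟨h1, h2⟩ | ⟨B₁, W₁, B₂, W₂, B₃, W₃, h1, h2, h3, l2, l3, l4⟩
  · left
    refine ⟨?_, le_antisymm hclZ fun x hx => ?_⟩
    · rw [hι.card_eq (r := r)]
      exact Nat.pow_le_pow_right h.prime.pos h1
    · obtain ⟨v, rfl⟩ := hι.surj x hx
      exact (hspan v).1 (h2 ▸ Submodule.mem_top)
  · right
    have hsp : ∀ {B W}, Blk (ι ⁻¹' Ω) (fun v => hι.sub r (P (ι v))) B W → B ≤ Submodule.span (ZMod r) (ι ⁻¹' Ω) := by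
      intro B W hB u hu
      by_cases h0 : u = 0
      · rw [h0]; exact zero_mem _
      · exact Submodule.subset_span (hB.mem u hu h0)
    refine ⟨hι.grp (B₁ ⊔ (B₂ ⊔ B₃)), ?_, by rw [hι.card_grp, finrank_three h1 h2 h3 l2 l3 l4], fun hr h6 => ?_⟩
    · rintro _ ⟨v, hv, rfl⟩
      exact (hspan v).1 (sup_le (hsp h1) (sup_le (hsp h2) (hsp h3)) hv)
    · have hn := ncard_three (K := ZMod r) (Ω := ι ⁻¹' Ω) (by rw [Nat.card_zmod, hr]) (fun h0 => h.ne _ h0 hι.zero)
        h1 h2 h3 l2 l3 l4 (fun z hz x hx hx0 hxz => by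
          rw [Set.mem_preimage, Set.mem_preimage, hι.add]
          exact h6 _ hz _ (hι.mem x) hx (fun e => hx0 (hι.inj (e.trans hι.zero.symm))) fun e => hxz (hι.inj e))
      rw [← hn, ← Set.ncard_image_of_injective _ hι.inj]
      congr 1
      ext x
      constructor
      · rintro ⟨⟨v, hv, rfl⟩, hxΩ⟩
        exact ⟨v, ⟨hv, hxΩ⟩, rfl⟩
      · rintro ⟨v, ⟨hv, hvΩ⟩, rfl⟩
        exact ⟨⟨v, hv, rfl⟩, hvΩ⟩

end Cfsg.Agent.DS.NT
end

-- part: DS/NT/Two
section
/-!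
# Non-toral local subgroups: the `J`-geometry for `r = 2` (helper98), lemma (F)
-/

set_option autoImplicit false

namespace Cfsg.Agent.DS.NT

open Module Submodule

section lin

variable {K V : Type*} [Field K] [AddCommGroup V] [Module K V] [FiniteDimensional K V] {Ω : Set V}
  {P : V → Submodule K V}

theorem Blk.mem_compl {B W : Submodule K V} (hB : Blk Ω P B W) {x : V} (hx : ∀ b ∈ B, b ≠ 0 → x ∈ P b) : x ∈ W := by
  obtain ⟨u, hu, hu0⟩ := exists_not_mem_of_finrank_lt (S := ⊥) (T := B) (by rw [finrank_bot, hB.dim]; omega)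
  rw [mem_bot] at hu0
  obtain ⟨v, hv, hv0⟩ := exists_not_mem_of_finrank_lt (S := span K {u}) (T := B)
    (by rw [finrank_span_singleton hu0, hB.dim]; omega)
  have hv1 : v ≠ 0 := fun h0 => hv0 (h0 ▸ zero_mem _)
  obtain ⟨a, ha⟩ := hB.mem_perp hu hu0 (hx u hu hu0)
  obtain ⟨b, hb⟩ := hB.mem_perp hv hv1 (hx v hv hv1)
  have h3 : b • v - a • u = 0 := by
    refine hB.zero (sub_mem (smul_mem _ _ hv) (smul_mem _ _ hu)) ?_
    have e : b • v - a • u = (x - a • u) - (x - b • v) := by module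
    rw [e]
    exact sub_mem ha hb
  have h4 : b = 0 := by
    by_contra hb0
    refine hv0 ((smul_mem_iff _ hb0).1 ?_)
    rw [sub_eq_zero.1 h3]
    exact smul_mem _ _ (mem_span_singleton_self u)
  rwa [h4, zero_smul, sub_zero] at hb

theorem JG.le_six (h : JG Ω P) (hne : Ω.Nonempty)
    (h6 : ∀ z ∈ Ω, ∀ x ∈ P z, x ≠ 0 → x ≠ z → (x ∈ Ω ↔ x + z ∉ Ω)) : finrank K V ≤ 6 ∧ span K Ω = ⊤ := by
  rcases h.main hne with h1 | ⟨B₁, W₁, B₂, W₂, B₃, W₃, h1, h2, h3, l2, l3, l4⟩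
  · exact h1
  exfalso
  have ex : ∀ {B W : Submodule K V}, Blk Ω P B W → ∃ b ∈ B, b ≠ 0 := fun {B W} hB => by
    obtain ⟨u, hu, hu0⟩ := exists_not_mem_of_finrank_lt (S := ⊥) (T := B) (by rw [finrank_bot, hB.dim]; omega)
    exact ⟨u, hu, hu0⟩
  obtain ⟨a, ha, ha0⟩ := ex h1
  obtain ⟨b, hb, hb0⟩ := ex h2
  obtain ⟨c, hc, hc0⟩ := ex h3
  have e1 : c + b ∉ Ω := (h6 b (h2.mem b hb hb0) c (h2.le hb hb0 (l4 hc)) hc0
    fun e => hb0 (h2.zero hb (e ▸ l4 hc))).1 (h3.mem c hc hc0)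
  have e2 : c + b ∈ W₁ := add_mem (l3 hc) (l2 hb)
  have e3 : c + b + a ∈ Ω := by
    by_contra hn
    refine e1 ((h6 a (h1.mem a ha ha0) _ (h1.le ha ha0 e2) (fun e => hb0 (h2.zero hb ?_))
      fun e => ha0 (h1.zero ha (e ▸ e2))).2 hn)
    rw [eq_neg_of_add_eq_zero_right e]
    exact neg_mem (l4 hc)
  have e4 : W₁ ≤ P (c + b + a) :=
    h.compl_le h1 e3 fun hm => ha0 (h1.zero ha ((Submodule.add_mem_iff_right _ e2).1 hm))
  have e5 : c + b + a ∈ W₂ := h2.mem_compl fun y hy hy0 => h.symm _ e3 y (h2.mem y hy hy0) (e4 (l2 hy))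
  have e6 : a ∈ W₂ := h2.mem_compl fun y hy hy0 =>
    h.symm a (h1.mem a ha ha0) y (h2.mem y hy hy0) (h1.le ha ha0 (l2 hy))
  exact hb0 (h2.zero hb ((Submodule.add_mem_iff_right _ (l4 hc)).1 ((Submodule.add_mem_iff_left _ e6).1 e5)))

end lin

/-- **(F)** -/
theorem card_le_of_two {X : Type*} [Group X] {Z : Subgroup X} [Finite Z] {Ω : Set X} {P : X → Subgroup X}
    (hc : ∀ x ∈ Z, ∀ y ∈ Z, x * y = y * x) (hp : ∀ x ∈ Z, x ^ 2 = 1) (h1 : 1 ∉ Ω) (hcl : Subgroup.closure Ω = Z)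
    (hself : ∀ z ∈ Ω, z ∈ P z) (hidx : ∀ z ∈ Ω, (P z).relIndex Z = 4)
    (hin : ∀ z ∈ Ω, ∀ x ∈ Z, x ∈ P z → (x * z ∈ Ω ↔ x ∉ Ω))
    (hout : ∀ z ∈ Ω, ∀ x ∈ Z, x ∉ P z → (x * z ∈ Ω ↔ x ∈ Ω))
    (hrad : ∀ x ∈ Z, (∀ z ∈ Ω, x ∈ P z) → x = 1) : Nat.card Z ≤ 2 ^ 6 := by
  have hsub : ∀ z ∈ Ω, z ∈ Z := fun z hz => hcl ▸ Subgroup.subset_closure hz
  rcases Ω.eq_empty_or_nonempty with rfl | ⟨z0, hz0⟩
  · rw [← hcl, Subgroup.closure_empty, Subgroup.card_bot]
    norm_num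
  have hsymm : ∀ z ∈ Ω, ∀ z' ∈ Ω, z' ∈ P z → z ∈ P z' := by
    intro z hz z' hz' hm
    by_contra hn
    have e1 := (hout z' hz' z (hsub z hz) hn).2 hz
    rw [hc z (hsub z hz) z' (hsub z' hz')] at e1
    exact (hin z hz z' (hsub z' hz') hm).1 e1 hz'
  obtain ⟨V, _, _, ι, hι⟩ := exists_vec Z hc hp
  have := hι.finite
  have hspan := hι.mem_span (r := 2) hsub
  have ha : ∀ a : ZMod 2, a = 0 ∨ a = 1 := by decide
  have hJ : JG (K := ZMod 2) (ι ⁻¹' Ω) fun v => hι.sub 2 (P (ι v)) :=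
    { ne := fun z hz h0 => h1 (by rwa [h0, Set.mem_preimage, hι.zero] at hz)
      self := fun z hz => hself _ hz
      smul := fun z hz a ha0 => by
        rw [(ha a).resolve_left ha0, one_smul]
        exact ⟨hz, rfl⟩
      dim := fun z hz => by
        have h1 := ((P (ι z)).subgroupOf Z).card_mul_index
        have h2 : Nat.card ((P (ι z)).subgroupOf Z) = 2 ^ finrank (ZMod 2) (hι.sub 2 (P (ι z))) := by
          rw [← hι.card_grp, hι.grp_sub, ← Subgroup.subgroupOf_map_subtype]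
          exact Nat.card_congr (Subgroup.equivMapOfInjective _ _ Z.subtype_injective).toEquiv
        rw [h2, hι.card_eq (r := 2), show ((P (ι z)).subgroupOf Z).index = 2 ^ 2 from hidx _ hz, ← pow_add] at h1
        exact Nat.pow_right_injective le_rfl h1
      gen := fun z _ => by
        rw [eq_top_iff]
        exact fun v _ => mem_sup_left ((hspan v).2 (hcl ▸ hι.mem v))
      symm := fun z hz z' hz' hm => hsymm _ hz _ hz' hm
      add := fun z hz x hx hn a => by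
        rcases ha a with rfl | rfl
        · rwa [zero_smul, add_zero]
        · rw [one_smul, Set.mem_preimage, hι.add]
          exact (hout _ hz _ (hι.mem x) hn).2 hx
      edge := fun z hz z' hz' hn x hx => by
        by_contra hcon
        push Not at hcon
        have n0 : ι x ∉ P (ι z') := by simpa [hι.mem_sub] using hcon 0
        have n1 : ι x * ι z ∉ P (ι z') := by
          have e := hcon (-1)
          rwa [neg_smul, one_smul, sub_neg_eq_add, hι.mem_sub, hι.add] at e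
        have n2 : ι x * ι z' ∉ P (ι z) := fun hm => hn ((Subgroup.mul_mem_cancel_left _ hx).1 hm)
        have e1 := hout _ hz' _ (Z.mul_mem (hι.mem x) (hι.mem z)) n1
        have e2 := hin _ hz _ (hι.mem x) hx
        have e3 := hout _ hz _ (Z.mul_mem (hι.mem x) (hι.mem z')) n2
        have e4 := hout _ hz' _ (hι.mem x) n0
        rw [mul_assoc, hc _ (hι.mem z') _ (hι.mem z), ← mul_assoc] at e3
        exact iff_not_self (e4.symm.trans (e3.symm.trans (e1.trans e2)))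
      rad := fun x hx => hι.inj (hι.zero ▸ hrad _ (hι.mem x) fun z hz => by
        obtain ⟨w, rfl⟩ := hι.surj z (hsub z hz)
        exact hx w hz) }
  obtain ⟨z, rfl⟩ := hι.surj z0 (hsub z0 hz0)
  rw [hι.card_eq (r := 2)]
  refine Nat.pow_le_pow_right two_pos (hJ.le_six ⟨z, hz0⟩ fun z hz x hx _ _ => ?_).1
  rw [Set.mem_preimage, Set.mem_preimage, hι.add, hin _ hz _ (hι.mem x) hx, not_not]

end Cfsg.Agent.DS.NT
end

-- part: DS/Nt/Main
section
/-!
# S5881, exceptional groups, the non-toral local case: the structure theorems and the assembly (helper86)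

* `loc_cases` : for `Loc S H E r` with all pairs of `E` toral, `OutA` (a toral subgroup of `E` has no roots) or `OutB`
  (the centraliser of `E` in `S` is elementary abelian);
* `rad_cases` : an `H`-invariant `r`-subgroup contains such an `E` in its centre or it is small and elementary abelian;
* `boxNonTor_of`.
-/

set_option autoImplicit false
set_option linter.unusedSectionVars false

namespace Cfsg.Agent.DS.Nt

open CoxeterSystem Cfsg Cfsg.Lie Cfsg.Lie.ChevalleyDatum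
open Cfsg.Agent.ChevalleyStructure Cfsg.Agent.ChevalleyStructure.Elts Cfsg.Agent.ChevalleyStructure.CoxeterGeom
  Cfsg.Agent.ChevalleyStructure.CoxeterGeomTypes
open Cfsg.Agent.Tits.Roots Cfsg.Agent.Tits.Core Cfsg.Agent.Nodes Cfsg.Agent.Nodes.Reps Cfsg.Agent.Nodes.BNOf
  Cfsg.Agent.Nodes.RGDChev Cfsg.Agent.Nodes.Bruhat
open Cfsg.Agent.KFacts.RgdField Cfsg.Agent.KFacts.RgdChevCoord
open Cfsg.Agent.BpExc Cfsg.Agent.BpExc.TorCent Cfsg.Agent.BpExc.TorChev Cfsg.Agent.BpExc.Tow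
  Cfsg.Agent.BpExc.TowChev Cfsg.Agent.BpExc.Fr Cfsg.Agent.BpExc.LangFr
open Cfsg.Agent.H469.Exc Cfsg.Agent.H795.SetCent Cfsg.Agent.H129.TorusChar Cfsg.Agent.DS.Ex
open Cfsg.Agent.H185.EE Cfsg.Agent.H931.KC Cfsg.Agent.H936

section Gen

variable {D : ChevalleyDatum} {l : ℕ} {M : CoxeterMatrix (Fin l)} {hp : IsType D l M} {p : ℕ} [Fact p.Prime]

theorem dd_one (hp : IsType D l M) : dd p (1 : YY D p) = l + D.nroots := by
  classical
  rw [dd_tor hp (one_mem _), Finset.filter_true_of_mem fun s _ => cX_one hp _, Finset.card_univ, Fintype.card_fin]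

theorem om_iff {A : Subgroup (YY D p)} {r d : ℕ} {i : Fin l} (h1 : l + nri D l r i = d) (h2 : l + D.nroots ≠ d)
    (h : ∀ e ∈ A, e ≠ 1 → dd p e = d → e ∈ Om hp p r i) : ∀ e ∈ A, e ∈ Om hp p r i ↔ dd p e = d :=
  fun e he => ⟨fun h3 => by rw [dd_Om h3, h1], fun h3 => h e he (fun h4 => h2 (by rw [← h3, h4, dd_one hp])) h3⟩

theorem noroot (hp : IsType D l M) {r d n : ℕ} {A : Subgroup (YY D p)} (h : EL p r A) (hn : Nat.card A = n)
    (hd : ∀ e ∈ A, e ≠ 1 → dd p e = d) (h0 : ((r : ℤ) - 1) * n ≠ 0)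
    (h1 : ((r : ℤ) - 1) * n * l = n * (r * d - (l + D.nroots : ℕ)) + r * ((l + D.nroots : ℕ) - d)) :
    Module.finrank (KK p) (Fx p (A : Set (YY D p))) = l := by
  have h2 := pure_eq hp h hd
  rw [hn, ← h1] at h2
  exact_mod_cast mul_left_cancel₀ h0 h2

variable {G : Type} [Group G] [Finite G] {S H E : Subgroup G}

/-- the first outcome: a toral subgroup of `E` has no roots -/
def OutA (L : Lift hp p S) (E : Subgroup G) (r : ℕ) : Prop :=
  (∃ A ≤ im L E, Toral p A ∧ Module.finrank (KK p) (Fx p (A : Set (YY D p))) = l) ∧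
    (D = chevF4 ∧ r = 3 ∧ Nat.card E ≤ 3 ^ 3 ∨ D = chevE6 ∧ r = 3 ∧ Nat.card E ≤ 3 ^ 4 ∨
      D = chevE8 ∧ r = 5 ∧ Nat.card E ≤ 5 ^ 3 ∨ D = chevE8 ∧ r = 2 ∧ Nat.card E ≤ 2 ^ 5)

/-- the second outcome: the centraliser of `E` in `S` is elementary abelian -/
def OutB (L : Lift hp p S) (E : Subgroup G) (r : ℕ) : Prop :=
  (∃ (i : Fin l) (d : ℕ) (J : YY D p → Subgroup (YY D p)), JS hp p r i J ∧
    (∀ e ∈ im L E, e ∈ Om hp p r i ↔ dd p e = d) ∧ DOut L E r d J) ∧
    (D = chevF4 ∧ r = 2 ∧ Nat.card E ≤ 2 ^ 8 ∨ D = chevE6 ∧ r = 2 ∧ Nat.card E ≤ 2 ^ 4 ∨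
      D = chevE7 ∧ r = 2 ∧ Nat.card E ≤ 2 ^ 7 ∨ D = chevE7 ∧ r = 3 ∧ Nat.card E ≤ 3 ^ 3 ∨
      D = chevE8 ∧ r = 2 ∧ Nat.card E ≤ 2 ^ 6 ∨ D = chevE8 ∧ r = 3 ∧ Nat.card E ≤ 3 ^ 7)

theorem exists_ne_im (L : Lift hp p S) {r : ℕ} (hL : Loc S H E r) : ∃ e ∈ im L E, e ≠ 1 := by
  obtain ⟨⟨x, hx⟩, hx1⟩ := (Subgroup.ne_bot_iff_exists_ne_one).1 (im_ne_bot (L := L) hL.le_S hL.ne_bot)
  exact ⟨x, hx, fun e => hx1 (Subtype.ext e)⟩

end Gen

section Types

variable {p : ℕ} [Fact p.Prime] {G : Type} [Group G] [Finite G] {S H E : Subgroup G} {r : ℕ}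

theorem loc_F4 (hJ2 : BoxJ2) (hP4 : BoxP4) {M : CoxeterMatrix (Fin 4)} {hp : IsType chevF4 4 M} {L : Lift hp p S}
    (C : Ctx L H) (hL : Loc S H E r) (hE : EA p r (im L E)) : OutA L E r ∨ OutB L E r := by
  have hi := fun e he h1 => iso_F4 hE.prime (C.iso hL hE (e := e) he h1)
  have hnt := C.not_toral hL
  obtain ⟨e0, he0, he1⟩ := exists_ne_im L hL
  rcases hi e0 he0 he1 with ⟨rfl, -⟩ | ⟨rfl, -⟩
  · have hi' := fun e he h1 => ((hi e he h1).resolve_right fun h => absurd h.1 (by norm_num)).2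
    by_cases hne : ∃ e ∈ im L E, dd p e = 24
    · obtain ⟨J, hJ⟩ := hJ2 _ _ _ hp p hE.ne.symm 3 (Or.inl ⟨rfl, rfl⟩)
      have hd : ∀ e ∈ im L E, e ∈ Om hp p 2 3 ↔ dd p e = 24 := om_iff (by rw [nri_F4.2.1]) (by rw [nrF4]; norm_num)
        fun e he h1 h2 => ((hi' e he h1).resolve_left (by omega)).2
      refine Or.inr ⟨⟨3, 24, J, hJ, hd, stepD C hL hE (fun _ => hE.ne.symm) hJ hd hne⟩, Or.inl ⟨rfl, rfl, ?_⟩⟩
      rw [← card_im (L := L) hL.le_S]
      refine card_le_of_dvd hE.el (dvd_two hp hE.el {20, -4} fun e he h1 => ?_) (by rw [nrF4]; decide)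
      rw [nrF4]
      rcases hi' e he h1 with h2 | ⟨h2, -⟩ <;> rw [h2] <;> decide
    · exact absurd (hP4 p _ hE fun e he h1 => (hi' e he h1).resolve_right fun h => hne ⟨e, he, h.1⟩) hnt
  · have hi' := fun e he h1 => ((hi e he h1).resolve_left fun h => absurd h.1 (by norm_num)).2
    obtain ⟨A, hA, hT, hc⟩ := hE.exists_plane hnt
    refine Or.inl ⟨⟨A, hA, hT, noroot hp (hE.mono hA).el hc (fun e he => hi' e (hA he)) (by norm_num)
      (by rw [nrF4]; norm_num)⟩, Or.inl ⟨rfl, rfl, ?_⟩⟩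
    rw [← card_im (L := L) hL.le_S]
    exact card_le_of_dvd hE.el (pure_dvd hp hE.el hi') (by rw [nrF4]; decide)

theorem loc_E6 (hJ2 : BoxJ2) {M : CoxeterMatrix (Fin 6)} {hp : IsType chevE6 6 M} {L : Lift hp p S}
    (C : Ctx L H) (hL : Loc S H E r) (hE : EA p r (im L E)) : OutA L E r ∨ OutB L E r := by
  have hi := fun e he h1 => iso_E6 hE.prime (C.iso hL hE (e := e) he h1)
  have hnt := C.not_toral hL
  obtain ⟨e0, he0, he1⟩ := exists_ne_im L hL
  rcases hi e0 he0 he1 with ⟨rfl, h0, -⟩ | ⟨rfl, -⟩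
  · have hi' := fun e he h1 => ((hi e he h1).resolve_right fun h => absurd h.1 (by norm_num)).2
    obtain ⟨J, hJ⟩ := hJ2 _ _ _ hp p hE.ne.symm 1 (Or.inr (Or.inl ⟨rfl, rfl⟩))
    have hd : ∀ e ∈ im L E, e ∈ Om hp p 2 1 ↔ dd p e = 38 := om_iff (by rw [nri_E6.1]) (by rw [nrE6]; norm_num)
      fun e he h1 _ => (hi' e he h1).2
    refine Or.inr ⟨⟨1, 38, J, hJ, hd, stepD C hL hE (fun _ => hE.ne.symm) hJ hd ⟨e0, he0, h0⟩⟩,
      Or.inr (Or.inl ⟨rfl, rfl, ?_⟩)⟩
    rw [← card_im (L := L) hL.le_S]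
    exact card_le_of_dvd hE.el (pure_dvd hp hE.el fun e he h1 => (hi' e he h1).1) (by rw [nrE6]; decide)
  · have hi' := fun e he h1 => ((hi e he h1).resolve_left fun h => absurd h.1 (by norm_num)).2
    obtain ⟨A, hA, hT, hc⟩ := hE.exists_plane hnt
    refine Or.inl ⟨⟨A, hA, hT, noroot hp (hE.mono hA).el hc (fun e he => hi' e (hA he)) (by norm_num)
      (by rw [nrE6]; norm_num)⟩, Or.inr (Or.inl ⟨rfl, rfl, ?_⟩)⟩
    rw [← card_im (L := L) hL.le_S]
    exact card_le_of_dvd hE.el (pure_dvd hp hE.el hi') (by rw [nrE6]; decide)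

theorem neF4_E7 : chevE7 ≠ chevF4 := fun h => absurd (congrArg ChevalleyDatum.nroots h) (by rw [nrE7, nrF4]; norm_num)

theorem neF4_E8 : chevE8 ≠ chevF4 := fun h => absurd (congrArg ChevalleyDatum.nroots h) (by rw [nrE8, nrF4]; norm_num)

theorem loc_E7 (hJ2 : BoxJ2) (hJ3 : BoxJ3) {M : CoxeterMatrix (Fin 7)} {hp : IsType chevE7 7 M} {L : Lift hp p S}
    (C : Ctx L H) (hL : Loc S H E r) (hE : EA p r (im L E)) : OutA L E r ∨ OutB L E r := by
  have hi := fun e he h1 => iso_E7 hE.prime (C.iso hL hE (e := e) he h1)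
  have hnt := C.not_toral hL
  obtain ⟨e0, he0, he1⟩ := exists_ne_im L hL
  rcases hi e0 he0 he1 with ⟨rfl, -⟩ | ⟨rfl, h0, -⟩
  · have hi' := fun e he h1 => ((hi e he h1).resolve_right fun h => absurd h.1 (by norm_num)).2
    by_cases hne : ∃ e ∈ im L E, dd p e = 69
    · obtain ⟨J, hJ⟩ := hJ2 _ _ _ hp p hE.ne.symm 0 (Or.inr (Or.inr (Or.inl ⟨rfl, rfl⟩)))
      have hd : ∀ e ∈ im L E, e ∈ Om hp p 2 0 ↔ dd p e = 69 := om_iff (by rw [nri_E7.1]) (by rw [nrE7]; norm_num)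
        fun e he h1 h2 => ((hi' e he h1).resolve_left fun h => by omega).2
      have hD := stepD C hL hE (fun _ => hE.ne.symm) hJ hd hne
      refine Or.inr ⟨⟨0, 69, J, hJ, hd, hD⟩, Or.inr (Or.inr (Or.inl ⟨rfl, rfl, ?_⟩))⟩
      have hpure : ∀ e ∈ im L E, e = 1 ∨ dd p e = 69 := by
        intro e he
        have he' := he
        rw [← hD.clo] at he'
        induction he' using Subgroup.closure_induction with
        | mem x hx => exact Or.inr hx.2
        | one => exact Or.inl rfl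
        | mul x y hx hy ihx ihy =>
          rw [hD.clo] at hx hy
          rcases ihx hx with rfl | h1
          · rw [one_mul]
            exact ihy hy
          rcases ihy hy with rfl | h2
          · rw [mul_one]
            exact Or.inr h1
          by_cases h3 : x * y = 1
          · exact Or.inl h3
          exact Or.inr ((hi' _ he h3).resolve_left fun h =>
            e7_mul hp hE.ne (hE.tp x hx y hy) (hE.pow x hx) (hE.pow y hy) h1 h2 h.1).1
        | inv x hx ihx =>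
          rw [hD.clo] at hx
          have h1 : x⁻¹ = x := inv_eq_of_mul_eq_one_left (by rw [← pow_two, hE.pow x hx])
          rw [h1]
          exact ihx hx
      rw [← card_im (L := L) hL.le_S]
      exact card_le_of_dvd hE.el (pure_dvd hp hE.el fun e he h1 => (hpure e he).resolve_left h1) (by rw [nrE7]; decide)
    · exact absurd (hE.toral_of_card (card_le_of_dvd hE.el (pure_dvd hp hE.el fun e he h1 =>
        ((hi' e he h1).resolve_right fun h => hne ⟨e, he, h.1⟩).1) (by rw [nrE7]; decide))) hnt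
  · have hi' := fun e he h1 => ((hi e he h1).resolve_left fun h => absurd h.1 (by norm_num)).2
    obtain ⟨J, hJ⟩ := hJ3 _ _ _ hp p hE.ne.symm 2 (Or.inl ⟨rfl, rfl⟩)
    have hd : ∀ e ∈ im L E, e ∈ Om hp p 3 2 ↔ dd p e = 43 := om_iff (by rw [nri_E7.2.2.1]) (by rw [nrE7]; norm_num)
      fun e he h1 _ => (hi' e he h1).2
    refine Or.inr ⟨⟨2, 43, J, hJ, hd, stepD C hL hE (fun h => absurd h neF4_E7) hJ hd ⟨e0, he0, h0⟩⟩,
      Or.inr (Or.inr (Or.inr (Or.inl ⟨rfl, rfl, ?_⟩)))⟩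
    rw [← card_im (L := L) hL.le_S]
    exact card_le_of_dvd hE.el (pure_dvd hp hE.el fun e he h1 => (hi' e he h1).1) (by rw [nrE7]; decide)

theorem loc_E8 (hJ2 : BoxJ2) (hJ3 : BoxJ3) (hP8 : BoxP8) {M : CoxeterMatrix (Fin 8)} {hp : IsType chevE8 8 M}
    {L : Lift hp p S} (C : Ctx L H) (hL : Loc S H E r) (hE : EA p r (im L E)) : OutA L E r ∨ OutB L E r := by
  have hi := fun e he h1 => iso_E8 hE.prime (C.iso hL hE (e := e) he h1)
  have hnt := C.not_toral hL
  obtain ⟨e0, he0, he1⟩ := exists_ne_im L hL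
  rcases hi e0 he0 he1 with ⟨rfl, -⟩ | ⟨rfl, -⟩ | ⟨rfl, -⟩
  · have hi' := fun e he h1 => ((hi e he h1).resolve_right fun h =>
      h.elim (fun h => absurd h.1 (by norm_num)) fun h => absurd h.1 (by norm_num)).2
    by_cases hne : ∃ e ∈ im L E, dd p e = 136
    · obtain ⟨J, hJ⟩ := hJ2 _ _ _ hp p hE.ne.symm 7 (Or.inr (Or.inr (Or.inr ⟨rfl, rfl⟩)))
      have hd : ∀ e ∈ im L E, e ∈ Om hp p 2 7 ↔ dd p e = 136 := om_iff (by rw [nri_E8.2.1]) (by rw [nrE8]; norm_num)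
        fun e he h1 h2 => ((hi' e he h1).resolve_left (by omega)).2
      have hD := stepD C hL hE (fun _ => hE.ne.symm) hJ hd hne
      refine Or.inr ⟨⟨7, 136, J, hJ, hd, hD⟩, Or.inr (Or.inr (Or.inr (Or.inr (Or.inl ⟨rfl, rfl, ?_⟩))))⟩
      rw [← card_im (L := L) hL.le_S]
      have := hE.fin
      have hq := fun z (hz : z ∈ im L E ∧ dd p z = 136) x hx =>
        hJ.q8 rfl rfl z ((hd z hz.1).2 hz.2) x (hE.pow x hx) (hE.tp z hz.1 x hx)
      refine NT.card_le_of_two (Ω := {z | z ∈ im L E ∧ dd p z = 136})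
        (P := fun z => Subgroup.centralizer (J z : Set (YY chevE8 p))) hE.comm hE.pow
        (fun h => one_not_mem_Om hE.prime ((hd 1 h.1).2 h.2)) hD.clo
        (fun z hz => Subgroup.mem_centralizer_iff.2 fun j hj => hJ.cen z ((hd z hz.1).2 hz.2) j hj)
        (fun z hz => hD.idx z hz.1 hz.2) (fun z hz x hx hx' => ?_) (fun z hz x hx hx' => ?_)
        fun x hx h => hD.rad hE x hx fun z hz hz' => h z ⟨hz, hz'⟩
      · exact ⟨fun h h1 => ((hq z hz x hx).1 hx').1 h.2 h1.2,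
          fun h => ⟨mul_mem hx hz.1, ((hq z hz x hx).1 hx').2 fun h1 => h ⟨hx, h1⟩⟩⟩
      · exact ⟨fun h => ⟨hx, ((hq z hz x hx).2 hx').1 h.2⟩, fun h => ⟨mul_mem hx hz.1, ((hq z hz x hx).2 hx').2 h.2⟩⟩
    · have hd : ∀ e ∈ im L E, e ≠ 1 → dd p e = 120 := fun e he h1 =>
        (hi' e he h1).resolve_right fun h => hne ⟨e, he, h.1⟩
      obtain ⟨A, hA, hT, hc⟩ := (hP8 p _ hE hd).resolve_left hnt
      refine Or.inl ⟨⟨A, hA, hT, noroot hp (hE.mono hA).el hc (fun e he => hd e (hA he)) (by norm_num)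
        (by rw [nrE8]; norm_num)⟩, Or.inr (Or.inr (Or.inr ⟨rfl, rfl, ?_⟩))⟩
      rw [← card_im (L := L) hL.le_S]
      have h1 := pure_eq hp hE.el hd
      have e : ((8 + chevE8.nroots : ℕ) : ℤ) = 248 := by
        rw [nrE8]
        norm_num
      rw [e] at h1
      have h2 : (0 : ℤ) ≤ (Nat.card (im L E) : ℤ) * Module.finrank (KK p) (Fx p (im L E : Set (YY chevE8 p))) :=
        mul_nonneg (Int.natCast_nonneg _) (Int.natCast_nonneg _)
      have h3 : (Nat.card (im L E) : ℤ) ≤ 32 := by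
        push_cast at h1
        linarith
      exact_mod_cast h3
  · have hi' := fun e he h1 => (((hi e he h1).resolve_left fun h => absurd h.1 (by norm_num)).resolve_right fun h =>
      absurd h.1 (by norm_num)).2
    by_cases hne : ∃ e ∈ im L E, dd p e = 86
    · obtain ⟨J, hJ⟩ := hJ3 _ _ _ hp p hE.ne.symm 6 (Or.inr ⟨rfl, rfl⟩)
      have hd : ∀ e ∈ im L E, e ∈ Om hp p 3 6 ↔ dd p e = 86 := om_iff (by rw [nri_E8.2.2.2.1])
        (by rw [nrE8]; norm_num) fun e he h1 h2 => ((hi' e he h1).resolve_left (by omega)).2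
      refine Or.inr ⟨⟨6, 86, J, hJ, hd, stepD C hL hE (fun h => absurd h neF4_E8) hJ hd hne⟩,
        Or.inr (Or.inr (Or.inr (Or.inr (Or.inr ⟨rfl, rfl, ?_⟩))))⟩
      rw [← card_im (L := L) hL.le_S]
      refine card_le_of_dvd hE.el (dvd_three hp hE.el {-4, 5} fun e he h1 => ?_) (by rw [nrE8]; decide)
      rw [nrE8]
      rcases hi' e he h1 with h2 | ⟨h2, -⟩
      · exact ⟨-4, by simp, by rw [h2]; norm_num⟩
      · exact ⟨5, by simp, by rw [h2]; norm_num⟩
    · exact absurd (hE.toral_of_card (card_le_of_dvd hE.el (pure_dvd hp hE.el fun e he h1 =>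
        (hi' e he h1).resolve_right fun h => hne ⟨e, he, h.1⟩) (by rw [nrE8]; decide))) hnt
  · have hi' := fun e he h1 => (((hi e he h1).resolve_left fun h => absurd h.1 (by norm_num)).resolve_left fun h =>
      absurd h.1 (by norm_num)).2
    obtain ⟨A, hA, hT, hc⟩ := hE.exists_plane hnt
    refine Or.inl ⟨⟨A, hA, hT, noroot hp (hE.mono hA).el hc (fun e he => hi' e (hA he)) (by norm_num)
      (by rw [nrE8]; norm_num)⟩, Or.inr (Or.inr (Or.inl ⟨rfl, rfl, ?_⟩))⟩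
    rw [← card_im (L := L) hL.le_S]
    exact card_le_of_dvd hE.el (pure_dvd hp hE.el hi') (by rw [nrE8]; decide)

end Types

variable {D : ChevalleyDatum} {l : ℕ} {M : CoxeterMatrix (Fin l)} {hp : IsType D l M} {p : ℕ} [Fact p.Prime]
  {G : Type} [Group G] [Finite G] {S H E : Subgroup G} {L : Lift hp p S} {r : ℕ}

/-- **The structure of `E`.** -/
theorem loc_cases (hJ2 : BoxJ2) (hJ3 : BoxJ3) (hP4 : BoxP4) (hP8 : BoxP8) (C : Ctx L H) (hL : Loc S H E r)
    (hE : EA p r (im L E)) : OutA L E r ∨ OutB L E r := by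
  have h := typ_l hp
  rcases C.typ with rfl | rfl | rfl | rfl
  · obtain rfl := h.1 rfl
    exact loc_F4 hJ2 hP4 C hL hE
  · obtain rfl := h.2.1 rfl
    exact loc_E6 hJ2 C hL hE
  · obtain rfl := h.2.2.1 rfl
    exact loc_E7 hJ2 hJ3 C hL hE
  · obtain rfl := h.2.2.2 rfl
    exact loc_E8 hJ2 hJ3 hP8 C hL hE

theorem inv_OZ {R : Subgroup (YY D p)} (hI : L.Inv H R) (φ : L.Γ) (hφ : L.π φ ∈ H) {z : YY D p} (hz : OZ r R z) :
    OZ r R ((φ : MulAut (YY D p)) z) :=
  ⟨hI φ hφ z hz.1, by rw [← map_pow, hz.2.1, map_one],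
    fun y hy => (comm_app φ (hz.2.2 _ (hI φ⁻¹ (π_inv hφ) y hy)).symm).symm⟩

/-- **The `H`-invariant `r`-subgroups.** -/
theorem rad_cases (C : Ctx L H) (hr' : r.Prime) {R : Subgroup G} (h0 : R ≠ ⊥) (hRS : R ≤ S)
    (hH : H ≤ Subgroup.normalizer (R : Set G)) (hR : IsPGroup r R) :
    (∃ E ≤ R, Loc S H E r ∧ EA p r (im L E) ∧ ∀ e ∈ im L E, OZ r (im L R) e ∧ ∀ z, OZ r (im L R) z → Tp p z e) ∨
    ((∀ x, OZ r (im L R) x → (∀ z, OZ r (im L R) z → Tp p z x) → x = 1) ∧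
      (∀ x ∈ R, ∀ y ∈ R, x * y = y * x) ∧ (∀ x ∈ R, x ^ r = 1) ∧
      (D = chevE6 ∧ r = 3 ∧ Nat.card R ≤ 3 ^ 6 ∨ D = chevE7 ∧ r = 2 ∧ Nat.card R ≤ 2 ^ 4)) := by
  have hS := C.setup.normal
  have hrp : r ≠ p := by
    rintro rfl
    exact h0 (C.noP R hRS hR hH)
  have hI : L.Inv H (im L R) := inv_im hS hH
  have hR' : IsPGroup r (im L R) := isPGroup_im hR
  obtain ⟨A, hA⟩ := exists_rad hp C.typ hr' hrp hR'
  by_cases hA0 : A = ⊥
  · have := finite_im L R
    have h1 : ∀ x, OZ r (im L R) x → (∀ z, OZ r (im L R) z → Tp p z x) → x = 1 := fun x h1 h2 =>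
      Subgroup.mem_bot.1 (hA0.le ((hA x).2 ⟨h1, h2⟩))
    obtain ⟨hE, h2⟩ := rad_bot hp C.typ hr' hrp hR' (im_ne_bot hRS h0) h1
    rw [card_im hRS] at h2
    refine Or.inr ⟨h1, fun x hx y hy => ?_, fun x hx => ?_, h2⟩
    · have h3 := hE.comm _ ((ι_mem_im (x := ⟨x, hRS hx⟩)).2 hx) _ ((ι_mem_im (x := ⟨y, hRS hy⟩)).2 hy)
      rw [← map_mul, ← map_mul] at h3
      exact congrArg Subtype.val (L.inj h3)
    · have h3 := hE.pow _ ((ι_mem_im (x := ⟨x, hRS hx⟩)).2 hx)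
      rw [← map_pow, ← map_one L.ι] at h3
      exact congrArg Subtype.val (L.inj h3)
  · have hAI : L.Inv H A := fun φ hφ a ha => by
      rw [hA] at ha ⊢
      refine ⟨inv_OZ hI φ hφ ha.1, fun z hz => ?_⟩
      have h1 := (ha.2 _ (inv_OZ hI φ⁻¹ (π_inv hφ) hz)).wfr (L.wfr φ φ.2)
      rwa [app_inv] at h1
    obtain ⟨E, r', hEA, hL⟩ := Gen.exists_loc C.setup (pb_le A) (norm_pb hS hAI) (fun h => hA0 (eq_bot_iff.2 fun a ha => by
      obtain ⟨x, -, rfl⟩ := ((hA a).1 ha).1.1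
      have h1 := (coe_mem_pb (L := L)).2 ha
      rw [h, Subgroup.mem_bot] at h1
      rw [show x = 1 from Subtype.ext h1, map_one]
      exact one_mem _)) fun x hx y hy => by
      obtain ⟨hx1, hx2⟩ := mem_pb.1 hx
      obtain ⟨hy1, hy2⟩ := mem_pb.1 hy
      have h3 := ((hA _).1 hy2).1.2.2 _ ((hA _).1 hx2).1.1
      rw [← map_mul, ← map_mul] at h3
      exact congrArg Subtype.val (L.inj h3)
    have h1 : ∀ e ∈ im L E, OZ r (im L R) e ∧ ∀ z, OZ r (im L R) z → Tp p z e := by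
      rintro _ ⟨x, hx, rfl⟩
      exact (hA _).1 (coe_mem_pb.1 (hEA hx))
    obtain rfl : r = r' := by
      obtain ⟨e, he, he1⟩ := exists_ne_im L hL
      have := Fact.mk hr'
      have := Fact.mk hL.prime
      have h2 : e ^ r' = 1 := by
        obtain ⟨x, hx, rfl⟩ := he
        rw [← map_pow, show x ^ r' = 1 from Subtype.ext (hL.pow x hx), map_one]
      rw [← orderOf_eq_prime (h1 e he).1.2.1 he1, orderOf_eq_prime h2 he1]
    refine Or.inl ⟨E, fun x hx => ?_, hL, ⟨hr', hrp, finite_im L E, fun x hx y hy => (h1 y hy).1.2.2 x (h1 x hx).1.1,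
      fun x hx => (h1 x hx).1.2.1, fun x hx y hy => (h1 y hy).2 x (h1 x hx).1⟩, h1⟩
    exact (ι_mem_im (x := ⟨x, hL.le_S hx⟩)).1 (h1 _ ((ι_mem_im (x := ⟨x, hL.le_S hx⟩)).2 hx)).1.1

theorem sd_sub (hr' : r.Prime) {R : Subgroup G} (hc : ∀ x ∈ R, ∀ y ∈ R, x * y = y * x) (hx : ∀ x ∈ R, x ^ r = 1)
    {n k : ℕ} (hn : n ≤ 8) (hR : Nat.card R ≤ r ^ n) (hk : Lin.rhoT n ≤ k) : SD k (MulAut R) :=
  Lin.sd_mulAut hr' (fun a b => Subtype.ext (hc a a.2 b b.2)) (fun a => Subtype.ext (hx a a.2)) hn hR hk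

theorem ps_of_outA (big : Big) (hL : Loc S H E r) (hE : EA p r (im L E)) (h : OutA L E r) : PS 9 H := by
  obtain ⟨⟨A, hA, hT, hF⟩, h1⟩ := h
  have hW := card_W hp
  have key : ∀ c d : ℕ, ¬ r ^ (2 ^ c + c) ∣ Nat.card M.Group → SD d (MulAut E) → 3 ≤ d → c + 1 + d ≤ 9 → PS 9 H :=
    fun c d h2 h3 h4 h5 => (NT.lemC big hL.toSetup hL.le_S hL.ne_bot hL.comm hL.norm.ge
      (PS.of_bot (stepC (hE.mono hA).el hA hT hF h2)) h3 h4).mono h5
  rcases h1 with ⟨e, rfl, h2⟩ | ⟨e, rfl, h2⟩ | ⟨e, rfl, h2⟩ | ⟨e, rfl, h2⟩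
  · exact key 1 5 (by rw [hW.1 e]; norm_num) (sd_sub hL.prime hL.comm hL.pow (by norm_num) h2 (by decide))
      (by norm_num) (by norm_num)
  · exact key 2 6 (by rw [hW.2.1 e]; norm_num) (sd_sub hL.prime hL.comm hL.pow (by norm_num) h2 (by decide))
      (by norm_num) (by norm_num)
  · exact key 1 5 (by rw [hW.2.2.2 e]; norm_num) (sd_sub hL.prime hL.comm hL.pow (by norm_num) h2 (by decide))
      (by norm_num) (by norm_num)
  · exact key 4 4 (by rw [hW.2.2.2 e]; norm_num) (NT.sd_mulAut_two_sub hL.comm hL.pow h2) (by norm_num) (by norm_num)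

theorem ps_of_outB (big : Big) (hL : Loc S H E r) (h : OutB L E r) : PS 9 H := by
  obtain ⟨⟨i, d, J, -, -, hD⟩, h1⟩ := h
  have h2 : derivedSeries ↥(Subgroup.centralizer (E : Set G) ⊓ S) 1 = ⊥ := by
    rw [derivedSeries_succ, Subgroup.commutator_eq_bot_iff_le_centralizer]
    intro x _
    exact Subgroup.mem_centralizer_iff.2 fun y _ => Subtype.ext (hD.comm y y.2 x x.2)
  have h3 : Nat.card E ≤ r ^ 8 := by
    generalize Nat.card E = n at h1 ⊢
    rcases h1 with ⟨-, e, h⟩ | ⟨-, e, h⟩ | ⟨-, e, h⟩ | ⟨-, e, h⟩ | ⟨-, e, h⟩ | ⟨-, e, h⟩ <;> rw [e] <;> omega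
  have h4 : PS (1 + 8) H := NT.lemC big hL.toSetup hL.le_S hL.ne_bot hL.comm hL.norm.ge (PS.of_bot h2)
    (sd_sub (k := 8) hL.prime hL.comm hL.pow le_rfl h3 (by decide)) (by norm_num)
  exact h4

theorem ps_of_ctx (hJ2 : BoxJ2) (hJ3 : BoxJ3) (hP4 : BoxP4) (hP8 : BoxP8) (big : Big) (C : Ctx L H) : PS 9 H := by
  by_contra hn
  refine hn (NT.stepA' big C.setup p (fun s hs h1 h2 => rank_S C.typ L hs h1 h2) fun r hr' R h0 hRS hH hR => ?_)
  rcases rad_cases C hr' h0 hRS hH hR with ⟨E, -, hL, hE, -⟩ | ⟨-, h1, h2, h3⟩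
  · exact absurd ((loc_cases hJ2 hJ3 hP4 hP8 C hL hE).elim (ps_of_outA big hL hE) (ps_of_outB big hL)) hn
  · refine ⟨h1, sd_sub (n := 8) hr' h1 h2 le_rfl ?_ (by decide)⟩
    rcases h3 with ⟨-, rfl, h⟩ | ⟨-, rfl, h⟩ <;> omega

/-- **The non-toral case.** -/
theorem boxNonTor_of (hJ2 : BoxJ2) (hJ3 : BoxJ3) (hP4 : BoxP4) (hP8 : BoxP8) : BoxNonTor := by
  intro big D l M hp hD p _ G _ _ S H E r hL q m A _ L h1 _ hQ hA
  exact ps_of_ctx hJ2 hJ3 hP4 hP8 big (L := L) ⟨hD, hL.toSetup, ⟨m.g, by rw [h1]; exact m.fr⟩, hQ, hA⟩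

end Cfsg.Agent.DS.Nt
end

-- part: DS/Nt/JTwo
section
/-!
# S5881, the non-toral local case: the subgroups `J z ≅ SL₂(k)` of the highest root (helper55)

* `js_two`; `boxJ2_of` : `BoxJ2` from the classes of the involutions of the torus of `E₈`.
-/

set_option autoImplicit false
set_option linter.unusedSectionVars false

namespace Cfsg.Agent.DS.Nt

open CoxeterSystem Cfsg Cfsg.Lie Cfsg.Lie.ChevalleyDatum
open Cfsg.Agent.ChevalleyStructure Cfsg.Agent.ChevalleyStructure.Elts Cfsg.Agent.ChevalleyStructure.CoxeterGeom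
  Cfsg.Agent.ChevalleyStructure.CoxeterGeomTypes Cfsg.Agent.ChevalleyStructure.RootVec
open Cfsg.Agent.Tits.Roots Cfsg.Agent.Tits.Core Cfsg.Agent.Nodes Cfsg.Agent.Nodes.RGDChev
open Cfsg.Agent.KFacts.RgdField Cfsg.Agent.KFacts.RgdChevCoord
open Cfsg.Agent.H469.Exc Cfsg.Agent.H469.Exc.SigFr Cfsg.Agent.H129.TorusChar Cfsg.Agent.DS.Ex
open Cfsg.Agent.H81.TorOrth
open Cfsg.Agent.ChevalleyStructure.SL2Hom (up lo)
open Matrix.SpecialLinearGroup (transvection)

theorem tv_up {k : Type*} [Field k] (h : (0 : Fin 2) ≠ 1) (c : k) : transvection h c = up c := by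
  apply Subtype.ext
  show (1 : Matrix (Fin 2) (Fin 2) k) + Matrix.single 0 1 c = !![1, c; 0, 1]
  ext i j
  fin_cases i <;> fin_cases j <;> simp

theorem tv_lo {k : Type*} [Field k] (h : (1 : Fin 2) ≠ 0) (c : k) : transvection h c = lo c := by
  apply Subtype.ext
  show (1 : Matrix (Fin 2) (Fin 2) k) + Matrix.single 1 0 c = !![1, 0; c, 1]
  ext i j
  fin_cases i <;> fin_cases j <;> simp

theorem js_two {D : ChevalleyDatum} {l : ℕ} {M : CoxeterMatrix (Fin l)} (hp : IsType D l M) (p : ℕ) [Fact p.Prime]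
    (h2p : p ≠ 2) {i : Fin l} {cf : List (ℕ × ℤ)} (T : Tab D 2 i (rho2 D) cf)
    (h : ∀ j < D.rank, 0 ≤ rt D (D.nroots - 1) j) (h8 : D = chevE8 → Q8 hp p i) : ∃ J, JS hp p 2 i J := by
  have h01 : (0 : Fin 2) ≠ 1 := by decide
  have hs : D.nroots - 1 < D.nroots := T.lt h01
  have h6 : ∀ a b : Fin 2, a ≠ b → (a = 0 ∧ b = 1) ∨ (a = 1 ∧ b = 0) := by decide
  have m1 : vec D l (D.nroots - 1) ∈ SR D l (rho2 D) := ⟨0, 1, h01, rfl⟩
  have hall : ∀ x ∈ SR D l (rho2 D), x = vec D l (D.nroots - 1) ∨ x = -vec D l (D.nroots - 1) := by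
    rintro _ ⟨a, b, hab, rfl⟩
    rcases h6 a b hab with ⟨rfl, rfl⟩ | ⟨rfl, rfl⟩
    · exact Or.inl rfl
    · exact Or.inr (by rw [T.neg h01]; exact vec_neg hp hs)
  have h0 : 0 ≤ vec D l (D.nroots - 1) := fun j => h j (lt_rank hp j)
  have J : JD hp p 2 i (rho2 D) cf (ps hp hs) := by
    refine ⟨Nat.prime_two, h2p.symm, by norm_num, T, fun a b hab c => ?_, 0, 1, h01, 1, by norm_num, fun g hg hpos => ?_⟩
    · rcases h6 a b hab with ⟨rfl, rfl⟩ | ⟨rfl, rfl⟩
      · rw [tv_up, ps_up]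
        rfl
      · rw [tv_lo, ps_lo, T.neg h01]
        rfl
    · have h1 : g (vec D l (D.nroots - 1)) = vec D l (D.nroots - 1) := by
        refine (hall _ (hg _ m1)).resolve_right fun e => ?_
        have h2 := hpos _ m1 h0
        rw [e] at h2
        exact (T.root hp m1).not_pos_neg h0 (neg_nonneg.1 h2)
      refine ⟨h1, fun x hx => ?_⟩
      show g x = x
      rcases hall x hx with e | e
      · rw [e, h1]
      · rw [e, map_neg, h1]
  refine ⟨_, J.js fun hD _ ζ t hζ ht x hx hx2 => ?_⟩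
  have h1 : (∀ a ∈ SR D l (rho2 D), cX hp x a = 1) ↔ cX hp x (vec D l (D.nroots - 1)) = 1 := by
    refine ⟨fun h => h _ m1, fun h a ha => ?_⟩
    rcases hall a ha with e | e
    · rw [e, h]
    · rw [e, (isMC_cX hp hx).neg, h, inv_one]
  rw [h1]
  exact h8 hD ζ t hζ ht x hx hx2

theorem tab_F4_2 : Tab chevF4 2 3 (rho2 chevF4) [(47, 1)] :=
  ⟨by decide +kernel, by decide +kernel, by decide +kernel, by decide +kernel⟩

theorem tab_E6_2 : Tab chevE6 2 1 (rho2 chevE6) [(71, 1)] :=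
  ⟨by decide +kernel, by (refine of_decide_eq_true ?_; delta Cfsg.Agent.DS.Nt.TabB Cfsg.Agent.DS.Nt.instDecTabB; rewrite [Cfsg.Agent.ChevFast.E6.commTerms]; decide +kernel), by decide +kernel, by decide +kernel⟩

theorem tab_E7_2 : Tab chevE7 2 0 (rho2 chevE7) [(125, 1)] :=
  ⟨by decide +kernel, by (refine of_decide_eq_true ?_; delta Cfsg.Agent.DS.Nt.TabB Cfsg.Agent.DS.Nt.instDecTabB; rewrite [Cfsg.Agent.ChevFast.E7.commTerms]; decide +kernel), by decide +kernel, by (refine of_decide_eq_true ?_; delta Cfsg.Agent.ChevalleyStructure.RootCombGood.car Cfsg.Agent.ChevalleyStructure.RootCombGood.co Cfsg.Agent.DS.Nt.TabD Cfsg.Agent.DS.Nt.instDecTabD; rewrite [Cfsg.Agent.ChevFast.E7.cartan, Cfsg.Agent.ChevFast.E7.coroot]; decide +kernel)⟩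

theorem tab_E8_2 : Tab chevE8 2 7 (rho2 chevE8) [(239, 1)] :=
  ⟨by decide +kernel, by (refine of_decide_eq_true ?_; delta Cfsg.Agent.DS.Nt.TabB Cfsg.Agent.DS.Nt.instDecTabB; rewrite [Cfsg.Agent.ChevFast.E8.commTerms]; decide +kernel), by decide +kernel, by (refine of_decide_eq_true ?_; delta Cfsg.Agent.ChevalleyStructure.RootCombGood.car Cfsg.Agent.ChevalleyStructure.RootCombGood.co Cfsg.Agent.DS.Nt.TabD Cfsg.Agent.DS.Nt.instDecTabD; rewrite [Cfsg.Agent.ChevFast.E8.cartan, Cfsg.Agent.ChevFast.E8.coroot]; decide +kernel)⟩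

/-- **[J2]** from the table of `E₈` -/
theorem boxJ2_of (h8 : ∀ (M : CoxeterMatrix (Fin 8)) (hp : IsType chevE8 8 M) (p : ℕ) [Fact p.Prime], p ≠ 2 →
    Q8 hp p 7) : BoxJ2 := by
  intro D l M hp p _ h2 i hD
  have hne : ∀ {D : ChevalleyDatum}, D.rank ≠ 8 → D ≠ chevE8 := by
    rintro D h rfl
    exact h (by decide +kernel)
  rcases hD with ⟨rfl, hi⟩ | ⟨rfl, hi⟩ | ⟨rfl, hi⟩ | ⟨rfl, hi⟩
  · exact js_two hp p h2 (cf := [(47, 1)]) (by rw [hi]; exact tab_F4_2) (by decide +kernel)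
      fun h => absurd h (hne (by decide +kernel))
  · exact js_two hp p h2 (cf := [(71, 1)]) (by rw [hi]; exact tab_E6_2) (by decide +kernel)
      fun h => absurd h (hne (by decide +kernel))
  · exact js_two hp p h2 (cf := [(125, 1)]) (by rw [hi]; exact tab_E7_2) (by decide +kernel)
      fun h => absurd h (hne (by decide +kernel))
  · obtain rfl := (typ_l hp).2.2.2 rfl
    obtain rfl : i = 7 := Fin.ext hi
    exact js_two hp p h2 (cf := [(239, 1)]) tab_E8_2 (by decide +kernel) fun _ => h8 M hp p h2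

end Cfsg.Agent.DS.Nt
end

-- part: DS/Nt/J2E8
section
/-!
# The box `BoxJ2` (helper98): the hypothesis `Q8`
-/

set_option autoImplicit false

namespace Cfsg.Agent.DS.Nt.J2

open CoxeterSystem Cfsg Cfsg.Lie Cfsg.Lie.ChevalleyDatum
open Cfsg.Agent.ChevalleyStructure Cfsg.Agent.ChevalleyStructure.Elts Cfsg.Agent.ChevalleyStructure.CoxeterGeom
  Cfsg.Agent.ChevalleyStructure.CoxeterGeomTypes
open Cfsg.Agent.Tits.Roots Cfsg.Agent.Tits.Core Cfsg.Agent.Nodes Cfsg.Agent.Nodes.Reps Cfsg.Agent.Nodes.BNOf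
  Cfsg.Agent.Nodes.RGDChev Cfsg.Agent.Nodes.Bruhat

theorem q8_E8 {M : CoxeterMatrix (Fin 8)} (hp : IsType chevE8 8 M) (p : ℕ) [Fact p.Prime] (_h2 : p ≠ 2) : Q8 hp p 7 :=
  fun _ _ hζ ht _ hx hx2 => q8_std hp hζ ht hx hx2

end Cfsg.Agent.DS.Nt.J2
end

-- part: DS/Nt/JBox
section
/-!
# S5881, the non-toral local case: the boxes `BoxJ2`, `BoxJ3` (helper55, helper98)
-/

set_option autoImplicit false

namespace Cfsg.Agent.DS.Nt

/-- **[J2]** -/
theorem boxJ2 : BoxJ2 := boxJ2_of fun _ hp p _ h2 => J2.q8_E8 hp p h2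

end Cfsg.Agent.DS.Nt
end

-- part: DS/Nt/Box
section
/-!
# S5881, exceptional groups: the non-toral local case (helper86)
-/

set_option autoImplicit false

namespace Cfsg.Agent.DS.Nt

open Cfsg Cfsg.Lie Cfsg.Agent.DS.Ex Cfsg.Agent.ChevalleyStructure Cfsg.Agent.Nodes.RGDChev

/-- **The non-toral case.** -/
theorem boxNonTor : BoxNonTor := boxNonTor_of boxJ2 boxJ3 P4.boxP4 P8.boxP8

/-- **The structure of `E`**, without hypotheses -/
theorem loc_struct {D : ChevalleyDatum} {l : ℕ} {M : CoxeterMatrix (Fin l)} {hp : IsType D l M} {p : ℕ} [Fact p.Prime]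
    {G : Type} [Group G] [Finite G] {S H E : Subgroup G} {L : Lift hp p S} {r : ℕ} (C : Ctx L H) (hL : Loc S H E r)
    (hE : EA p r (im L E)) : OutA L E r ∨ OutB L E r :=
  loc_cases boxJ2 boxJ3 P4.boxP4 P8.boxP8 C hL hE

end Cfsg.Agent.DS.Nt
end

private theorem dce_8159c93c62dd : _root_.True := by
  try have : _root_.True := by simp only [_root_.Cfsg.Agent.DS.NT.Vec.sub.congr_simp]
  exact _root_.True.intro
end
end
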